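import Mathlib

/-!
# Gluing two schemes along a common open: pushouts of open immersions (helper5)
-/

set_option autoImplicit false

open CategoryTheory CategoryTheory.Limits AlgebraicGeometry TopologicalSpace

namespace Groth.Agent.H5.NApprox

universe u

section Pushout

variable {W X Y : Scheme.{u}} (f : W ⟶ X) (g : W ⟶ Y) [IsOpenImmersion f] [IsOpenImmersion g]

instance spanOI : ∀ {i j : WalkingSpan} (a : i ⟶ j), IsOpenImmersion ((span f g).map a) := by
  intro i j a
  change WidePushoutShape.Hom i j at a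
  cases a with
  | id =>
    have : (span f g).map (WidePushoutShape.Hom.id i) = 𝟙 _ := (span f g).map_id i
    rw [this]; infer_instance
  | init k =>
    cases k
    · exact (inferInstance : IsOpenImmersion f)
    · exact (inferInstance : IsOpenImmersion g)

instance inl_isOpenImmersion : IsOpenImmersion (pushout.inl f g) := by
  change IsOpenImmersion (colimit.ι (span f g) WalkingSpan.left)
  infer_instance

instance inr_isOpenImmersion : IsOpenImmersion (pushout.inr f g) := by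
  change IsOpenImmersion (colimit.ι (span f g) WalkingSpan.right)
  infer_instance

theorem pushout_cover (x : ↑(pushout f g)) :
    x ∈ Set.range (pushout.inl f g) ∨ x ∈ Set.range (pushout.inr f g) := by
  obtain ⟨i, xi, h⟩ := Scheme.IsLocallyDirected.ι_jointly_surjective (span f g) x
  rcases i with _ | i
  · left
    refine ⟨f xi, ?_⟩
    have e : f ≫ pushout.inl f g = colimit.ι (span f g) none :=
      colimit.w (span f g) (WalkingSpan.Hom.fst)
    rw [← h, ← Scheme.Hom.comp_apply, e]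
    rfl
  · cases i
    · left; exact ⟨xi, h⟩
    · right; exact ⟨xi, h⟩

theorem inl_eq_inr_iff {a : X} {b : Y} :
    pushout.inl f g a = pushout.inr f g b ↔ ∃ c : W, f c = a ∧ g c = b := by
  constructor
  · intro h
    obtain ⟨k, fi, fj, x, hx1, hx2⟩ :=
      (Scheme.IsLocallyDirected.ι_eq_ι_iff (F := span f g) (i := WalkingSpan.left)
        (j := WalkingSpan.right) (xi := a) (xj := b)).mp h
    change WidePushoutShape.Hom k _ at fi
    change WidePushoutShape.Hom k _ at fj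
    cases fi with
    | id => cases fj
    | init _ =>
      cases fj with
      | init _ => exact ⟨x, hx1, hx2⟩
  · rintro ⟨c, rfl, rfl⟩
    rw [← Scheme.Hom.comp_apply, ← Scheme.Hom.comp_apply, pushout.condition]

end Pushout

/-- A gluing datum: two schemes with a common open subscheme. -/
structure GD where
  V : Scheme.{u}
  W : Scheme.{u}
  P : Scheme.{u}
  i₁ : W ⟶ V
  i₂ : W ⟶ P
  [oi₁ : IsOpenImmersion i₁]
  [oi₂ : IsOpenImmersion i₂]

attribute [instance] GD.oi₁ GD.oi₂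

namespace GD

variable (G : GD.{u})

noncomputable def glued : Scheme.{u} := pushout G.i₁ G.i₂

noncomputable def inl : G.V ⟶ G.glued := pushout.inl _ _

noncomputable def inr : G.P ⟶ G.glued := pushout.inr _ _

instance : IsOpenImmersion G.inl := inl_isOpenImmersion _ _

instance : IsOpenImmersion G.inr := inr_isOpenImmersion _ _

@[reassoc]
theorem condition : G.i₁ ≫ G.inl = G.i₂ ≫ G.inr := pushout.condition

theorem cover (x : G.glued) : x ∈ Set.range G.inl ∨ x ∈ Set.range G.inr :=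
  pushout_cover _ _ x

theorem inl_eq_inr_iff {a : G.V} {b : G.P} :
    G.inl a = G.inr b ↔ ∃ c : G.W, G.i₁ c = a ∧ G.i₂ c = b :=
  Groth.Agent.H5.NApprox.inl_eq_inr_iff _ _

theorem inl_injective : Function.Injective G.inl := G.inl.isOpenEmbedding.injective

theorem inr_injective : Function.Injective G.inr := G.inr.isOpenEmbedding.injective

noncomputable def desc {T : Scheme.{u}} (a : G.V ⟶ T) (b : G.P ⟶ T) (h : G.i₁ ≫ a = G.i₂ ≫ b) :
    G.glued ⟶ T := pushout.desc a b h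

@[reassoc (attr := simp)]
theorem inl_desc {T : Scheme.{u}} (a : G.V ⟶ T) (b : G.P ⟶ T) (h : G.i₁ ≫ a = G.i₂ ≫ b) :
    G.inl ≫ G.desc a b h = a := pushout.inl_desc _ _ _

@[reassoc (attr := simp)]
theorem inr_desc {T : Scheme.{u}} (a : G.V ⟶ T) (b : G.P ⟶ T) (h : G.i₁ ≫ a = G.i₂ ≫ b) :
    G.inr ≫ G.desc a b h = b := pushout.inr_desc _ _ _

theorem hom_ext {T : Scheme.{u}} {a b : G.glued ⟶ T} (h₁ : G.inl ≫ a = G.inl ≫ b)
    (h₂ : G.inr ≫ a = G.inr ≫ b) : a = b := pushout.hom_ext h₁ h₂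

/-- A morphism of gluing data (cartesian on the common open, set-theoretically). -/
structure Hom (G G' : GD.{u}) where
  v : G.V ⟶ G'.V
  w : G.W ⟶ G'.W
  p : G.P ⟶ G'.P
  hv : G.i₁ ≫ v = w ≫ G'.i₁
  hp : G.i₂ ≫ p = w ≫ G'.i₂
  c₁ : ∀ a : G.V, v a ∈ Set.range G'.i₁ → a ∈ Set.range G.i₁
  c₂ : ∀ b : G.P, p b ∈ Set.range G'.i₂ → b ∈ Set.range G.i₂

namespace Hom

variable {G} {G' G'' : GD.{u}} (φ : Hom G G')

noncomputable def glue : G.glued ⟶ G'.glued :=
  G.desc (φ.v ≫ G'.inl) (φ.p ≫ G'.inr) (by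
    rw [← Category.assoc, φ.hv, Category.assoc, G'.condition, ← Category.assoc, ← φ.hp,
      Category.assoc])

@[reassoc (attr := simp)]
theorem inl_glue : G.inl ≫ φ.glue = φ.v ≫ G'.inl := G.inl_desc _ _ _

@[reassoc (attr := simp)]
theorem inr_glue : G.inr ≫ φ.glue = φ.p ≫ G'.inr := G.inr_desc _ _ _

theorem glue_inl_apply (a : G.V) : φ.glue (G.inl a) = G'.inl (φ.v a) := by
  rw [← Scheme.Hom.comp_apply, inl_glue, Scheme.Hom.comp_apply]

theorem glue_inr_apply (b : G.P) : φ.glue (G.inr b) = G'.inr (φ.p b) := by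
  rw [← Scheme.Hom.comp_apply, inr_glue, Scheme.Hom.comp_apply]

/-- The preimage of the `V`-part is the `V`-part. -/
theorem glue_mem_range_inl_iff (z : G.glued) :
    φ.glue z ∈ Set.range G'.inl ↔ z ∈ Set.range G.inl := by
  constructor
  · rintro ⟨y', hy'⟩
    rcases G.cover z with hz | ⟨b, rfl⟩
    · exact hz
    · rw [glue_inr_apply] at hy'
      obtain ⟨c', hc1, hc2⟩ := G'.inl_eq_inr_iff.mp hy'
      obtain ⟨c, rfl⟩ := φ.c₂ b ⟨c', hc2⟩
      refine ⟨G.i₁ c, ?_⟩
      rw [← Scheme.Hom.comp_apply, G.condition, Scheme.Hom.comp_apply]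
  · rintro ⟨a, rfl⟩
    exact ⟨φ.v a, (glue_inl_apply φ a).symm⟩

theorem glue_mem_range_inr_iff (z : G.glued) :
    φ.glue z ∈ Set.range G'.inr ↔ z ∈ Set.range G.inr := by
  constructor
  · rintro ⟨y', hy'⟩
    rcases G.cover z with ⟨a, rfl⟩ | hz
    · rw [glue_inl_apply] at hy'
      obtain ⟨c', hc1, hc2⟩ := G'.inl_eq_inr_iff.mp hy'.symm
      obtain ⟨c, rfl⟩ := φ.c₁ a ⟨c', hc1⟩
      refine ⟨G.i₂ c, ?_⟩
      rw [← Scheme.Hom.comp_apply, ← G.condition, Scheme.Hom.comp_apply]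
    · exact hz
  · rintro ⟨b, rfl⟩
    exact ⟨φ.p b, (glue_inr_apply φ b).symm⟩

theorem glue_preimage_inl (O : G'.V.Opens) :
    φ.glue ⁻¹ᵁ (G'.inl ''ᵁ O) = G.inl ''ᵁ (φ.v ⁻¹ᵁ O) := by
  ext z
  simp only [SetLike.mem_coe, Scheme.Hom.mem_preimage]
  constructor
  · rintro ⟨y', hy'O, hy'⟩
    obtain ⟨a, rfl⟩ := (glue_mem_range_inl_iff φ z).mp ⟨y', hy'⟩
    refine ⟨a, ?_, rfl⟩
    rw [glue_inl_apply] at hy'
    have := G'.inl_injective hy'
    subst this
    exact hy'O
  · rintro ⟨a, haO, rfl⟩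
    exact ⟨φ.v a, haO, (glue_inl_apply φ a).symm⟩

theorem glue_preimage_inr (O : G'.P.Opens) :
    φ.glue ⁻¹ᵁ (G'.inr ''ᵁ O) = G.inr ''ᵁ (φ.p ⁻¹ᵁ O) := by
  ext z
  simp only [SetLike.mem_coe, Scheme.Hom.mem_preimage]
  constructor
  · rintro ⟨y', hy'O, hy'⟩
    obtain ⟨b, rfl⟩ := (glue_mem_range_inr_iff φ z).mp ⟨y', hy'⟩
    refine ⟨b, ?_, rfl⟩
    rw [glue_inr_apply] at hy'
    have := G'.inr_injective hy'
    subst this
    exact hy'O
  · rintro ⟨b, hbO, rfl⟩
    exact ⟨φ.p b, hbO, (glue_inr_apply φ b).symm⟩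

theorem glue_isAffineHom [IsAffineHom φ.v] [IsAffineHom φ.p] : IsAffineHom φ.glue := by
  apply isAffineHom_of_forall_exists_isAffineOpen
  intro x
  rcases G'.cover x with ⟨a, rfl⟩ | ⟨b, rfl⟩
  · obtain ⟨_, ⟨O, hO : IsAffineOpen O, rfl⟩, haO, -⟩ :=
      G'.V.isBasis_affineOpens.exists_subset_of_mem_open (Set.mem_univ a) isOpen_univ
    refine ⟨G'.inl ''ᵁ O, ⟨a, haO, rfl⟩, hO.image_of_isOpenImmersion G'.inl, ?_⟩
    rw [glue_preimage_inl]
    exact (hO.preimage φ.v).image_of_isOpenImmersion G.inl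
  · obtain ⟨_, ⟨O, hO : IsAffineOpen O, rfl⟩, hbO, -⟩ :=
      G'.P.isBasis_affineOpens.exists_subset_of_mem_open (Set.mem_univ b) isOpen_univ
    refine ⟨G'.inr ''ᵁ O, ⟨b, hbO, rfl⟩, hO.image_of_isOpenImmersion G'.inr, ?_⟩
    rw [glue_preimage_inr]
    exact (hO.preimage φ.p).image_of_isOpenImmersion G.inr

theorem glue_comp_eq (ψ : Hom G' G'') (χ : Hom G G'') (hv : φ.v ≫ ψ.v = χ.v)
    (hp : φ.p ≫ ψ.p = χ.p) : φ.glue ≫ ψ.glue = χ.glue := by
  apply G.hom_ext
  · rw [inl_glue_assoc, inl_glue, inl_glue, ← Category.assoc, hv]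
  · rw [inr_glue_assoc, inr_glue, inr_glue, ← Category.assoc, hp]

theorem glue_eq_id (χ : Hom G G) (hv : χ.v = 𝟙 _) (hp : χ.p = 𝟙 _) : χ.glue = 𝟙 _ := by
  apply G.hom_ext
  · rw [inl_glue, hv, Category.id_comp, Category.comp_id]
  · rw [inr_glue, hp, Category.id_comp, Category.comp_id]

end Hom

/-- The glued scheme is quasi-compact if both pieces are. -/
theorem compactSpace_glued [CompactSpace G.V] [CompactSpace G.P] : CompactSpace G.glued := by
  constructor
  have h : (Set.univ : Set G.glued) = Set.range G.inl ∪ Set.range G.inr := by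
    ext x; simpa using G.cover x
  rw [h]
  exact (isCompact_range G.inl.continuous).union (isCompact_range G.inr.continuous)

end GD

end Groth.Agent.H5.NApprox
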