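import Mathlib
import Groth.Agent.Lib.Helper5.NApprox.GlueA

/-!
# Morphisms to affine schemes and an open immersion criterion (helper5)
-/

set_option autoImplicit false

namespace Groth.Agent.H5.NApprox

open AlgebraicGeometry CategoryTheory Opposite

universe u

section ToSpec

variable {X Y : Scheme.{u}} {A A' : CommRingCat.{u}}

/-- morphism to an affine scheme from a ring map -/
noncomputable def toSpec (φ : A ⟶ Γ(X, ⊤)) : X ⟶ Spec A := X.toSpecΓ ≫ Spec.map φ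

/-- the ring map of a morphism to an affine scheme -/
noncomputable def Γmap (f : X ⟶ Spec A) : A ⟶ Γ(X, ⊤) := (Scheme.ΓSpecIso A).inv ≫ f.appTop

theorem Γmap_toSpec (φ : A ⟶ Γ(X, ⊤)) : Γmap (toSpec φ) = φ := by
  unfold Γmap toSpec
  rw [Scheme.Hom.comp_appTop, Scheme.toSpecΓ_appTop, ← Category.assoc,
    ← Scheme.ΓSpecIso_inv_naturality, Category.assoc, Iso.inv_hom_id, Category.comp_id]

theorem toSpec_Γmap (f : X ⟶ Spec A) : toSpec (Γmap f) = f := by
  unfold Γmap toSpec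
  rw [Spec.map_comp, ← Scheme.toSpecΓ_naturality_assoc, toSpecΓ_SpecMap_ΓSpecIso_inv,
    Category.comp_id]

theorem hom_ext_Spec {f g : X ⟶ Spec A} (h : Γmap f = Γmap g) : f = g := by
  rw [← toSpec_Γmap f, ← toSpec_Γmap g, h]

theorem comp_toSpec (h : Y ⟶ X) (φ : A ⟶ Γ(X, ⊤)) :
    h ≫ toSpec φ = toSpec (φ ≫ h.appTop) := by
  unfold toSpec
  rw [Spec.map_comp, ← Scheme.toSpecΓ_naturality_assoc]

theorem toSpec_SpecMap (φ : A ⟶ Γ(X, ⊤)) (χ : A' ⟶ A) :
    toSpec φ ≫ Spec.map χ = toSpec (χ ≫ φ) := by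
  unfold toSpec
  rw [Spec.map_comp, Category.assoc]

theorem Γmap_comp (h : Y ⟶ X) (f : X ⟶ Spec A) : Γmap (h ≫ f) = Γmap f ≫ h.appTop := by
  unfold Γmap
  rw [Scheme.Hom.comp_appTop, Category.assoc]

theorem Γmap_SpecMap (f : X ⟶ Spec A) (χ : A' ⟶ A) : Γmap (f ≫ Spec.map χ) = χ ≫ Γmap f := by
  unfold Γmap
  rw [Scheme.Hom.comp_appTop, ← Category.assoc, ← Scheme.ΓSpecIso_inv_naturality, Category.assoc]

theorem toSpec_preimage_basicOpen (φ : A ⟶ Γ(X, ⊤)) (a : A) :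
    toSpec φ ⁻¹ᵁ (PrimeSpectrum.basicOpen a) = X.basicOpen (φ a) := by
  unfold toSpec
  rw [Scheme.Hom.comp_preimage, SpecMap_preimage_basicOpen, Scheme.toSpecΓ_preimage_basicOpen]

theorem ι_toSpec (φ : A ⟶ Γ(X, ⊤)) (U : X.Opens) :
    U.ι ≫ toSpec φ = U.toSpecΓ ≫ Spec.map (φ ≫ X.presheaf.map (homOfLE le_top).op) := by
  unfold toSpec
  rw [Spec.map_comp, Scheme.Opens.toSpecΓ_SpecMap_presheaf_map_top_assoc]

/-- open immersion criterion for a morphism to an affine scheme -/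
theorem toSpec_isOpenImmersion (φ : A ⟶ Γ(X, ⊤)) {L : Type*} (β : L → A)
    (hcov : ⨆ l, X.basicOpen (φ (β l)) = ⊤)
    (haff : ∀ l, IsAffineOpen (X.basicOpen (φ (β l))))
    (hoi : ∀ l, IsOpenImmersion (Spec.map (φ ≫ X.presheaf.map
      (homOfLE (le_top : X.basicOpen (φ (β l)) ≤ ⊤)).op))) :
    IsOpenImmersion (toSpec φ) := by
  have hι : ∀ l, IsOpenImmersion ((X.basicOpen (φ (β l))).ι ≫ toSpec φ) := by
    intro l
    rw [ι_toSpec]
    haveI := hoi l
    haveI : IsIso (X.basicOpen (φ (β l))).toSpecΓ := by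
      rw [← (haff l).isoSpec_hom]; infer_instance
    infer_instance
  have hmem : ∀ (l : L) (x : X), toSpec φ x ∈ PrimeSpectrum.basicOpen (β l) ↔
      x ∈ X.basicOpen (φ (β l)) := by
    intro l x
    rw [← toSpec_preimage_basicOpen]
    rfl
  have hex : ∀ x : X, ∃ l, x ∈ X.basicOpen (φ (β l)) := by
    intro x
    have : x ∈ (⊤ : X.Opens) := trivial
    rw [← hcov] at this
    exact TopologicalSpace.Opens.mem_iSup.mp this
  apply IsOpenImmersion.of_forall_source_exists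
  · intro x y hxy
    obtain ⟨l, hl⟩ := hex x
    have hy : y ∈ X.basicOpen (φ (β l)) := by
      rw [← hmem, ← hxy, hmem]; exact hl
    haveI := hι l
    have hinj := ((X.basicOpen (φ (β l))).ι ≫ toSpec φ).isOpenEmbedding.injective
    have : (⟨x, hl⟩ : X.basicOpen (φ (β l))) = ⟨y, hy⟩ := by
      apply hinj
      rw [Scheme.Hom.comp_apply, Scheme.Hom.comp_apply]
      exact hxy
    exact congrArg Subtype.val this
  · intro x
    obtain ⟨l, hl⟩ := hex x
    refine ⟨_, (X.basicOpen (φ (β l))).ι, inferInstance, ?_, hι l⟩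
    rw [Scheme.Opens.opensRange_ι]
    exact hl

/-- the range of such a morphism -/
theorem range_toSpec (φ : A ⟶ Γ(X, ⊤)) {L : Type*} (β : L → A)
    (hcov : ⨆ l, X.basicOpen (φ (β l)) = ⊤)
    (haff : ∀ l, IsAffineOpen (X.basicOpen (φ (β l))))
    (hr : ∀ l, Set.range (Spec.map (φ ≫ X.presheaf.map
      (homOfLE (le_top : X.basicOpen (φ (β l)) ≤ ⊤)).op)) =
        (PrimeSpectrum.basicOpen (β l) : Set (PrimeSpectrum A))) :
    Set.range (toSpec φ) = ⋃ l, (PrimeSpectrum.basicOpen (β l) : Set (PrimeSpectrum A)) := by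
  have hι : ∀ l, Set.range ((X.basicOpen (φ (β l))).ι ≫ toSpec φ) =
      (PrimeSpectrum.basicOpen (β l) : Set (PrimeSpectrum A)) := by
    intro l
    rw [ι_toSpec, ← hr l]
    haveI : IsIso (X.basicOpen (φ (β l))).toSpecΓ := by
      rw [← (haff l).isoSpec_hom]; infer_instance
    rw [Scheme.Hom.comp_base, TopCat.coe_comp, Set.range_comp]
    have hs : Function.Surjective (X.basicOpen (φ (β l))).toSpecΓ :=
      (ConcreteCategory.bijective_of_isIso (X.basicOpen (φ (β l))).toSpecΓ.base).2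
    rw [hs.range_eq, Set.image_univ]
  apply Set.Subset.antisymm
  · rintro _ ⟨x, rfl⟩
    have : x ∈ (⊤ : X.Opens) := trivial
    rw [← hcov] at this
    obtain ⟨l, hl⟩ := TopologicalSpace.Opens.mem_iSup.mp this
    refine Set.mem_iUnion.mpr ⟨l, ?_⟩
    rw [← hι l]
    exact ⟨⟨x, hl⟩, by rw [Scheme.Hom.comp_apply]; rfl⟩
  · intro z hz
    obtain ⟨l, hl⟩ := Set.mem_iUnion.mp hz
    rw [← hι l] at hl
    obtain ⟨y, rfl⟩ := hl
    exact ⟨(X.basicOpen (φ (β l))).ι y, by rw [Scheme.Hom.comp_apply]⟩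

end ToSpec

end Groth.Agent.H5.NApprox
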