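import Mathlib
import Groth.Agent.Lib.Helper5.NApprox.SpecA

/-!
# Descending a finite basic-open affine cover through a cofiltered limit (helper5)
-/

set_option autoImplicit false

namespace Groth.Agent.H5.NApprox

open AlgebraicGeometry CategoryTheory Opposite Limits

universe u

section Push

variable {C : Type u} [Category.{u} C] (D : C ⥤ Scheme.{u}) (c : Cone D)

theorem basicOpen_push {j j' : C} (a : j' ⟶ j) (f : Γ(D.obj j, ⊤)) :
    (D.obj j').basicOpen ((D.map a).appTop f) = D.map a ⁻¹ᵁ (D.obj j).basicOpen f :=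
  (Scheme.preimage_basicOpen_top (D.map a) f).symm

theorem basicOpen_π {j : C} (f : Γ(D.obj j, ⊤)) :
    c.pt.basicOpen ((c.π.app j).appTop f) = c.π.app j ⁻¹ᵁ (D.obj j).basicOpen f :=
  (Scheme.preimage_basicOpen_top (c.π.app j) f).symm

theorem appTop_push {j j' : C} (a : j' ⟶ j) (f : Γ(D.obj j, ⊤)) :
    (c.π.app j').appTop ((D.map a).appTop f) = (c.π.app j).appTop f := by
  rw [← c.w a, Scheme.Hom.comp_appTop]
  rfl

end Push

section Desc

variable {C : Type u} [Category.{u} C] [IsCofiltered C] (D : C ⥤ Scheme.{u})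
  [∀ {i j : C} (f : i ⟶ j), IsAffineHom (D.map f)] [∀ i, CompactSpace (D.obj i)]
  [∀ i, QuasiSeparatedSpace (D.obj i)]
  (c : Cone D) (hc : IsLimit c)

variable {B : CommRingCat.{u}} (ψ : c.pt ⟶ Spec B) [IsOpenImmersion ψ]

include hc in
/-- descending affineness of one basic open -/
theorem exists_affine_push (b : B)
    (hb : (PrimeSpectrum.basicOpen b : (Spec B).Opens) ≤ ψ.opensRange)
    {j : C} (f : Γ(D.obj j, ⊤)) (hf : (c.π.app j).appTop f = Γmap ψ b) :
    ∃ (j' : C) (a : j' ⟶ j), IsAffineOpen ((D.obj j').basicOpen ((D.map a).appTop f)) := by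
  -- the affine open of the limit
  have hU : IsAffineOpen (c.pt.basicOpen ((Γmap ψ) b)) := by
    have h1 : c.pt.basicOpen ((Γmap ψ) b) = ψ ⁻¹ᵁ (PrimeSpectrum.basicOpen b) := by
      conv_rhs => rw [← toSpec_Γmap ψ]
      exact (toSpec_preimage_basicOpen _ _).symm
    rw [h1]
    exact IsAffineOpen.preimage_of_isOpenImmersion
      (IsAffineOpen.basicOpen (isAffineOpen_top (Spec B)) ((Scheme.ΓSpecIso B).inv b) |> fun h => by
        simpa using h) ψ hb
  obtain ⟨i', V', hV', hV'eq⟩ := exists_isAffineOpen_preimage_eq D c hc _ hU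
  obtain ⟨j₀, a₁, a₂, -⟩ := IsCofilteredOrEmpty.cone_objs j i'
  have hO₁ : IsCompact ((D.map a₁ ⁻¹ᵁ (D.obj j).basicOpen f : (D.obj j₀).Opens) : Set (D.obj j₀)) := by
    rw [← basicOpen_push]
    exact isCompact_basicOpen _ isCompact_univ _
  have hO₂ : IsCompact ((D.map a₂ ⁻¹ᵁ V' : (D.obj j₀).Opens) : Set (D.obj j₀)) :=
    (hV'.preimage (D.map a₂)).isCompact
  have H : c.π.app j₀ ⁻¹ᵁ (D.map a₁ ⁻¹ᵁ (D.obj j).basicOpen f) =
      c.π.app j₀ ⁻¹ᵁ (D.map a₂ ⁻¹ᵁ V') := by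
    rw [← Scheme.Hom.comp_preimage, ← Scheme.Hom.comp_preimage, c.w, c.w, hV'eq,
      ← basicOpen_π, hf]
  obtain ⟨j', a, ha⟩ := exists_map_preimage_eq_map_preimage D c hc hO₁ hO₂ H
  refine ⟨j', a ≫ a₁, ?_⟩
  rw [basicOpen_push, D.map_comp, Scheme.Hom.comp_preimage, ha, ← Scheme.Hom.comp_preimage]
  exact hV'.preimage _

variable {L : Type} [Finite L] (g : L → B)
  (hψ : Set.range ψ = ⋃ l, (PrimeSpectrum.basicOpen (g l) : Set (PrimeSpectrum B)))

include hc hψ in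
/-- The descent lemma. -/
theorem exists_descent :
    ∃ (j : C) (f : L → Γ(D.obj j, ⊤)),
      (∀ l, (c.π.app j).appTop (f l) = Γmap ψ (g l)) ∧
      (∀ l, IsAffineOpen ((D.obj j).basicOpen (f l))) ∧
      ⨆ l, (D.obj j).basicOpen (f l) = ⊤ := by
  classical
  have hle : ∀ l, (PrimeSpectrum.basicOpen (g l) : (Spec B).Opens) ≤ ψ.opensRange := by
    intro l z hz
    show z ∈ Set.range ψ
    rw [hψ]
    exact Set.mem_iUnion.mpr ⟨l, hz⟩
  -- step 1 and 2: for each `l`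
  have h12 : ∀ l, ∃ (j : C) (f : Γ(D.obj j, ⊤)), (c.π.app j).appTop f = Γmap ψ (g l) ∧
      IsAffineOpen ((D.obj j).basicOpen f) := by
    intro l
    obtain ⟨i, t, ht⟩ := exists_appTop_π_eq_of_isLimit D c hc ((Γmap ψ) (g l))
    obtain ⟨j', a, ha⟩ := exists_affine_push D c hc ψ (g l) (hle l) t ht.symm
    exact ⟨j', (D.map a).appTop t, by rw [appTop_push]; exact ht.symm, ha⟩
  choose jl fl hfl hal using h12
  cases nonempty_fintype L
  obtain ⟨j₀, hj₀⟩ := IsCofiltered.inf_objs_exists (Finset.univ.image jl)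
  have al : ∀ l, j₀ ⟶ jl l := fun l => (hj₀ (Finset.mem_image_of_mem jl (Finset.mem_univ l))).some
  let f₀ : L → Γ(D.obj j₀, ⊤) := fun l => (D.map (al l)).appTop (fl l)
  have hf₀ : ∀ l, (c.π.app j₀).appTop (f₀ l) = Γmap ψ (g l) := by
    intro l
    show (c.π.app j₀).appTop ((D.map (al l)).appTop (fl l)) = _
    rw [appTop_push, hfl]
  have ha₀ : ∀ l, IsAffineOpen ((D.obj j₀).basicOpen (f₀ l)) := by
    intro l
    show IsAffineOpen ((D.obj j₀).basicOpen ((D.map (al l)).appTop (fl l)))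
    rw [basicOpen_push]
    exact (hal l).preimage _
  -- step 4: the cover
  have hcov : c.π.app j₀ ⁻¹ᵁ (⨆ l, (D.obj j₀).basicOpen (f₀ l)) = ⊤ := by
    rw [Scheme.Hom.preimage_iSup, eq_top_iff]
    intro x _
    have hx : ψ x ∈ Set.range ψ := ⟨x, rfl⟩
    rw [hψ] at hx
    obtain ⟨l, hl⟩ := Set.mem_iUnion.mp hx
    refine TopologicalSpace.Opens.mem_iSup.mpr ⟨l, ?_⟩
    rw [← basicOpen_π, hf₀ l]
    have h1 : c.pt.basicOpen ((Γmap ψ) (g l)) = ψ ⁻¹ᵁ (PrimeSpectrum.basicOpen (g l)) := by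
      conv_rhs => rw [← toSpec_Γmap ψ]
      exact (toSpec_preimage_basicOpen _ _).symm
    rw [h1]
    exact hl
  obtain ⟨j, a, ha⟩ := exists_map_eq_top D c hc _ hcov
  refine ⟨j, fun l => (D.map a).appTop (f₀ l), ?_, ?_, ?_⟩
  · intro l
    rw [appTop_push, hf₀]
  · intro l
    rw [basicOpen_push]
    exact (ha₀ l).preimage _
  · simp_rw [basicOpen_push]
    rw [← Scheme.Hom.preimage_iSup]
    exact ha

end Desc

end Groth.Agent.H5.NApprox
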