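import Mathlib

/-!
# A limit criterion for schemes glued from two pieces (helper5)

Given a cofiltered system of schemes `DG j`, each covered by two opens `DV j`, `DP j`
(compatibly and cartesian along transitions), and a cone `cG` similarly covered by the points
of limit cones of `DV` and `DP`, the cone `cG` is a limit cone.
-/

set_option autoImplicit false

open CategoryTheory CategoryTheory.Limits AlgebraicGeometry TopologicalSpace

namespace Groth.Agent.H5.NApprox

universe u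

section

variable {J : Type u} [Category.{u} J] [IsCofiltered J]
  {DV DP DG : J ⥤ Scheme.{u}} (inl : DV ⟶ DG) (inr : DP ⟶ DG)
  [∀ j, IsOpenImmersion (inl.app j)] [∀ j, IsOpenImmersion (inr.app j)]
  (hcov : ∀ j (z : DG.obj j), z ∈ Set.range (inl.app j) ∨ z ∈ Set.range (inr.app j))
  (hV : ∀ {i j : J} (a : i ⟶ j) (z : DG.obj i),
    DG.map a z ∈ Set.range (inl.app j) ↔ z ∈ Set.range (inl.app i))
  (hP : ∀ {i j : J} (a : i ⟶ j) (z : DG.obj i),
    DG.map a z ∈ Set.range (inr.app j) ↔ z ∈ Set.range (inr.app i))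
  {cV : Cone DV} {cP : Cone DP} {cG : Cone DG} (hcV : IsLimit cV) (hcP : IsLimit cP)
  (inlI : cV.pt ⟶ cG.pt) (inrI : cP.pt ⟶ cG.pt) [IsOpenImmersion inlI] [IsOpenImmersion inrI]
  (hl : ∀ j, inlI ≫ cG.π.app j = cV.π.app j ≫ inl.app j)
  (hr : ∀ j, inrI ≫ cG.π.app j = cP.π.app j ≫ inr.app j)
  (hVI : ∀ j (z : cG.pt), cG.π.app j z ∈ Set.range (inl.app j) ↔ z ∈ Set.range inlI)
  (hPI : ∀ j (z : cG.pt), cG.π.app j z ∈ Set.range (inr.app j) ↔ z ∈ Set.range inrI)

include hcov hVI hPI in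
theorem coverI (z : cG.pt) : z ∈ Set.range inlI ∨ z ∈ Set.range inrI := by
  obtain ⟨j⟩ := IsCofiltered.nonempty (C := J)
  rcases hcov j (cG.π.app j z) with h | h
  · exact Or.inl ((hVI j z).mp h)
  · exact Or.inr ((hPI j z).mp h)

/-- generic half: maps into the cone point agreeing after all projections agree on the preimage
of one piece. -/
theorem eq_on_piece {DX : J ⥤ Scheme.{u}} (ι : DX ⟶ DG) [∀ j, IsOpenImmersion (ι.app j)]
    {cX : Cone DX} (hcX : IsLimit cX) (ιI : cX.pt ⟶ cG.pt) [IsOpenImmersion ιI]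
    (hι : ∀ j, ιI ≫ cG.π.app j = cX.π.app j ≫ ι.app j)
    {T : Scheme.{u}} (m m' : T ⟶ cG.pt) (h : ∀ j, m ≫ cG.π.app j = m' ≫ cG.π.app j)
    (O : T.Opens) (hO : ∀ t ∈ O, m t ∈ Set.range ιI) (hO' : ∀ t ∈ O, m' t ∈ Set.range ιI) :
    O.ι ≫ m = O.ι ≫ m' := by
  have r1 : Set.range (O.ι ≫ m) ⊆ Set.range ιI := by
    rintro _ ⟨t, rfl⟩
    rw [Scheme.Hom.comp_apply]
    exact hO _ t.2
  have r2 : Set.range (O.ι ≫ m') ⊆ Set.range ιI := by
    rintro _ ⟨t, rfl⟩
    rw [Scheme.Hom.comp_apply]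
    exact hO' _ t.2
  have e : IsOpenImmersion.lift ιI (O.ι ≫ m) r1 = IsOpenImmersion.lift ιI (O.ι ≫ m') r2 := by
    apply hcX.hom_ext
    intro j
    rw [← cancel_mono (ι.app j), Category.assoc, Category.assoc, ← hι j,
      IsOpenImmersion.lift_fac_assoc, IsOpenImmersion.lift_fac_assoc, Category.assoc,
      Category.assoc, h j]
  rw [← IsOpenImmersion.lift_fac ιI (O.ι ≫ m) r1, ← IsOpenImmersion.lift_fac ιI (O.ι ≫ m') r2, e]

include hcov hcV hcP hl hr hVI hPI in
/-- Uniqueness: the projections of `cG` are jointly monic. -/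
theorem hom_ext_glued {T : Scheme.{u}} (m m' : T ⟶ cG.pt)
    (h : ∀ j, m ≫ cG.π.app j = m' ≫ cG.π.app j) : m = m' := by
  apply Scheme.hom_ext_of_forall
  intro t
  have hmm' : ∀ j (t : T), cG.π.app j (m t) = cG.π.app j (m' t) := by
    intro j t
    rw [← Scheme.Hom.comp_apply, ← Scheme.Hom.comp_apply, h j]
  obtain ⟨j⟩ := IsCofiltered.nonempty (C := J)
  rcases coverI inl inr hcov inlI inrI hVI hPI (m t) with ht | ht
  · refine ⟨m ⁻¹ᵁ inlI.opensRange, ht, ?_⟩
    apply eq_on_piece inl hcV inlI hl m m' h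
    · intro t' ht'; exact ht'
    · intro t' ht'
      have h1 : m t' ∈ Set.range inlI := ht'
      rw [← hVI j, hmm' j, hVI j] at h1
      exact h1
  · refine ⟨m ⁻¹ᵁ inrI.opensRange, ht, ?_⟩
    apply eq_on_piece inr hcP inrI hr m m' h
    · intro t' ht'; exact ht'
    · intro t' ht'
      have h1 : m t' ∈ Set.range inrI := ht'
      rw [← hPI j, hmm' j, hPI j] at h1
      exact h1

/-- generic half of existence: lift the restriction of a cone to the preimage of one piece. -/
theorem exists_lift_piece {DX : J ⥤ Scheme.{u}} (ι : DX ⟶ DG) [∀ j, IsOpenImmersion (ι.app j)]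
    {cX : Cone DX} (hcX : IsLimit cX) (ιI : cX.pt ⟶ cG.pt)
    (hι : ∀ j, ιI ≫ cG.π.app j = cX.π.app j ≫ ι.app j)
    (s : Cone DG) (O : s.pt.Opens)
    (hO : ∀ j, ∀ t ∈ O, s.π.app j t ∈ Set.range (ι.app j)) :
    ∃ a : (O : Scheme.{u}) ⟶ cG.pt, ∀ j, a ≫ cG.π.app j = O.ι ≫ s.π.app j := by
  have r : ∀ j, Set.range (O.ι ≫ s.π.app j) ⊆ Set.range (ι.app j) := by
    intro j
    rintro _ ⟨t, rfl⟩
    rw [Scheme.Hom.comp_apply]
    exact hO j _ t.2
  let c' : Cone DX :=
    { pt := O
      π :=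
        { app := fun j => IsOpenImmersion.lift (ι.app j) (O.ι ≫ s.π.app j) (r j)
          naturality := by
            intro i j f
            rw [← cancel_mono (ι.app j)]
            simp only [Functor.const_obj_obj, Functor.const_obj_map, Category.id_comp,
              Category.assoc, IsOpenImmersion.lift_fac]
            rw [ι.naturality f, IsOpenImmersion.lift_fac_assoc, Category.assoc, s.w f] } }
  refine ⟨hcX.lift c' ≫ ιI, ?_⟩
  intro j
  rw [Category.assoc, hι j, ← Category.assoc, hcX.fac c' j]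
  exact IsOpenImmersion.lift_fac _ _ _

include hcov hV hP hcV hcP hl hr hVI hPI in
theorem exists_lift_glued (s : Cone DG) :
    ∃ m : s.pt ⟶ cG.pt, ∀ j, m ≫ cG.π.app j = s.π.app j := by
  obtain ⟨j₀⟩ := IsCofiltered.nonempty (C := J)
  -- the two opens of `s.pt`
  let TV : s.pt.Opens := s.π.app j₀ ⁻¹ᵁ (inl.app j₀).opensRange
  let TP : s.pt.Opens := s.π.app j₀ ⁻¹ᵁ (inr.app j₀).opensRange
  have hTV : ∀ j, ∀ t ∈ TV, s.π.app j t ∈ Set.range (inl.app j) := by
    intro j t ht
    obtain ⟨k, a, b, -⟩ := IsCofilteredOrEmpty.cone_objs j j₀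
    have h1 : s.π.app j₀ t ∈ Set.range (inl.app j₀) := ht
    rw [← s.w b, Scheme.Hom.comp_apply, hV b] at h1
    rw [← s.w a, Scheme.Hom.comp_apply, hV a]
    exact h1
  have hTP : ∀ j, ∀ t ∈ TP, s.π.app j t ∈ Set.range (inr.app j) := by
    intro j t ht
    obtain ⟨k, a, b, -⟩ := IsCofilteredOrEmpty.cone_objs j j₀
    have h1 : s.π.app j₀ t ∈ Set.range (inr.app j₀) := ht
    rw [← s.w b, Scheme.Hom.comp_apply, hP b] at h1
    rw [← s.w a, Scheme.Hom.comp_apply, hP a]
    exact h1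
  obtain ⟨a, ha⟩ := exists_lift_piece inl hcV inlI hl s TV hTV
  obtain ⟨b, hb⟩ := exists_lift_piece inr hcP inrI hr s TP hTP
  let U : Bool → s.pt.Opens := fun i => if i then TV else TP
  have hU : IsOpenCover U := by
    apply IsOpenCover.mk
    rw [eq_top_iff]
    intro t _
    rw [Opens.mem_iSup]
    rcases hcov j₀ (s.π.app j₀ t) with h | h
    · exact ⟨true, h⟩
    · exact ⟨false, h⟩
  let 𝒰 := s.pt.openCoverOfIsOpenCover U hU
  let fm : ∀ i : Bool, (U i : Scheme.{u}) ⟶ cG.pt := fun i =>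
    match i with
    | true => a
    | false => b
  have hfm : ∀ (i : Bool) j, fm i ≫ cG.π.app j = (U i).ι ≫ s.π.app j := by
    intro i j
    cases i
    · exact hb j
    · exact ha j
  have hcomp : ∀ x y : Bool, pullback.fst (𝒰.f x) (𝒰.f y) ≫ fm x =
      pullback.snd (𝒰.f x) (𝒰.f y) ≫ fm y := by
    intro x y
    apply hom_ext_glued inl inr hcov hcV hcP inlI inrI hl hr hVI hPI
    intro j
    rw [Category.assoc, Category.assoc]
    erw [hfm x j, hfm y j]
    exact pullback.condition_assoc _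
  refine ⟨𝒰.glueMorphisms fm hcomp, ?_⟩
  intro j
  apply 𝒰.hom_ext
  intro x
  rw [Scheme.Cover.ι_glueMorphisms_assoc]
  exact hfm x j

include hcov hV hP hcV hcP hl hr hVI hPI in
/-- The glued cone is a limit cone. -/
theorem nonempty_isLimit_glued : Nonempty (IsLimit cG) := by
  classical
  choose m hm using exists_lift_glued inl inr hcov hV hP hcV hcP inlI inrI hl hr hVI hPI
  exact ⟨{ lift := m
           fac := hm
           uniq := by
            intro s m' hm'
            apply hom_ext_glued inl inr hcov hcV hcP inlI inrI hl hr hVI hPI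
            intro j
            rw [hm' j, hm s j] }⟩

end

end Groth.Agent.H5.NApprox
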