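import Mathlib
import Groth.Agent.Lib.Helper5.NApprox.GlueA

/-!
# Recognising a scheme as a glued scheme (helper5)
-/

set_option autoImplicit false

namespace Groth.Agent.H5.NApprox

open AlgebraicGeometry CategoryTheory

universe u

namespace GD

variable (G : GD.{u}) {S : Scheme.{u}} (a : G.V ⟶ S) (b : G.P ⟶ S)
  (h : G.i₁ ≫ a = G.i₂ ≫ b)

theorem desc_inl_apply (v : G.V) : G.desc a b h (G.inl v) = a v := by
  rw [← Scheme.Hom.comp_apply, inl_desc]

theorem desc_inr_apply (p : G.P) : G.desc a b h (G.inr p) = b p := by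
  rw [← Scheme.Hom.comp_apply, inr_desc]

theorem condition_apply (w : G.W) : G.inl (G.i₁ w) = G.inr (G.i₂ w) := by
  rw [← Scheme.Hom.comp_apply, ← Scheme.Hom.comp_apply, G.condition]

variable [IsOpenImmersion a] [IsOpenImmersion b]

include h in
theorem desc_injective (hint : ∀ (v : G.V) (p : G.P), a v = b p → v ∈ Set.range G.i₁) :
    Function.Injective (G.desc a b h) := by
  have ha : Function.Injective a := a.isOpenEmbedding.injective
  have hb : Function.Injective b := b.isOpenEmbedding.injective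
  have key : ∀ (v : G.V) (p : G.P), a v = b p → G.inl v = G.inr p := by
    intro v p hvp
    obtain ⟨w, rfl⟩ := hint v p hvp
    have h1 : a (G.i₁ w) = b (G.i₂ w) := by
      rw [← Scheme.Hom.comp_apply, ← Scheme.Hom.comp_apply, h]
    have h2 : p = G.i₂ w := hb (hvp.symm.trans h1)
    rw [h2]
    exact G.condition_apply w
  intro z z' hzz'
  rcases G.cover z with ⟨v, rfl⟩ | ⟨p, rfl⟩ <;> rcases G.cover z' with ⟨v', rfl⟩ | ⟨p', rfl⟩
  · rw [desc_inl_apply, desc_inl_apply] at hzz'
    rw [ha hzz']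
  · rw [desc_inl_apply, desc_inr_apply] at hzz'
    exact key _ _ hzz'
  · rw [desc_inr_apply, desc_inl_apply] at hzz'
    exact (key _ _ hzz'.symm).symm
  · rw [desc_inr_apply, desc_inr_apply] at hzz'
    rw [hb hzz']

include h in
theorem desc_isOpenImmersion (hint : ∀ (v : G.V) (p : G.P), a v = b p → v ∈ Set.range G.i₁) :
    IsOpenImmersion (G.desc a b h) := by
  apply IsOpenImmersion.of_forall_source_exists _ (G.desc_injective a b h hint)
  intro z
  rcases G.cover z with ⟨v, rfl⟩ | ⟨p, rfl⟩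
  · refine ⟨_, G.inl, inferInstance, ⟨v, rfl⟩, ?_⟩
    rw [inl_desc]; infer_instance
  · refine ⟨_, G.inr, inferInstance, ⟨p, rfl⟩, ?_⟩
    rw [inr_desc]; infer_instance

include h in
theorem desc_isIso (hint : ∀ (v : G.V) (p : G.P), a v = b p → v ∈ Set.range G.i₁)
    (hcov : ∀ x : S, x ∈ Set.range a ∨ x ∈ Set.range b) :
    IsIso (G.desc a b h) := by
  haveI := G.desc_isOpenImmersion a b h hint
  apply isIso_of_isOpenImmersion_of_opensRange_eq_top
  rw [eq_top_iff]
  intro x _
  rcases hcov x with ⟨v, rfl⟩ | ⟨p, rfl⟩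
  · exact ⟨G.inl v, G.desc_inl_apply a b h v⟩
  · exact ⟨G.inr p, G.desc_inr_apply a b h p⟩

end GD

end Groth.Agent.H5.NApprox
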