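import Mathlib
import Groth.Agent.Lib.Helper5.NApprox.SpecA

/-!
# Open immersion criterion via localizations (helper5)
-/

set_option autoImplicit false

namespace Groth.Agent.H5.NApprox

open AlgebraicGeometry CategoryTheory Opposite

universe u

variable {X : Scheme.{u}} {A : CommRingCat.{u}} (φ : A ⟶ Γ(X, ⊤)) {L : Type*} (β : L → A)

theorem specMap_isOpenImmersion_of_loc (l : L)
    (hloc : @IsLocalization.Away A _ (β l) Γ(X, X.basicOpen (φ (β l))) _
      ((φ ≫ X.presheaf.map (homOfLE (le_top : X.basicOpen (φ (β l)) ≤ ⊤)).op).hom.toAlgebra)) :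
    IsOpenImmersion (Spec.map (φ ≫ X.presheaf.map
      (homOfLE (le_top : X.basicOpen (φ (β l)) ≤ ⊤)).op)) := by
  letI : Algebra A Γ(X, X.basicOpen (φ (β l))) :=
    (φ ≫ X.presheaf.map (homOfLE (le_top : X.basicOpen (φ (β l)) ≤ ⊤)).op).hom.toAlgebra
  exact IsOpenImmersion.of_isLocalization (β l)

theorem range_specMap_of_loc (l : L)
    (hloc : @IsLocalization.Away A _ (β l) Γ(X, X.basicOpen (φ (β l))) _
      ((φ ≫ X.presheaf.map (homOfLE (le_top : X.basicOpen (φ (β l)) ≤ ⊤)).op).hom.toAlgebra)) :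
    Set.range (Spec.map (φ ≫ X.presheaf.map
      (homOfLE (le_top : X.basicOpen (φ (β l)) ≤ ⊤)).op)) =
        (PrimeSpectrum.basicOpen (β l) : Set (PrimeSpectrum A)) := by
  letI : Algebra A Γ(X, X.basicOpen (φ (β l))) :=
    (φ ≫ X.presheaf.map (homOfLE (le_top : X.basicOpen (φ (β l)) ≤ ⊤)).op).hom.toAlgebra
  exact PrimeSpectrum.localization_away_comap_range Γ(X, X.basicOpen (φ (β l))) (β l)

theorem toSpec_isOpenImmersion_of_loc
    (hcov : ⨆ l, X.basicOpen (φ (β l)) = ⊤)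
    (haff : ∀ l, IsAffineOpen (X.basicOpen (φ (β l))))
    (hloc : ∀ l, @IsLocalization.Away A _ (β l) Γ(X, X.basicOpen (φ (β l))) _
      ((φ ≫ X.presheaf.map (homOfLE (le_top : X.basicOpen (φ (β l)) ≤ ⊤)).op).hom.toAlgebra)) :
    IsOpenImmersion (toSpec φ) :=
  toSpec_isOpenImmersion φ β hcov haff
    (fun l => specMap_isOpenImmersion_of_loc φ β l (hloc l))

theorem range_toSpec_of_loc
    (hcov : ⨆ l, X.basicOpen (φ (β l)) = ⊤)
    (haff : ∀ l, IsAffineOpen (X.basicOpen (φ (β l))))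
    (hloc : ∀ l, @IsLocalization.Away A _ (β l) Γ(X, X.basicOpen (φ (β l))) _
      ((φ ≫ X.presheaf.map (homOfLE (le_top : X.basicOpen (φ (β l)) ≤ ⊤)).op).hom.toAlgebra)) :
    Set.range (toSpec φ) = ⋃ l, (PrimeSpectrum.basicOpen (β l) : Set (PrimeSpectrum A)) :=
  range_toSpec φ β hcov haff (fun l => range_specMap_of_loc φ β l (hloc l))

end Groth.Agent.H5.NApprox
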