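import Mathlib

/-!
# Ring-level input for Noetherian approximation: fibre products of rings and good subalgebras
(helper5)
-/

set_option autoImplicit false

namespace Groth.Agent.H5.NApprox

universe u

section Fib

variable {B Rinf : Type u} [CommRing B] [CommRing Rinf] (s : B →+* Rinf)
variable {R : Type u} [CommRing R] (t : R →+* Rinf)

/-- The fibre product ring `B ×_{Rinf} R`. -/
def fib : Subring (B × R) :=
  RingHom.eqLocus (s.comp (RingHom.fst B R)) (t.comp (RingHom.snd B R))

def fibπ : fib s t →+* B := (RingHom.fst B R).comp (fib s t).subtype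

def fibρ : fib s t →+* R := (RingHom.snd B R).comp (fib s t).subtype

theorem fib_comm (a : fib s t) : s (fibπ s t a) = t (fibρ s t a) := a.2

def fibMk (b : B) (r : R) (h : s b = t r) : fib s t := ⟨(b, r), h⟩

@[simp] theorem fibπ_mk (b : B) (r : R) (h : s b = t r) : fibπ s t (fibMk s t b r h) = b := rfl

@[simp] theorem fibρ_mk (b : B) (r : R) (h : s b = t r) : fibρ s t (fibMk s t b r h) = r := rfl

theorem fib_ext {a a' : fib s t} (h1 : fibπ s t a = fibπ s t a') (h2 : fibρ s t a = fibρ s t a') :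
    a = a' := by
  apply Subtype.ext
  exact Prod.ext h1 h2

variable {R' : Type u} [CommRing R'] (t' : R' →+* Rinf) (υ : R →+* R')

/-- transition map between fibre products -/
def fibMap (hυ : t'.comp υ = t) : fib s t →+* fib s t' :=
  RingHom.codRestrict ((RingHom.prodMap (RingHom.id B) υ).comp (fib s t).subtype) (fib s t')
    (by
      intro a
      show s _ = t' _
      have h := fib_comm s t a
      have h2 : t' (υ (fibρ s t a)) = t (fibρ s t a) := RingHom.congr_fun hυ _
      exact h.trans h2.symm)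

variable (hυ : t'.comp υ = t)

@[simp] theorem fibπ_fibMap (a : fib s t) : fibπ s t' (fibMap s t t' υ hυ a) = fibπ s t a := rfl

@[simp] theorem fibρ_fibMap (a : fib s t) : fibρ s t' (fibMap s t t' υ hυ a) = υ (fibρ s t a) :=
  rfl

end Fib

section Good

variable {B Rinf : Type u} [CommRing B] [CommRing Rinf] (s : B →+* Rinf)
variable {R : Type u} [CommRing R] (t : R →+* Rinf)
variable {L : Type} (g : L → B) (f : L → R) (hfg : ∀ l, t (f l) = s (g l))

/-- the distinguished elements `(g_l, f_l)` -/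
def bl (l : L) : fib s t := fibMk s t (g l) (f l) (hfg l).symm

@[simp] theorem fibπ_bl (l : L) : fibπ s t (bl s t g f hfg l) = g l := rfl

@[simp] theorem fibρ_bl (l : L) : fibρ s t (bl s t g f hfg l) = f l := rfl

include hfg in
theorem exists_lift (H2s : ∀ l (x : Rinf), ∃ (b : B) (k : ℕ), s (g l) ^ k * x = s b)
    (l : L) (r : R) : ∃ (a : fib s t) (n : ℕ), fibρ s t a = f l ^ n * r := by
  obtain ⟨b, k, hb⟩ := H2s l (t r)
  refine ⟨fibMk s t b (f l ^ k * r) ?_, k, rfl⟩
  rw [map_mul, map_pow, hfg l, hb]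

theorem exists_pow_mul_eq_zero (H2i : ∀ l (b : B), s b = 0 → ∃ k : ℕ, g l ^ k * b = 0)
    (l : L) (a : fib s t) (k : ℕ) (h : f l ^ k * fibρ s t a = 0) :
    ∃ k' : ℕ, bl s t g f hfg l ^ k' * a = 0 := by
  set a' := bl s t g f hfg l ^ k * a with ha'
  have hρ : fibρ s t a' = 0 := by
    rw [ha', map_mul, map_pow, fibρ_bl, h]
  have hs : s (fibπ s t a') = 0 := by rw [fib_comm, hρ, map_zero]
  obtain ⟨k'', hk''⟩ := H2i l _ hs
  refine ⟨k'' + k, ?_⟩
  apply fib_ext
  · rw [pow_add, mul_assoc, ← ha', map_mul, map_pow, fibπ_bl, hk'', map_zero]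
  · rw [pow_add, mul_assoc, ← ha', map_mul, hρ, mul_zero, map_zero]

/-- A subalgebra of the fibre product is *good* if it contains the distinguished elements and
surjects onto each localization `R_{f_l}` after inverting `b_l`. -/
def Good (A : Subalgebra ℤ (fib s t)) : Prop :=
  ∀ l, bl s t g f hfg l ∈ A ∧
    ∀ r : R, ∃ a ∈ A, ∃ n k : ℕ, f l ^ k * fibρ s t a = f l ^ k * (f l ^ n * r)

theorem Good.mono {A A' : Subalgebra ℤ (fib s t)} (h : Good s t g f hfg A) (hle : A ≤ A') :
    Good s t g f hfg A' := by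
  intro l
  refine ⟨hle (h l).1, fun r => ?_⟩
  obtain ⟨a, ha, n, k, e⟩ := (h l).2 r
  exact ⟨a, hle ha, n, k, e⟩

include hfg in
theorem exists_good [Finite L]
    (H2s : ∀ l (x : Rinf), ∃ (b : B) (k : ℕ), s (g l) ^ k * x = s b)
    (Rl : L → Type u) [∀ l, CommRing (Rl l)] [∀ l, Algebra R (Rl l)]
    [∀ l, IsLocalization.Away (f l) (Rl l)] (hft : ∀ l, Algebra.FiniteType ℤ (Rl l)) :
    ∃ A : Subalgebra ℤ (fib s t), A.FG ∧ Good s t g f hfg A := by
  classical
  -- finite generating sets
  have hgen : ∀ l, ∃ Sg : Finset (Rl l), Algebra.adjoin ℤ (Sg : Set (Rl l)) = ⊤ :=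
    fun l => (hft l).out
  choose Sg hSg using hgen
  -- numerators
  have hnum : ∀ l (x : Rl l), ∃ (n : ℕ) (r : R),
      x * algebraMap R (Rl l) (f l) ^ n = algebraMap R (Rl l) r :=
    fun l x => IsLocalization.Away.surj (f l) x
  choose nn rr hrr using hnum
  have hl := exists_lift s t g f hfg H2s
  choose aa mm haa using hl
  -- the generating set
  let G : Set (fib s t) :=
    (Set.range (bl s t g f hfg)) ∪ ⋃ l, (fun x => aa l (rr l x)) '' (Sg l : Set (Rl l))
  have hGfin : G.Finite := by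
    apply Set.Finite.union (Set.finite_range _)
    exact Set.finite_iUnion fun l => (Sg l).finite_toSet.image _
  refine ⟨Algebra.adjoin ℤ G, Subalgebra.fg_def.2 ⟨G, hGfin, rfl⟩, ?_⟩
  intro l
  have hbl : ∀ l', bl s t g f hfg l' ∈ Algebra.adjoin ℤ G :=
    fun l' => Algebra.subset_adjoin (Or.inl ⟨l', rfl⟩)
  refine ⟨hbl l, ?_⟩
  -- the predicate on `Rl l`
  let F : Rl l := algebraMap R (Rl l) (f l)
  let P : Rl l → Prop := fun y => ∃ a ∈ Algebra.adjoin ℤ G, ∃ n : ℕ,
    y * F ^ n = algebraMap R (Rl l) (fibρ s t a)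
  have hP : ∀ y : Rl l, P y := by
    intro y
    have hy : y ∈ Algebra.adjoin ℤ (Sg l : Set (Rl l)) := by rw [hSg l]; trivial
    induction hy using Algebra.adjoin_induction with
    | mem x hx =>
      refine ⟨aa l (rr l x), Algebra.subset_adjoin (Or.inr ?_), nn l x + mm l (rr l x), ?_⟩
      · exact Set.mem_iUnion.mpr ⟨l, ⟨x, hx, rfl⟩⟩
      · rw [haa l (rr l x), map_mul, map_pow, pow_add, ← mul_assoc, hrr l x, mul_comm]
    | algebraMap z =>
      refine ⟨algebraMap ℤ _ z, Subalgebra.algebraMap_mem _ z, 0, ?_⟩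
      rw [pow_zero, mul_one]
      simp
    | add y y' _ _ hy hy' =>
      obtain ⟨a, ha, n, e⟩ := hy
      obtain ⟨a', ha', m, e'⟩ := hy'
      refine ⟨a * bl s t g f hfg l ^ m + a' * bl s t g f hfg l ^ n,
        Subalgebra.add_mem _ (Subalgebra.mul_mem _ ha (Subalgebra.pow_mem _ (hbl l) m))
          (Subalgebra.mul_mem _ ha' (Subalgebra.pow_mem _ (hbl l) n)), n + m, ?_⟩
      simp only [map_add, map_mul, map_pow, fibρ_bl]
      rw [← e, ← e']
      ring
    | mul y y' _ _ hy hy' =>
      obtain ⟨a, ha, n, e⟩ := hy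
      obtain ⟨a', ha', m, e'⟩ := hy'
      refine ⟨a * a', Subalgebra.mul_mem _ ha ha', n + m, ?_⟩
      simp only [map_mul]
      rw [← e, ← e']
      ring
  intro r
  obtain ⟨a, ha, n, e⟩ := hP (algebraMap R (Rl l) r)
  have e2 : algebraMap R (Rl l) (fibρ s t a) = algebraMap R (Rl l) (f l ^ n * r) := by
    rw [← e, map_mul, map_pow, mul_comm]
  obtain ⟨k, hk⟩ := IsLocalization.Away.exists_of_eq (f l) e2
  exact ⟨a, ha, n, k, hk⟩

/-- For a good subalgebra `A`, the map `A_{b_l} → R_{f_l}` is bijective. -/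
theorem bijective_of_good (H2i : ∀ l (b : B), s b = 0 → ∃ k : ℕ, g l ^ k * b = 0)
    (A : Subalgebra ℤ (fib s t)) (hA : Good s t g f hfg A) (l : L)
    {A' R' : Type u} [CommRing A'] [CommRing R'] [Algebra A A'] [Algebra R R']
    [IsLocalization.Away (⟨bl s t g f hfg l, (hA l).1⟩ : A) A'] [IsLocalization.Away (f l) R']
    (ψ : A' →+* R')
    (hψ : ∀ a : A, ψ (algebraMap A A' a) = algebraMap R R' (fibρ s t a.1)) :
    Function.Bijective ψ := by
  set β : A := ⟨bl s t g f hfg l, (hA l).1⟩ with hβ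
  have hψβ : ψ (algebraMap A A' β) = algebraMap R R' (f l) := by rw [hψ]; rfl
  have hunitF : IsUnit (algebraMap R R' (f l)) := IsLocalization.Away.algebraMap_isUnit (f l)
  constructor
  · rw [injective_iff_map_eq_zero]
    intro x hx
    obtain ⟨n, a, ha⟩ := IsLocalization.Away.surj β x
    have h1 : algebraMap R R' (fibρ s t a.1) = 0 := by
      rw [← hψ, ← ha, map_mul, hx, zero_mul]
    obtain ⟨k, hk⟩ := IsLocalization.Away.exists_of_eq (f l) (h1.trans (map_zero _).symm)
    rw [mul_zero] at hk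
    obtain ⟨k', hk'⟩ := exists_pow_mul_eq_zero s t g f hfg H2i l a.1 k hk
    have h2 : β ^ k' * a = 0 := by
      apply Subtype.ext
      exact hk'
    have h3 : algebraMap A A' β ^ k' * algebraMap A A' a = 0 := by
      rw [← map_pow, ← map_mul, h2, map_zero]
    have hu : IsUnit (algebraMap A A' β) := IsLocalization.Away.algebraMap_isUnit β
    have h4 : algebraMap A A' a = 0 := by
      have := (hu.pow k').mul_right_eq_zero.mp h3
      exact this
    rw [h4] at ha
    exact (hu.pow n).mul_left_eq_zero.mp ha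
  · intro y
    obtain ⟨n, r, hr⟩ := IsLocalization.Away.surj (f l) y
    obtain ⟨a, haA, n', k, e⟩ := (hA l).2 r
    have e1 : algebraMap R R' (fibρ s t a) = algebraMap R R' (f l) ^ n' * algebraMap R R' r := by
      have := congrArg (algebraMap R R') e
      simp only [map_mul, map_pow] at this
      exact (hunitF.pow k).mul_left_cancel this
    have hu : IsUnit (algebraMap A A' β) := IsLocalization.Away.algebraMap_isUnit β
    obtain ⟨v, hv⟩ := hu
    refine ⟨algebraMap A A' ⟨a, haA⟩ * (↑(v⁻¹ ^ (n' + n)) : A'), ?_⟩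
    have hvψ : ψ (↑v : A') = algebraMap R R' (f l) := by rw [hv]; exact hψβ
    have hinv : ψ (↑(v⁻¹ ^ (n' + n)) : A') * algebraMap R R' (f l) ^ (n' + n) = 1 := by
      rw [← hvψ, ← map_pow, ← map_mul, ← Units.val_pow_eq_pow_val, ← Units.val_mul,
        ← mul_pow, inv_mul_cancel, one_pow, Units.val_one, map_one]
    rw [map_mul, hψ]
    show algebraMap R R' (fibρ s t a) * _ = y
    rw [e1]
    have : y = y * (ψ (↑(v⁻¹ ^ (n' + n)) : A') * algebraMap R R' (f l) ^ (n' + n)) := by
      rw [hinv, mul_one]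
    rw [this, pow_add]
    have hr' : algebraMap R R' r = y * algebraMap R R' (f l) ^ n := hr.symm
    rw [hr']
    ring

end Good

end Groth.Agent.H5.NApprox
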