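import Mathlib
import Groth.Agent.Lib.Helper5.NApprox.RingA

/-!
# Ring-level index system for Noetherian approximation (helper5)
-/

set_option autoImplicit false

namespace Groth.Agent.H5.NApprox

universe u

open CategoryTheory

/-- Ring-level data for the one-step approximation lemma. -/
structure RSys (K : Type u) [Preorder K] where
  R : K → CommRingCat.{u}
  Rinf : CommRingCat.{u}
  B : CommRingCat.{u}
  υ : ∀ {k k' : K}, k ≤ k' → (R k →+* R k')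
  υ_id : ∀ k (x : R k), υ (le_refl k) x = x
  υ_comp : ∀ {k k' k'' : K} (h : k ≤ k') (h' : k' ≤ k'') (x : R k),
    υ h' (υ h x) = υ (h.trans h') x
  t : ∀ k, R k →+* Rinf
  t_υ : ∀ {k k' : K} (h : k ≤ k'), (t k').comp (υ h) = t k
  LS : ∀ x : Rinf, ∃ k r, t k r = x
  LI : ∀ k (r : R k), t k r = 0 → ∃ (k' : K) (h : k ≤ k'), υ h r = 0
  s : B →+* Rinf
  L : Type
  finL : Finite L
  g : L → B
  f : ∀ k, L → R k
  f_υ : ∀ {k k' : K} (h : k ≤ k') l, υ h (f k l) = f k' l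
  t_f : ∀ k l, t k (f k l) = s (g l)
  H2s : ∀ l (x : Rinf), ∃ (b : B) (n : ℕ), s (g l) ^ n * x = s b
  H2i : ∀ l (b : B), s b = 0 → ∃ n : ℕ, g l ^ n * b = 0
  hft : ∀ k l, @Algebra.FiniteType ℤ (Localization.Away (f k l)) _ _ (Ring.toIntAlgebra _)

namespace RSys

attribute [instance] RSys.finL

variable {K : Type u} [Preorder K] (Q : RSys K)

/-- the fibre product ring at level `k` -/
abbrev Bk (k : K) : Subring (Q.B × Q.R k) := fib Q.s (Q.t k)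

/-- transition maps of fibre product rings -/
def τ {k k' : K} (h : k ≤ k') : Q.Bk k →+* Q.Bk k' :=
  fibMap Q.s (Q.t k) (Q.t k') (Q.υ h) (Q.t_υ h)

@[simp] theorem fibπ_τ {k k' : K} (h : k ≤ k') (a : Q.Bk k) :
    fibπ Q.s (Q.t k') (Q.τ h a) = fibπ Q.s (Q.t k) a := rfl

@[simp] theorem fibρ_τ {k k' : K} (h : k ≤ k') (a : Q.Bk k) :
    fibρ Q.s (Q.t k') (Q.τ h a) = Q.υ h (fibρ Q.s (Q.t k) a) := rfl

theorem τ_id (k : K) (a : Q.Bk k) : Q.τ (le_refl k) a = a := by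
  apply fib_ext
  · rfl
  · rw [fibρ_τ, Q.υ_id]

theorem τ_comp {k k' k'' : K} (h : k ≤ k') (h' : k' ≤ k'') (a : Q.Bk k) :
    Q.τ h' (Q.τ h a) = Q.τ (h.trans h') a := by
  apply fib_ext
  · rfl
  · rw [fibρ_τ, fibρ_τ, fibρ_τ, Q.υ_comp]

/-- the distinguished elements -/
def bk (k : K) (l : Q.L) : Q.Bk k := bl Q.s (Q.t k) Q.g (Q.f k) (Q.t_f k) l

theorem τ_bk {k k' : K} (h : k ≤ k') (l : Q.L) : Q.τ h (Q.bk k l) = Q.bk k' l := by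
  apply fib_ext
  · rfl
  · rw [fibρ_τ]
    exact Q.f_υ h l

/-- goodness at level `k` -/
def GoodAt (k : K) (A : Subalgebra ℤ (Q.Bk k)) : Prop :=
  Good Q.s (Q.t k) Q.g (Q.f k) (Q.t_f k) A

theorem exists_goodAt (k : K) : ∃ A : Subalgebra ℤ (Q.Bk k), A.FG ∧ Q.GoodAt k A :=
  exists_good Q.s (Q.t k) Q.g (Q.f k) (Q.t_f k) Q.H2s (fun l => Localization.Away (Q.f k l))
    (Q.hft k)

/-- the index set -/
def J : Type u := Σ k : K, {A : Subalgebra ℤ (Q.Bk k) // A.FG ∧ Q.GoodAt k A}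

/-- the order relation on `J` -/
def JLE (j j' : Q.J) : Prop := ∃ h : j.1 ≤ j'.1, ∀ a ∈ j.2.1, Q.τ h a ∈ j'.2.1

instance : Preorder Q.J where
  le := Q.JLE
  le_refl j := ⟨le_refl _, fun a ha => by rw [Q.τ_id]; exact ha⟩
  le_trans j j' j'' h h' := ⟨h.1.trans h'.1, fun a ha => by
    rw [← Q.τ_comp h.1 h'.1]
    exact h'.2 _ (h.2 _ ha)⟩

theorem le_def {j j' : Q.J} : j ≤ j' ↔ ∃ h : j.1 ≤ j'.1, ∀ a ∈ j.2.1, Q.τ h a ∈ j'.2.1 := Iff.rfl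

/-- index above two given ones containing a given finitely generated subalgebra -/
theorem exists_ge (j₁ j₂ : Q.J) (k : K) (h₁ : j₁.1 ≤ k) (h₂ : j₂.1 ≤ k)
    (T : Subalgebra ℤ (Q.Bk k)) (hT : T.FG) :
    ∃ A : {A : Subalgebra ℤ (Q.Bk k) // A.FG ∧ Q.GoodAt k A},
      j₁ ≤ (⟨k, A⟩ : Q.J) ∧ j₂ ≤ (⟨k, A⟩ : Q.J) ∧ T ≤ A.1 := by
  obtain ⟨A₀, hA₀, hg⟩ := Q.exists_goodAt k
  let A : Subalgebra ℤ (Q.Bk k) :=
    ((j₁.2.1.map (Q.τ h₁).toIntAlgHom) ⊔ (j₂.2.1.map (Q.τ h₂).toIntAlgHom)) ⊔ (A₀ ⊔ T)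
  have hAfg : A.FG :=
    ((j₁.2.2.1.map _).sup (j₂.2.2.1.map _)).sup (hA₀.sup hT)
  have hAg : Q.GoodAt k A := Good.mono _ _ _ _ _ hg (le_trans le_sup_left le_sup_right)
  refine ⟨⟨A, hAfg, hAg⟩, ⟨h₁, fun a ha => ?_⟩, ⟨h₂, fun a ha => ?_⟩, ?_⟩
  · have : Q.τ h₁ a ∈ j₁.2.1.map (Q.τ h₁).toIntAlgHom := ⟨a, ha, rfl⟩
    exact (le_trans le_sup_left le_sup_left : _ ≤ A) this
  · have : Q.τ h₂ a ∈ j₂.2.1.map (Q.τ h₂).toIntAlgHom := ⟨a, ha, rfl⟩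
    exact (le_trans le_sup_right le_sup_left : _ ≤ A) this
  · exact (le_trans le_sup_right le_sup_right : T ≤ A)

instance [IsDirected K (· ≤ ·)] : IsDirected Q.J (· ≤ ·) where
  directed j₁ j₂ := by
    obtain ⟨k, h₁, h₂⟩ := exists_ge_ge j₁.1 j₂.1
    obtain ⟨A, hj₁, hj₂, -⟩ := Q.exists_ge j₁ j₂ k h₁ h₂ ⊥ Subalgebra.fg_bot
    exact ⟨⟨k, A⟩, hj₁, hj₂⟩

instance [Nonempty K] : Nonempty Q.J := by
  obtain ⟨k⟩ := ‹Nonempty K›
  obtain ⟨A, hA⟩ := Q.exists_goodAt k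
  exact ⟨⟨k, A, hA⟩⟩

/-- the projection to `K` -/
def α : Q.J →o K where
  toFun j := j.1
  monotone' _ _ h := h.1

theorem exists_α_ge (k : K) : ∃ j : Q.J, k ≤ Q.α j := by
  obtain ⟨A, hA⟩ := Q.exists_goodAt k
  exact ⟨⟨k, A, hA⟩, le_refl _⟩

/-- the ring `A_j` -/
abbrev A (j : Q.J) : Type u := ↥j.2.1

/-- the transition maps `A_j → A_{j'}` -/
def tr {j j' : Q.J} (h : j ≤ j') : Q.A j →+* Q.A j' where
  toFun a := ⟨Q.τ h.1 a.1, h.2 a.1 a.2⟩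
  map_one' := Subtype.ext (map_one _)
  map_mul' _ _ := Subtype.ext (map_mul _ _ _)
  map_zero' := Subtype.ext (map_zero _)
  map_add' _ _ := Subtype.ext (map_add _ _ _)

theorem tr_val {j j' : Q.J} (h : j ≤ j') (a : Q.A j) : (Q.tr h a).1 = Q.τ h.1 a.1 := rfl

theorem tr_id (j : Q.J) (a : Q.A j) : Q.tr (le_refl j) a = a :=
  Subtype.ext (Q.τ_id _ _)

theorem tr_comp {j j' j'' : Q.J} (h : j ≤ j') (h' : j' ≤ j'') (a : Q.A j) :
    Q.tr h' (Q.tr h a) = Q.tr (h.trans h') a :=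
  Subtype.ext (Q.τ_comp _ _ _)

/-- projection `A_j → B` -/
def π (j : Q.J) : Q.A j →+* Q.B := (fibπ Q.s (Q.t j.1)).comp j.2.1.val.toRingHom

/-- projection `A_j → R_{α j}` -/
def ρ (j : Q.J) : Q.A j →+* Q.R j.1 := (fibρ Q.s (Q.t j.1)).comp j.2.1.val.toRingHom

theorem π_tr {j j' : Q.J} (h : j ≤ j') (a : Q.A j) : Q.π j' (Q.tr h a) = Q.π j a := rfl

theorem ρ_tr {j j' : Q.J} (h : j ≤ j') (a : Q.A j) :
    Q.ρ j' (Q.tr h a) = Q.υ h.1 (Q.ρ j a) := rfl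

theorem s_π (j : Q.J) (a : Q.A j) : Q.s (Q.π j a) = Q.t j.1 (Q.ρ j a) :=
  fib_comm Q.s (Q.t j.1) a.1

/-- distinguished elements of `A_j` -/
def β (j : Q.J) (l : Q.L) : Q.A j := ⟨Q.bk j.1 l, (j.2.2.2 l).1⟩

theorem tr_β {j j' : Q.J} (h : j ≤ j') (l : Q.L) : Q.tr h (Q.β j l) = Q.β j' l :=
  Subtype.ext (Q.τ_bk _ _)

@[simp] theorem π_β (j : Q.J) (l : Q.L) : Q.π j (Q.β j l) = Q.g l := rfl

@[simp] theorem ρ_β (j : Q.J) (l : Q.L) : Q.ρ j (Q.β j l) = Q.f j.1 l := rfl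

instance (j : Q.J) : Algebra.FiniteType ℤ (Q.A j) :=
  (Subalgebra.fg_iff_finiteType _).mp j.2.2.1

/-- every element of `B` comes from some `A_j`, above any given index -/
theorem exists_π_eq [IsDirected K (· ≤ ·)] (j₀ : Q.J) (b : Q.B) :
    ∃ (j : Q.J) (_ : j₀ ≤ j) (a : Q.A j), Q.π j a = b := by
  obtain ⟨k₁, r₁, hr₁⟩ := Q.LS (Q.s b)
  obtain ⟨k, h₀, h₁⟩ := exists_ge_ge j₀.1 k₁
  let r : Q.R k := Q.υ h₁ r₁
  have hr : Q.s b = Q.t k r := by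
    rw [← hr₁]
    exact (RingHom.congr_fun (Q.t_υ h₁) r₁).symm
  let x : Q.Bk k := fibMk Q.s (Q.t k) b r hr
  obtain ⟨A, hj₀, -, hx⟩ := Q.exists_ge j₀ j₀ k h₀ h₀ (Algebra.adjoin ℤ {x})
    (Subalgebra.fg_def.2 ⟨{x}, Set.finite_singleton x, rfl⟩)
  exact ⟨⟨k, A⟩, hj₀, ⟨x, hx (Algebra.subset_adjoin rfl)⟩, rfl⟩

/-- an element of `A_j` mapping to zero in `B` dies at a later stage -/
theorem exists_tr_eq_zero (j : Q.J) (a : Q.A j) (ha : Q.π j a = 0) :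
    ∃ (j' : Q.J) (h : j ≤ j'), Q.tr h a = 0 := by
  have h0 : Q.t j.1 (Q.ρ j a) = 0 := by rw [← Q.s_π, ha, map_zero]
  obtain ⟨k', hk', hr⟩ := Q.LI _ _ h0
  obtain ⟨A', hj', -, -⟩ := Q.exists_ge j j k' hk' hk' ⊥ Subalgebra.fg_bot
  refine ⟨⟨k', A'⟩, hj', Subtype.ext ?_⟩
  apply fib_ext
  · rw [tr_val, fibπ_τ]
    show _ = fibπ Q.s (Q.t k') 0
    rw [map_zero]
    exact ha
  · rw [tr_val, fibρ_τ]
    show _ = fibρ Q.s (Q.t k') 0
    rw [map_zero]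
    exact hr

/-- `R_{α j}[1/f_l]` is the localization of `A_j` at `β_l`. -/
theorem isLocalization_away (j : Q.J) (l : Q.L) (R' : Type u) [CommRing R']
    [Algebra (Q.R (j.1)) R'] [IsLocalization.Away (Q.f (j.1) l) R'] :
    @IsLocalization.Away (Q.A j) _ (Q.β j l) R' _
      (((algebraMap (Q.R (j.1)) R').comp (Q.ρ j)).toAlgebra) := by
  letI : Algebra (Q.A j) R' := ((algebraMap (Q.R (j.1)) R').comp (Q.ρ j)).toAlgebra
  have hu : IsUnit (((algebraMap (Q.R (j.1)) R').comp (Q.ρ j)) (Q.β j l)) := by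
    rw [RingHom.comp_apply, ρ_β]
    exact IsLocalization.Away.algebraMap_isUnit (Q.f (j.1) l)
  let ψ : Localization.Away (Q.β j l) →+* R' := IsLocalization.Away.lift (Q.β j l) hu
  have hψ : ∀ a : Q.A j, ψ (algebraMap (Q.A j) (Localization.Away (Q.β j l)) a) =
      algebraMap (Q.R (j.1)) R' (Q.ρ j a) := fun a => IsLocalization.Away.lift_eq _ hu a
  haveI : IsLocalization.Away (⟨bl Q.s (Q.t j.1) Q.g (Q.f j.1) (Q.t_f j.1) l, (j.2.2.2 l).1⟩ : j.2.1)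
      (Localization.Away (Q.β j l)) :=
    (inferInstance : IsLocalization.Away (Q.β j l) (Localization.Away (Q.β j l)))
  have hbij : Function.Bijective ψ :=
    bijective_of_good Q.s (Q.t j.1) Q.g (Q.f j.1) (Q.t_f j.1) Q.H2i j.2.1 j.2.2.2 l ψ hψ
  let e : Localization.Away (Q.β j l) ≃ₐ[Q.A j] R' :=
    AlgEquiv.ofBijective { ψ with commutes' := fun a => hψ a } hbij
  exact IsLocalization.isLocalization_of_algEquiv _ e

end RSys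

end Groth.Agent.H5.NApprox
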