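import Mathlib
import Groth.Agent.Lib.Helper5.NApprox.RingB
import Groth.Agent.Lib.Helper5.NApprox.SpecA
import Groth.Agent.Lib.Helper9.Misc.FTZ

/-!
# Scheme-level data for the one-step approximation lemma, and its ring system (helper5)
-/

set_option autoImplicit false

namespace Groth.Agent.H5.NApprox

open AlgebraicGeometry CategoryTheory Opposite Limits

universe u

/-- Scheme-level data for the one-step approximation lemma. -/
structure SSys (K : Type u) [Preorder K] where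
  DV : Kᵒᵖ ⥤ Scheme.{u}
  DX : Kᵒᵖ ⥤ Scheme.{u}
  ι : DX ⟶ DV
  oi : ∀ k, IsOpenImmersion (ι.app k)
  cart : ∀ {k k' : Kᵒᵖ} (a : k ⟶ k') (z : DV.obj k),
    DV.map a z ∈ Set.range (ι.app k') → z ∈ Set.range (ι.app k)
  affV : ∀ {k k' : Kᵒᵖ} (a : k ⟶ k'), IsAffineHom (DV.map a)
  affX : ∀ {k k' : Kᵒᵖ} (a : k ⟶ k'), IsAffineHom (DX.map a)
  cptV : ∀ k, CompactSpace (DV.obj k)
  lftV : ∀ k, LocallyOfFiniteType (Limits.IsTerminal.from specULiftZIsTerminal (DV.obj k))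
  cptX : ∀ k, CompactSpace (DX.obj k)
  qsX : ∀ k, QuasiSeparatedSpace (DX.obj k)
  cV : Cone DV
  hcV : IsLimit cV
  cX : Cone DX
  hcX : IsLimit cX
  ιc : cX.pt ⟶ cV.pt
  oic : IsOpenImmersion ιc
  hιc : ∀ k, ιc ≫ cV.π.app k = cX.π.app k ≫ ι.app k
  cartc : ∀ k (z : cV.pt), cV.π.app k z ∈ Set.range (ι.app k) → z ∈ Set.range ιc
  B : CommRingCat.{u}
  ψ : cX.pt ⟶ Spec B
  oiψ : IsOpenImmersion ψ
  L : Type
  finL : Finite L
  g : L → B
  hψ : Set.range ψ = ⋃ l, (PrimeSpectrum.basicOpen (g l) : Set (PrimeSpectrum B))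
  f : ∀ k, L → Γ(DX.obj k, ⊤)
  f_map : ∀ {k k' : Kᵒᵖ} (a : k ⟶ k') l, (DX.map a).appTop (f k' l) = f k l
  f_π : ∀ k l, (cX.π.app k).appTop (f k l) = Γmap ψ (g l)
  affD : ∀ k l, IsAffineOpen ((DX.obj k).basicOpen (f k l))
  covD : ∀ k, ⨆ l, (DX.obj k).basicOpen (f k l) = ⊤

namespace SSys

attribute [instance] SSys.oi SSys.affV SSys.affX SSys.cptV SSys.lftV SSys.cptX SSys.qsX SSys.oic
  SSys.oiψ SSys.finL

variable {K : Type u} [Preorder K] [IsDirected K (· ≤ ·)] [Nonempty K] (Z : SSys K)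

/-- the limit is quasi-compact -/
instance : CompactSpace Z.cX.pt := Scheme.compactSpace_of_isLimit Z.DX Z.cX Z.hcX

instance : QuasiSeparatedSpace Z.cX.pt :=
  quasiSeparatedSpace_of_quasiSeparated Z.ψ

section Infinity

variable (l : Z.L)

/-- the basic open `D(g_l)` of `Spec B` -/
abbrev Dg : (Spec Z.B).Opens := PrimeSpectrum.basicOpen (Z.g l)

theorem Dg_le : Z.Dg l ≤ Z.ψ.opensRange := by
  intro z hz
  show z ∈ Set.range Z.ψ
  rw [Z.hψ]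
  exact Set.mem_iUnion.mpr ⟨l, hz⟩

instance : IsIso (Z.ψ.app (Z.Dg l)) := Z.ψ.isIso_app _ (Z.Dg_le l)

theorem preimage_Dg : Z.ψ ⁻¹ᵁ (Z.Dg l) = Z.cX.pt.basicOpen ((Γmap Z.ψ).hom (Z.g l)) := by
  conv_lhs => rw [← toSpec_Γmap Z.ψ]
  exact toSpec_preimage_basicOpen _ _

theorem app_algebraMap (b : Z.B) :
    (Z.ψ.app (Z.Dg l)).hom (algebraMap Z.B Γ(Spec Z.B, Z.Dg l) b) =
      (Z.cX.pt.presheaf.map (homOfLE (le_top : Z.ψ ⁻¹ᵁ (Z.Dg l) ≤ ⊤)).op).hom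
        ((Γmap Z.ψ).hom b) := by
  rw [IsAffineOpen.algebraMap_Spec_obj]
  unfold Γmap
  have := Z.ψ.naturality (homOfLE (le_top : Z.Dg l ≤ ⊤)).op
  have h2 := congrArg (fun φ => φ.hom ((Scheme.ΓSpecIso Z.B).inv.hom b)) this
  exact h2

end Infinity

/-- localization statement at infinity -/
theorem H2s (l : Z.L) (x : Γ(Z.cX.pt, ⊤)) :
    ∃ (b : Z.B) (n : ℕ), (Γmap Z.ψ).hom (Z.g l) ^ n * x = (Γmap Z.ψ).hom b := by
  let res := (Z.cX.pt.presheaf.map (homOfLE (le_top : Z.ψ ⁻¹ᵁ (Z.Dg l) ≤ ⊤)).op).hom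
  let y : Γ(Spec Z.B, Z.Dg l) := (inv (Z.ψ.app (Z.Dg l))).hom (res x)
  have hy : (Z.ψ.app (Z.Dg l)).hom y = res x := by
    show ((inv (Z.ψ.app (Z.Dg l))) ≫ Z.ψ.app (Z.Dg l)).hom (res x) = res x
    rw [IsIso.inv_hom_id]; rfl
  obtain ⟨n, b, hb⟩ := IsLocalization.Away.surj (Z.g l) y
  have h1 : res x * res ((Γmap Z.ψ).hom (Z.g l)) ^ n = res ((Γmap Z.ψ).hom b) := by
    have e1 := Z.app_algebraMap l b
    have e2 := Z.app_algebraMap l (Z.g l)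
    rw [← hb, map_mul, map_pow, e2, hy] at e1
    exact e1
  have h2 : res (x * (Γmap Z.ψ).hom (Z.g l) ^ n - (Γmap Z.ψ).hom b) = 0 := by
    rw [map_sub, map_mul, map_pow, h1, sub_self]
  have hle : Z.cX.pt.basicOpen ((Γmap Z.ψ).hom (Z.g l)) ≤ Z.ψ ⁻¹ᵁ (Z.Dg l) :=
    (Z.preimage_Dg l).ge
  haveI : IsLocalization.Away ((Γmap Z.ψ).hom (Z.g l))
      Γ(Z.cX.pt, Z.cX.pt.basicOpen ((Γmap Z.ψ).hom (Z.g l))) :=
    isLocalization_basicOpen_of_qcqs (U := ⊤) isCompact_univ isQuasiSeparated_univ _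
  have h3 : algebraMap Γ(Z.cX.pt, ⊤) Γ(Z.cX.pt, Z.cX.pt.basicOpen ((Γmap Z.ψ).hom (Z.g l)))
        (x * (Γmap Z.ψ).hom (Z.g l) ^ n - (Γmap Z.ψ).hom b) =
      algebraMap Γ(Z.cX.pt, ⊤) Γ(Z.cX.pt, Z.cX.pt.basicOpen ((Γmap Z.ψ).hom (Z.g l))) 0 := by
    rw [map_zero]
    have : algebraMap Γ(Z.cX.pt, ⊤) Γ(Z.cX.pt, Z.cX.pt.basicOpen ((Γmap Z.ψ).hom (Z.g l)))
          (x * (Γmap Z.ψ).hom (Z.g l) ^ n - (Γmap Z.ψ).hom b) =
        (Z.cX.pt.presheaf.map (homOfLE hle).op).hom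
          (res (x * (Γmap Z.ψ).hom (Z.g l) ^ n - (Γmap Z.ψ).hom b)) := by
      show (Z.cX.pt.presheaf.map _).hom _ =
        ((Z.cX.pt.presheaf.map _) ≫ (Z.cX.pt.presheaf.map _)).hom _
      rw [← Functor.map_comp]
      rfl
    rw [this, h2, map_zero]
  obtain ⟨m, hm⟩ := IsLocalization.Away.exists_of_eq ((Γmap Z.ψ).hom (Z.g l)) h3
  refine ⟨Z.g l ^ m * b, m + n, ?_⟩
  rw [mul_zero, mul_sub, sub_eq_zero] at hm
  rw [map_mul, map_pow, ← hm, pow_add]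
  ring

theorem H2i (l : Z.L) (b : Z.B) (hb : (Γmap Z.ψ).hom b = 0) :
    ∃ n : ℕ, Z.g l ^ n * b = 0 := by
  have h1 : (Z.ψ.app (Z.Dg l)).hom (algebraMap Z.B Γ(Spec Z.B, Z.Dg l) b) = 0 := by
    rw [Z.app_algebraMap, hb, map_zero]
  have hinj : Function.Injective (Z.ψ.app (Z.Dg l)).hom :=
    (ConcreteCategory.bijective_of_isIso (Z.ψ.app (Z.Dg l))).1
  have h2 : algebraMap Z.B Γ(Spec Z.B, Z.Dg l) b = algebraMap Z.B Γ(Spec Z.B, Z.Dg l) 0 := by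
    rw [map_zero]
    apply hinj
    rw [h1, map_zero]
  obtain ⟨n, hn⟩ := IsLocalization.Away.exists_of_eq (Z.g l) h2
  exact ⟨n, by rw [hn, mul_zero]⟩

theorem hft (k : K) (l : Z.L) :
    @Algebra.FiniteType ℤ (Localization.Away (Z.f (op k) l)) _ _ (Ring.toIntAlgebra _) := by
  set X := Z.DX.obj (op k) with hX
  set r := Z.f (op k) l with hr
  haveI : LocallyOfFiniteType (IsTerminal.from specULiftZIsTerminal X) := by
    have : IsTerminal.from specULiftZIsTerminal X =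
        Z.ι.app (op k) ≫ IsTerminal.from specULiftZIsTerminal (Z.DV.obj (op k)) :=
      specULiftZIsTerminal.hom_ext _ _
    rw [this]; infer_instance
  have h1 : Algebra.FiniteType ℤ Γ(X, X.basicOpen r) :=
    H9.FTZ.finiteType_int X (Z.affD (op k) l)
  haveI : IsLocalization.Away r Γ(X, X.basicOpen r) :=
    isLocalization_basicOpen_of_qcqs (U := ⊤) isCompact_univ isQuasiSeparated_univ r
  let e : Localization.Away r ≃ₐ[Γ(X, ⊤)] Γ(X, X.basicOpen r) :=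
    IsLocalization.algEquiv (Submonoid.powers r) _ _
  exact @Algebra.FiniteType.equiv ℤ _ _ _ _ _ _ (Ring.toIntAlgebra _) h1
    e.symm.toRingEquiv.toIntAlgEquiv

/-- the ring system -/
noncomputable def rsys : RSys K where
  R k := Γ(Z.DX.obj (op k), ⊤)
  Rinf := Γ(Z.cX.pt, ⊤)
  B := Z.B
  υ h := (Z.DX.map (homOfLE h).op).appTop.hom
  υ_id k x := by
    have : (homOfLE (le_refl k)).op = 𝟙 (op k) := rfl
    rw [this, Z.DX.map_id]
    rfl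
  υ_comp h h' x := by
    have : (homOfLE (h.trans h')).op = (homOfLE h').op ≫ (homOfLE h).op := rfl
    rw [this, Z.DX.map_comp, Scheme.Hom.comp_appTop]
    rfl
  t k := (Z.cX.π.app (op k)).appTop.hom
  t_υ h := by
    rw [← CommRingCat.hom_comp, ← Scheme.Hom.comp_appTop, Z.cX.w]
  LS x := by
    obtain ⟨i, r, hr⟩ := exists_appTop_π_eq_of_isLimit Z.DX Z.cX Z.hcX x
    exact ⟨i.unop, r, hr.symm⟩
  LI k r hr := by
    obtain ⟨j, a, ha⟩ := exists_appTop_map_eq_zero_of_isLimit Z.DX Z.cX Z.hcX (i := op k) r hr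
    refine ⟨j.unop, leOfHom a.unop, ?_⟩
    exact ha
  s := (Γmap Z.ψ).hom
  L := Z.L
  finL := Z.finL
  g := Z.g
  f k := Z.f (op k)
  f_υ h l := Z.f_map _ l
  t_f k l := Z.f_π (op k) l
  H2s := Z.H2s
  H2i := Z.H2i
  hft := Z.hft

end SSys

end Groth.Agent.H5.NApprox
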