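import Mathlib
import Groth.Agent.Lib.Helper5.NApprox.SysA
import Groth.Agent.Lib.Helper5.NApprox.SpecB
import Groth.Agent.Lib.Helper5.NApprox.GlueB
import Groth.Agent.Lib.Helper5.NApprox.GlueC

/-!
# The approximating system built from scheme-level data (helper5)
-/

set_option autoImplicit false

namespace Groth.Agent.H5.NApprox

open AlgebraicGeometry CategoryTheory Opposite Limits

universe u

namespace SSys

variable {K : Type u} [Preorder K] [IsDirected K (· ≤ ·)] [Nonempty K] (Z : SSys K)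

/-- the rings `A_j` -/
noncomputable abbrev Aj (j : Z.rsys.J) : CommRingCat.{u} := CommRingCat.of (Z.rsys.A j)

/-- the ring map `A_j → Γ(X_j, ⊤)` -/
noncomputable def φj (j : Z.rsys.J) : Z.Aj j ⟶ Γ(Z.DX.obj (op j.1), ⊤) :=
  CommRingCat.ofHom (Z.rsys.ρ j)

/-- the morphism `X_j → Spec A_j` -/
noncomputable def ψj (j : Z.rsys.J) : Z.DX.obj (op j.1) ⟶ Spec (Z.Aj j) := toSpec (Z.φj j)

theorem φj_β (j : Z.rsys.J) (l : Z.L) : (Z.φj j) (Z.rsys.β j l) = Z.f (op j.1) l := rfl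

theorem hloc (j : Z.rsys.J) (l : Z.L) :
    @IsLocalization.Away (Z.Aj j) _ (Z.rsys.β j l)
      Γ(Z.DX.obj (op j.1), (Z.DX.obj (op j.1)).basicOpen ((Z.φj j) (Z.rsys.β j l))) _
      ((Z.φj j ≫ (Z.DX.obj (op j.1)).presheaf.map (homOfLE (le_top :
        (Z.DX.obj (op j.1)).basicOpen ((Z.φj j) (Z.rsys.β j l)) ≤ ⊤)).op).hom.toAlgebra) :=
  @RSys.isLocalization_away K _ Z.rsys j l
    Γ(Z.DX.obj (op j.1), (Z.DX.obj (op j.1)).basicOpen (Z.f (op j.1) l)) _
    (AlgebraicGeometry.Scheme.algebra_section_section_basicOpen (Z.f (op j.1) l))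
    (isLocalization_basicOpen_of_qcqs (U := ⊤) isCompact_univ isQuasiSeparated_univ _)

instance (j : Z.rsys.J) : IsOpenImmersion (Z.ψj j) :=
  toSpec_isOpenImmersion_of_loc (Z.φj j) (Z.rsys.β j) (Z.covD (op j.1)) (Z.affD (op j.1))
    (Z.hloc j)

theorem range_ψj (j : Z.rsys.J) : Set.range (Z.ψj j) =
    ⋃ l, (PrimeSpectrum.basicOpen (Z.rsys.β j l) : Set (PrimeSpectrum (Z.Aj j))) :=
  range_toSpec_of_loc (Z.φj j) (Z.rsys.β j) (Z.covD (op j.1)) (Z.affD (op j.1)) (Z.hloc j)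

/-- the gluing datum at index `j` -/
noncomputable def Gj (j : Z.rsys.J) : GD.{u} where
  V := Z.DV.obj (op j.1)
  W := Z.DX.obj (op j.1)
  P := Spec (Z.Aj j)
  i₁ := Z.ι.app (op j.1)
  i₂ := Z.ψj j

theorem mem_range_ψj_iff (j : Z.rsys.J) (b : Spec (Z.Aj j)) :
    b ∈ Set.range (Z.ψj j) ↔ ∃ l, b ∈ (PrimeSpectrum.basicOpen (Z.rsys.β j l)) := by
  rw [Z.range_ψj]
  exact Set.mem_iUnion

/-- the ring-level transition as a morphism of `CommRingCat` -/
noncomputable def trC {j j' : Z.rsys.J} (h : j ≤ j') : Z.Aj j ⟶ Z.Aj j' :=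
  CommRingCat.ofHom (Z.rsys.tr h)

theorem trC_id (j : Z.rsys.J) : Z.trC (le_refl j) = 𝟙 _ := by
  apply CommRingCat.hom_ext
  apply RingHom.ext
  intro a
  exact Z.rsys.tr_id j a

theorem trC_comp {j j' j'' : Z.rsys.J} (h : j ≤ j') (h' : j' ≤ j'') :
    Z.trC h ≫ Z.trC h' = Z.trC (h.trans h') := by
  apply CommRingCat.hom_ext
  apply RingHom.ext
  intro a
  exact Z.rsys.tr_comp h h' a

/-- transition morphisms of gluing data -/
noncomputable def trHom {j j' : Z.rsys.J} (h : j ≤ j') : GD.Hom (Z.Gj j') (Z.Gj j) where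
  v := Z.DV.map (homOfLE h.1).op
  w := Z.DX.map (homOfLE h.1).op
  p := Spec.map (Z.trC h)
  hv := (Z.ι.naturality (homOfLE h.1).op).symm
  hp := by
    show Z.ψj j' ≫ Spec.map (Z.trC h) = Z.DX.map (homOfLE h.1).op ≫ Z.ψj j
    unfold ψj
    rw [toSpec_SpecMap, comp_toSpec]
    congr 1
  c₁ := fun a ha => Z.cart (homOfLE h.1).op a ha
  c₂ := by
    intro b hb
    have hb' : (Spec.map (Z.trC h)) (show Spec (Z.Aj j') from b) ∈ Set.range (Z.ψj j) := hb
    show (show Spec (Z.Aj j') from b) ∈ Set.range (Z.ψj j')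
    rw [mem_range_ψj_iff] at hb' ⊢
    obtain ⟨l, hl⟩ := hb'
    refine ⟨l, ?_⟩
    have : b ∈ Spec.map (Z.trC h) ⁻¹ᵁ (PrimeSpectrum.basicOpen (Z.rsys.β j l)) := hl
    rw [SpecMap_preimage_basicOpen] at this
    have e : (Z.trC h) (Z.rsys.β j l) = Z.rsys.β j' l := Z.rsys.tr_β h l
    rw [e] at this
    exact this

/-- the diagram of glued schemes -/
noncomputable def DG : Z.rsys.Jᵒᵖ ⥤ Scheme.{u} where
  obj j := (Z.Gj j.unop).glued
  map a := (Z.trHom (leOfHom a.unop)).glue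
  map_id j := by
    apply GD.Hom.glue_eq_id
    · exact Z.DV.map_id _
    · show Spec.map (Z.trC _) = 𝟙 _
      rw [Z.trC_id, Spec.map_id]
  map_comp {j j' j''} a b := by
    symm
    apply GD.Hom.glue_comp_eq
    · exact (Z.DV.map_comp _ _).symm
    · show Spec.map (Z.trC _) ≫ Spec.map (Z.trC _) = Spec.map (Z.trC _)
      rw [← Spec.map_comp, Z.trC_comp]


/-- the order map as a functor -/
noncomputable abbrev αF : Z.rsys.J ⥤ K := Z.rsys.α.monotone.functor

instance : (Z.αF).Final := by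
  apply Functor.final_of_exists_of_isFiltered
  · intro k
    obtain ⟨j, hj⟩ := Z.rsys.exists_α_ge k
    exact ⟨j, ⟨homOfLE hj⟩⟩
  · intro d c s s'
    exact ⟨c, 𝟙 _, Subsingleton.elim _ _⟩

/-- the `V`-system reindexed by `J` -/
noncomputable def DVJ : Z.rsys.Jᵒᵖ ⥤ Scheme.{u} := Z.αF.op ⋙ Z.DV

noncomputable def cVJ : Cone Z.DVJ := Z.cV.whisker Z.αF.op

noncomputable def hcVJ : IsLimit Z.cVJ :=
  (Functor.Initial.isLimitWhiskerEquiv Z.αF.op Z.cV).symm Z.hcV

/-- the system of rings `A_j` -/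
noncomputable def ringF : Z.rsys.J ⥤ CommRingCat.{u} where
  obj j := Z.Aj j
  map a := Z.trC (leOfHom a)
  map_id j := Z.trC_id j
  map_comp a b := (Z.trC_comp _ _).symm

/-- the cocone `A_j → B` -/
noncomputable def ringCocone : Cocone Z.ringF where
  pt := Z.B
  ι :=
    { app := fun j => CommRingCat.ofHom (Z.rsys.π j)
      naturality := by
        intro j j' a
        apply CommRingCat.hom_ext
        apply RingHom.ext
        intro x
        exact Z.rsys.π_tr (leOfHom a) x }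

theorem ringCocone_isColimit : Nonempty (IsColimit Z.ringCocone) := by
  have : ReflectsFilteredColimits (forget CommRingCat.{u}) :=
    ⟨fun _ ↦ reflectsColimitsOfShape_of_reflectsIsomorphisms⟩
  refine ReflectsColimit.reflects (F := forget _) (Types.FilteredColimit.isColimitOf' _ _ ?_ ?_)
  · intro b
    obtain ⟨j₀⟩ := (inferInstance : Nonempty Z.rsys.J)
    obtain ⟨j, -, a, ha⟩ := Z.rsys.exists_π_eq j₀ b
    exact ⟨j, a, ha.symm⟩
  · intro j (x : Z.rsys.A j) (y : Z.rsys.A j) hxy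
    have hxy' : Z.rsys.π j x = Z.rsys.π j y := hxy
    have h0 : Z.rsys.π j (x - y) = 0 := by
      rw [map_sub, sub_eq_zero]
      exact hxy'
    obtain ⟨j', h, hj'⟩ := Z.rsys.exists_tr_eq_zero j (x - y) h0
    refine ⟨j', homOfLE h, ?_⟩
    rw [map_sub, sub_eq_zero] at hj'
    exact hj'

/-- the `Spec A_j`-system -/
noncomputable def DP : Z.rsys.Jᵒᵖ ⥤ Scheme.{u} := Z.ringF.op ⋙ Scheme.Spec

noncomputable def cP : Cone Z.DP := Scheme.Spec.mapCone Z.ringCocone.op

theorem hcP : Nonempty (IsLimit Z.cP) := by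
  obtain ⟨h⟩ := Z.ringCocone_isColimit
  exact ⟨isLimitOfPreserves Scheme.Spec h.op⟩


/-- the inclusions of the `V`-parts -/
noncomputable def inlT : Z.DVJ ⟶ Z.DG where
  app j := (Z.Gj j.unop).inl
  naturality := by
    intro j j' a
    exact (GD.Hom.inl_glue (Z.trHom (leOfHom a.unop))).symm

/-- the inclusions of the affine parts -/
noncomputable def inrT : Z.DP ⟶ Z.DG where
  app j := (Z.Gj j.unop).inr
  naturality := by
    intro j j' a
    exact (GD.Hom.inr_glue (Z.trHom (leOfHom a.unop))).symm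

instance (j : Z.rsys.Jᵒᵖ) : IsOpenImmersion (Z.inlT.app j) :=
  inferInstanceAs (IsOpenImmersion (Z.Gj j.unop).inl)

instance (j : Z.rsys.Jᵒᵖ) : IsOpenImmersion (Z.inrT.app j) :=
  inferInstanceAs (IsOpenImmersion (Z.Gj j.unop).inr)

/-- the gluing datum at infinity -/
noncomputable def Ginf : GD.{u} where
  V := Z.cV.pt
  W := Z.cX.pt
  P := Spec Z.B
  i₁ := Z.ιc
  i₂ := Z.ψ

/-- the projection `B ← A_j` as a morphism -/
noncomputable def πC (j : Z.rsys.J) : Z.Aj j ⟶ Z.B := CommRingCat.ofHom (Z.rsys.π j)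

/-- the projections of gluing data -/
noncomputable def infHom (j : Z.rsys.J) : GD.Hom Z.Ginf (Z.Gj j) where
  v := Z.cV.π.app (op j.1)
  w := Z.cX.π.app (op j.1)
  p := Spec.map (Z.πC j)
  hv := Z.hιc (op j.1)
  hp := by
    show Z.ψ ≫ Spec.map (Z.πC j) = Z.cX.π.app (op j.1) ≫ Z.ψj j
    apply hom_ext_Spec
    unfold ψj
    rw [Γmap_SpecMap, Γmap_comp, Γmap_toSpec]
    apply CommRingCat.hom_ext
    apply RingHom.ext
    intro a
    exact Z.rsys.s_π j a
  c₁ := fun a ha => Z.cartc (op j.1) a ha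
  c₂ := by
    intro b hb
    have hb' : (Spec.map (Z.πC j)) (show Spec Z.B from b) ∈ Set.range (Z.ψj j) := hb
    show (show Spec Z.B from b) ∈ Set.range Z.ψ
    rw [mem_range_ψj_iff] at hb'
    obtain ⟨l, hl⟩ := hb'
    rw [Z.hψ]
    refine Set.mem_iUnion.mpr ⟨l, ?_⟩
    have : b ∈ Spec.map (Z.πC j) ⁻¹ᵁ (PrimeSpectrum.basicOpen (Z.rsys.β j l)) := hl
    rw [SpecMap_preimage_basicOpen] at this
    exact this

/-- the cone of glued schemes -/
noncomputable def cG : Cone Z.DG where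
  pt := Z.Ginf.glued
  π :=
    { app := fun j => (Z.infHom j.unop).glue
      naturality := by
        intro j j' a
        refine (Category.id_comp _).trans ?_
        symm
        apply GD.Hom.glue_comp_eq
        · exact Z.cV.w (homOfLE (leOfHom a.unop).1).op
        · show Spec.map (Z.πC _) ≫ Spec.map (Z.trC _) = Spec.map (Z.πC _)
          rw [← Spec.map_comp]
          congr 1 }

theorem hcG : Nonempty (IsLimit Z.cG) := by
  obtain ⟨hP⟩ := Z.hcP
  let inlI : Z.cVJ.pt ⟶ Z.cG.pt := Z.Ginf.inl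
  let inrI : Z.cP.pt ⟶ Z.cG.pt := Z.Ginf.inr
  haveI : IsOpenImmersion inlI := inferInstanceAs (IsOpenImmersion Z.Ginf.inl)
  haveI : IsOpenImmersion inrI := inferInstanceAs (IsOpenImmersion Z.Ginf.inr)
  refine nonempty_isLimit_glued Z.inlT Z.inrT ?_ ?_ ?_ Z.hcVJ hP inlI inrI ?_ ?_ ?_ ?_
  · intro j z
    exact (Z.Gj j.unop).cover z
  · intro i j a z
    exact GD.Hom.glue_mem_range_inl_iff (Z.trHom (leOfHom a.unop)) z
  · intro i j a z
    exact GD.Hom.glue_mem_range_inr_iff (Z.trHom (leOfHom a.unop)) z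
  · intro j
    exact GD.Hom.inl_glue (Z.infHom j.unop)
  · intro j
    exact GD.Hom.inr_glue (Z.infHom j.unop)
  · intro j z
    exact GD.Hom.glue_mem_range_inl_iff (Z.infHom j.unop) z
  · intro j z
    exact GD.Hom.glue_mem_range_inr_iff (Z.infHom j.unop) z


end SSys

end Groth.Agent.H5.NApprox
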