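import Mathlib
import Groth.Agent.Lib.Helper5.NApprox.SysB

/-!
# The relative approximation predicate and the abstract one-step lemma (helper5)
-/

set_option autoImplicit false

namespace Groth.Agent.H5.NApprox

open AlgebraicGeometry CategoryTheory Opposite Limits

universe u

/-- The conclusion of the relative Noetherian approximation statement. -/
def RelApprox (S : Scheme.{u}) (V : S.Opens) (I : Type u) [Preorder I]
    (DV : Iᵒᵖ ⥤ Scheme.{u}) (cV : Limits.Cone DV) (eV : cV.pt ≅ (V : Scheme.{u})) : Prop :=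
  ∃ (J : Type u) (_ : Preorder J) (_ : IsDirected J (fun a b => a ≤ b)) (_ : Nonempty J)
      (DS : Jᵒᵖ ⥤ Scheme.{u}) (cS : Limits.Cone DS) (_ : Limits.IsLimit cS) (eS : cS.pt ≅ S)
      (α : J →o I) (V' : ∀ j : J, (DS.obj (op j)).Opens)
      (φ : ∀ j : J, (V' j : Scheme.{u}) ≅ DV.obj (op (α j))),
      (∀ (j j' : Jᵒᵖ) (a : j ⟶ j'), IsAffineHom (DS.map a)) ∧
      (∀ j, CompactSpace (DS.obj j) ∧
        LocallyOfFiniteType (Limits.IsTerminal.from specULiftZIsTerminal (DS.obj j))) ∧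
      (∀ (j j' : J) (h : j' ≤ j), (DS.map (homOfLE h).op) ⁻¹ᵁ (V' j') = V' j) ∧
      (∀ j : J, (eS.inv ≫ cS.π.app (op j)) ⁻¹ᵁ (V' j) = V) ∧
      (∀ j : J, ∃ ρ : (V : Scheme.{u}) ⟶ (V' j : Scheme.{u}),
        ρ ≫ (V' j).ι = V.ι ≫ eS.inv ≫ cS.π.app (op j) ∧
        ρ ≫ (φ j).hom = eV.inv ≫ cV.π.app (op (α j))) ∧
      (∀ (j j' : J) (h : j' ≤ j), ∃ τ : (V' j : Scheme.{u}) ⟶ (V' j' : Scheme.{u}),
        τ ≫ (V' j').ι = (V' j).ι ≫ DS.map (homOfLE h).op ∧
        (φ j).hom ≫ DV.map (homOfLE (α.mono h)).op = τ ≫ (φ j').hom)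

/-- `Spec A` is locally of finite type over `ℤ` for a finitely generated ring `A`. -/
theorem lft_Spec (A : Type u) [CommRing A] [Algebra ℤ A] [Algebra.FiniteType ℤ A] :
    LocallyOfFiniteType
      (Limits.IsTerminal.from specULiftZIsTerminal (Spec (CommRingCat.of A))) := by
  let e : ULift.{u} ℤ →+* ℤ := (ULift.ringEquiv : ULift.{u} ℤ ≃+* ℤ).toRingHom
  have he : Function.Surjective e := (ULift.ringEquiv : ULift.{u} ℤ ≃+* ℤ).surjective
  let φ : CommRingCat.of (ULift.{u} ℤ) ⟶ CommRingCat.of A :=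
    CommRingCat.ofHom ((algebraMap ℤ A).comp e)
  have : Limits.IsTerminal.from specULiftZIsTerminal (Spec (CommRingCat.of A)) = Spec.map φ :=
    specULiftZIsTerminal.hom_ext _ _
  rw [this, HasRingHomProperty.Spec_iff (P := @LocallyOfFiniteType)]
  have h1 : (algebraMap ℤ A).FiniteType := RingHom.finiteType_algebraMap.mpr inferInstance
  exact h1.comp (RingHom.FiniteType.of_surjective e he)

namespace GD

variable (G : GD.{u})

/-- the two pieces as an open cover -/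
noncomputable def pieceCover : G.glued.OpenCover :=
  Scheme.Cover.mkOfCovers Bool (fun b => bif b then G.V else G.P)
    (fun b => match b with
      | true => G.inl
      | false => G.inr)
    (by
      intro x
      rcases G.cover x with ⟨v, rfl⟩ | ⟨p, rfl⟩
      · exact ⟨true, v, rfl⟩
      · exact ⟨false, p, rfl⟩)
    (by
      intro b
      cases b
      · exact inferInstanceAs (IsOpenImmersion G.inr)
      · exact inferInstanceAs (IsOpenImmersion G.inl))

theorem lft_glued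
    (hV : LocallyOfFiniteType (Limits.IsTerminal.from specULiftZIsTerminal G.V))
    (hP : LocallyOfFiniteType (Limits.IsTerminal.from specULiftZIsTerminal G.P)) :
    LocallyOfFiniteType (Limits.IsTerminal.from specULiftZIsTerminal G.glued) := by
  apply IsZariskiLocalAtSource.of_openCover (P := @LocallyOfFiniteType) G.pieceCover
  intro b
  cases b
  · have : G.pieceCover.f false ≫ Limits.IsTerminal.from specULiftZIsTerminal G.glued =
        Limits.IsTerminal.from specULiftZIsTerminal G.P := specULiftZIsTerminal.hom_ext _ _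
    rw [this]; exact hP
  · have : G.pieceCover.f true ≫ Limits.IsTerminal.from specULiftZIsTerminal G.glued =
        Limits.IsTerminal.from specULiftZIsTerminal G.V := specULiftZIsTerminal.hom_ext _ _
    rw [this]; exact hV

end GD

section Aux

variable {A B C B' C' : Scheme.{u}}

theorem aux_ρ (p : A ⟶ B) (i : B ⟶ C) [IsOpenImmersion i] :
    (p ≫ i.isoOpensRange.hom) ≫ i.opensRange.ι = p ≫ i := by
  rw [Category.assoc, Scheme.Hom.isoOpensRange_hom_ι]

theorem aux_iso (p : A ⟶ B) (e : B ≅ C) : (p ≫ e.hom) ≫ e.inv = p := by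
  rw [Category.assoc, Iso.hom_inv_id, Category.comp_id]

theorem aux_τ (i : B ⟶ C) (i' : B' ⟶ C') [IsOpenImmersion i] [IsOpenImmersion i']
    (d : B ⟶ B') (g : C ⟶ C') (h : i ≫ g = d ≫ i') :
    (i.isoOpensRange.inv ≫ d ≫ i'.isoOpensRange.hom) ≫ i'.opensRange.ι =
      i.opensRange.ι ≫ g := by
  rw [Category.assoc, Category.assoc, Scheme.Hom.isoOpensRange_hom_ι,
    ← Scheme.Hom.isoOpensRange_inv_comp, Category.assoc, h]

theorem aux_τ' (i : B ⟶ C) (i' : B' ⟶ C') [IsOpenImmersion i] [IsOpenImmersion i']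
    (d : B ⟶ B') :
    i.isoOpensRange.inv ≫ d =
      (i.isoOpensRange.inv ≫ d ≫ i'.isoOpensRange.hom) ≫ i'.isoOpensRange.inv := by
  rw [Category.assoc, Category.assoc, Iso.hom_inv_id, Category.comp_id]

theorem aux5 {Vt Cv Gi Sx Gj Dv : Scheme.{u}} (ι : Vt ⟶ Sx) (einv : Vt ⟶ Cv) (a : Cv ⟶ Sx)
    (eSinv : Sx ⟶ Gi) (inl' : Cv ⟶ Gi) (glue : Gi ⟶ Gj) (π : Cv ⟶ Dv) (inlj : Dv ⟶ Gj)
    (h1 : ι = einv ≫ a) (h2 : a ≫ eSinv = inl') (h3 : inl' ≫ glue = π ≫ inlj) :
    ι ≫ eSinv ≫ glue = (einv ≫ π) ≫ inlj := by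
  rw [h1, Category.assoc, reassoc_of% h2, h3, Category.assoc]

end Aux

namespace SSys

variable {K : Type u} [Preorder K] [IsDirected K (· ≤ ·)] [Nonempty K] (Z : SSys K)

/-- The abstract one-step lemma. -/
theorem relApprox {S : Scheme.{u}} (V : S.Opens) (eV : Z.cV.pt ≅ (V : Scheme.{u}))
    (b : Spec Z.B ⟶ S) [IsOpenImmersion b]
    (hab : Z.ιc ≫ eV.hom ≫ V.ι = Z.ψ ≫ b)
    (hcov : ∀ x : S, x ∈ V ∨ x ∈ Set.range b)
    (hint : ∀ (v : Z.cV.pt) (p : Spec Z.B), (eV.hom ≫ V.ι) v = b p → v ∈ Set.range Z.ιc) :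
    RelApprox S V K Z.DV Z.cV eV := by
  let a : Z.Ginf.V ⟶ S := eV.hom ≫ V.ι
  let b' : Z.Ginf.P ⟶ S := b
  haveI : IsOpenImmersion a := inferInstanceAs (IsOpenImmersion (eV.hom ≫ V.ι))
  haveI : IsOpenImmersion b' := inferInstanceAs (IsOpenImmersion b)
  have hrange : ∀ x : S, x ∈ V ↔ x ∈ Set.range a := by
    intro x
    constructor
    · intro hx
      refine ⟨eV.inv ⟨x, hx⟩, ?_⟩
      show (eV.hom ≫ V.ι) (eV.inv ⟨x, hx⟩) = x
      rw [← Scheme.Hom.comp_apply, Iso.inv_hom_id_assoc]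
      rfl
    · rintro ⟨v, rfl⟩
      show (eV.hom ≫ V.ι) v ∈ V
      rw [Scheme.Hom.comp_apply]
      exact (eV.hom v).2
  have hcov' : ∀ x : S, x ∈ Set.range a ∨ x ∈ Set.range b' := by
    intro x
    rcases hcov x with h | h
    · exact Or.inl ((hrange x).mp h)
    · exact Or.inr h
  have hab' : Z.Ginf.i₁ ≫ a = Z.Ginf.i₂ ≫ b' := hab
  haveI hiso : IsIso (Z.Ginf.desc a b' hab') := Z.Ginf.desc_isIso a b' hab' hint hcov'
  let eS : Z.Ginf.glued ≅ S := asIso (Z.Ginf.desc a b' hab')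
  have heS : Z.Ginf.inl ≫ eS.hom = a := Z.Ginf.inl_desc a b' hab'
  have heS' : a ≫ eS.inv = Z.Ginf.inl := by
    rw [← heS, Category.assoc, Iso.hom_inv_id, Category.comp_id]
  obtain ⟨hlim⟩ := Z.hcG
  refine ⟨Z.rsys.J, inferInstance, inferInstance, inferInstance, Z.DG, Z.cG, hlim, eS, Z.rsys.α,
    fun j => (Z.Gj j).inl.opensRange, fun j => (Z.Gj j).inl.isoOpensRange.symm,
    ?_, ?_, ?_, ?_, ?_, ?_⟩
  · intro j j' a
    haveI : IsAffineHom (Z.trHom (leOfHom a.unop)).v := Z.affV _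
    haveI : IsAffineHom (Z.trHom (leOfHom a.unop)).p :=
      inferInstanceAs (IsAffineHom (Spec.map _))
    exact GD.Hom.glue_isAffineHom (Z.trHom (leOfHom a.unop))
  · intro j
    constructor
    · haveI : CompactSpace (Z.Gj j.unop).V := Z.cptV _
      haveI : CompactSpace (Z.Gj j.unop).P := inferInstanceAs (CompactSpace (Spec _))
      exact GD.compactSpace_glued (Z.Gj j.unop)
    · exact GD.lft_glued (Z.Gj j.unop) (Z.lftV _) (lft_Spec (Z.rsys.A j.unop))
  · intro j j' h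
    ext z
    exact GD.Hom.glue_mem_range_inl_iff (Z.trHom h) z
  · intro j
    ext x
    show (eS.inv ≫ (Z.infHom j).glue) x ∈ Set.range (Z.Gj j).inl ↔ x ∈ V
    rw [Scheme.Hom.comp_apply, GD.Hom.glue_mem_range_inl_iff, hrange]
    constructor
    · rintro ⟨v, hv⟩
      refine ⟨v, ?_⟩
      rw [← heS, Scheme.Hom.comp_apply, hv, ← Scheme.Hom.comp_apply, Iso.inv_hom_id]
      rfl
    · rintro ⟨v, rfl⟩
      refine ⟨v, ?_⟩
      rw [← Scheme.Hom.comp_apply, heS']
  · intro j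
    let p : (V : Scheme.{u}) ⟶ (Z.Gj j).V := eV.inv ≫ Z.cV.π.app (op j.1)
    refine ⟨p ≫ (Z.Gj j).inl.isoOpensRange.hom, ?_, ?_⟩
    · have hVι : V.ι = eV.inv ≫ a := by
        show V.ι = eV.inv ≫ eV.hom ≫ V.ι
        rw [Iso.inv_hom_id_assoc]
      have h1 : V.ι ≫ eS.inv ≫ (Z.infHom j).glue = p ≫ (Z.Gj j).inl :=
        aux5 V.ι eV.inv a eS.inv Z.Ginf.inl (Z.infHom j).glue (Z.infHom j).v (Z.Gj j).inl hVι heS'
          (GD.Hom.inl_glue (Z.infHom j))
      exact (aux_ρ p (Z.Gj j).inl).trans h1.symm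
    · exact aux_iso p (Z.Gj j).inl.isoOpensRange
  · intro j j' h
    refine ⟨(Z.Gj j).inl.isoOpensRange.inv ≫ (Z.trHom h).v ≫
      (Z.Gj j').inl.isoOpensRange.hom, ?_, ?_⟩
    · exact aux_τ (Z.Gj j).inl (Z.Gj j').inl (Z.trHom h).v (Z.trHom h).glue
        (GD.Hom.inl_glue (Z.trHom h))
    · exact aux_τ' (Z.Gj j).inl (Z.Gj j').inl (Z.trHom h).v

end SSys

end Groth.Agent.H5.NApprox
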