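import Mathlib
import Groth.Agent.Lib.Helper5.NApprox.OneA
import Groth.Agent.Lib.Helper5.NApprox.DescA

/-!
# Building the scheme-level system from a concrete situation (helper5)
-/

set_option autoImplicit false

namespace Groth.Agent.H5.NApprox

open AlgebraicGeometry CategoryTheory Opposite Limits

universe u

/-- schemes locally of finite type over `ℤ` are quasi-separated -/
theorem quasiSeparatedSpace_of_lft (X : Scheme.{u})
    [LocallyOfFiniteType (Limits.IsTerminal.from specULiftZIsTerminal X)] :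
    QuasiSeparatedSpace X := by
  haveI : IsNoetherianRing (ULift.{u} ℤ) := isNoetherianRing_of_ringEquiv ℤ ULift.ringEquiv.symm
  haveI : IsNoetherianRing (CommRingCat.of (ULift.{u} ℤ)) := this
  haveI := LocallyOfFiniteType.isLocallyNoetherian
    (Limits.IsTerminal.from specULiftZIsTerminal X)
  infer_instance

section Build

variable {I : Type u} [Preorder I] [IsDirected I (· ≤ ·)] [Nonempty I]

theorem hom_op_ext {a b : Iᵒᵖ} (f g : a ⟶ b) : f = g :=
  Quiver.Hom.unop_inj (Subsingleton.elim _ _)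

variable (DV : Iᵒᵖ ⥤ Scheme.{u}) [haff : ∀ {i j : Iᵒᵖ} (f : i ⟶ j), IsAffineHom (DV.map f)]
  [hcpt : ∀ i, CompactSpace (DV.obj i)]
  [hlft : ∀ i, LocallyOfFiniteType (Limits.IsTerminal.from specULiftZIsTerminal (DV.obj i))]
  (cV : Cone DV) (hcV : IsLimit cV)
  (i₀ : Iᵒᵖ) (W₀ : (DV.obj i₀).Opens) (hW₀ : IsCompact (W₀ : Set (DV.obj i₀)))

include hW₀ in
theorem compactSpace_opensDiagram (j : Over i₀) :
    CompactSpace ((opensDiagram DV i₀ W₀).obj j) :=
  isCompact_iff_compactSpace.mp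
    (QuasiCompact.isCompact_preimage (f := (DV.map j.hom)) _ W₀.2 hW₀)

theorem quasiSeparatedSpace_opensDiagram (j : Over i₀) :
    QuasiSeparatedSpace ((opensDiagram DV i₀ W₀).obj j) := by
  haveI := quasiSeparatedSpace_of_lft (DV.obj j.left)
  exact (isQuasiSeparated_iff_quasiSeparatedSpace _ (DV.map j.hom ⁻¹ᵁ W₀).2).mp
    (.of_quasiSeparatedSpace _)

end Build

section Index

variable {I : Type u} [Preorder I] [IsDirected I (· ≤ ·)] [Nonempty I] {i₀ : Iᵒᵖ} (j₁ : Over i₀)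

/-- the index set above a given level -/
abbrev KIdx : Type u := {i : I // j₁.left.unop ≤ i}

instance : IsDirected (KIdx j₁) (· ≤ ·) where
  directed a b := by
    obtain ⟨c, hac, hbc⟩ := exists_ge_ge a.1 b.1
    exact ⟨⟨c, a.2.trans hac⟩, hac, hbc⟩

instance : Nonempty (KIdx j₁) := ⟨⟨j₁.left.unop, le_refl _⟩⟩

/-- the comparison functor to the over category -/
def EK : (KIdx j₁)ᵒᵖ ⥤ Over i₀ where
  obj k := Over.mk ((homOfLE k.unop.2).op ≫ j₁.hom)
  map {k k'} a := Over.homMk (homOfLE (show k'.unop.1 ≤ k.unop.1 from leOfHom a.unop)).op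
    (hom_op_ext _ _)
  map_id k := by
    apply Over.OverMorphism.ext
    exact hom_op_ext _ _
  map_comp a b := by
    apply Over.OverMorphism.ext
    exact hom_op_ext _ _

theorem over_hom_ext {a b : Over i₀} (f g : a ⟶ b) : f = g := by
  apply Over.OverMorphism.ext
  exact hom_op_ext _ _

instance : (EK j₁).Initial := by
  apply Functor.initial_of_exists_of_isCofiltered
  · intro d
    obtain ⟨c, h1, h2⟩ := exists_ge_ge j₁.left.unop d.left.unop
    exact ⟨op ⟨c, h1⟩, ⟨Over.homMk (homOfLE h2).op (hom_op_ext _ _)⟩⟩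
  · intro d c s s'
    exact ⟨c, 𝟙 _, by rw [over_hom_ext s s']⟩

/-- the canonical map to the base level -/
def toJ₁ (k : (KIdx j₁)ᵒᵖ) : (EK j₁).obj k ⟶ j₁ :=
  Over.homMk (homOfLE k.unop.2).op rfl

end Index

section Mk

variable {I : Type u} [Preorder I] [IsDirected I (· ≤ ·)] [Nonempty I]
  (DV : Iᵒᵖ ⥤ Scheme.{u}) [haff : ∀ {i j : Iᵒᵖ} (f : i ⟶ j), IsAffineHom (DV.map f)]
  [hcpt : ∀ i, CompactSpace (DV.obj i)]
  [hlft : ∀ i, LocallyOfFiniteType (Limits.IsTerminal.from specULiftZIsTerminal (DV.obj i))]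
  (cV : Cone DV) (hcV : IsLimit cV)
  (i₀ : Iᵒᵖ) (W₀ : (DV.obj i₀).Opens) (hW₀ : IsCompact (W₀ : Set (DV.obj i₀)))
  {B : CommRingCat.{u}} (ψ : (opensCone DV cV i₀ W₀).pt ⟶ Spec B) [IsOpenImmersion ψ]
  {L : Type} [Finite L] (g : L → B)
  (hψ : Set.range ψ = ⋃ l, (PrimeSpectrum.basicOpen (g l) : Set (PrimeSpectrum B)))
  (j₁ : Over i₀) (f₁ : L → Γ((opensDiagram DV i₀ W₀).obj j₁, ⊤))
  (h1 : ∀ l, ((opensCone DV cV i₀ W₀).π.app j₁).appTop (f₁ l) = Γmap ψ (g l))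
  (h2 : ∀ l, IsAffineOpen (((opensDiagram DV i₀ W₀).obj j₁).basicOpen (f₁ l)))
  (h3 : ⨆ l, ((opensDiagram DV i₀ W₀).obj j₁).basicOpen (f₁ l) = ⊤)

theorem mem_range_opens_ι {X : Scheme.{u}} (O : X.Opens) (z : X) :
    z ∈ Set.range O.ι ↔ z ∈ O := by
  rw [Scheme.Opens.range_ι]; rfl

/-- the scheme-level system of the concrete situation -/
noncomputable def mkSSys : SSys (KIdx j₁) where
  DV := EK j₁ ⋙ Over.forget i₀ ⋙ DV
  DX := EK j₁ ⋙ opensDiagram DV i₀ W₀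
  ι := Functor.whiskerLeft (EK j₁) (opensDiagramι DV i₀ W₀)
  oi k := inferInstanceAs (IsOpenImmersion ((opensDiagramι DV i₀ W₀).app ((EK j₁).obj k)))
  cart := by
    intro k k' a z hz
    have hz' : DV.map ((EK j₁).map a).left z ∈ DV.map ((EK j₁).obj k').hom ⁻¹ᵁ W₀ :=
      (mem_range_opens_ι _ _).mp hz
    apply (mem_range_opens_ι (DV.map ((EK j₁).obj k).hom ⁻¹ᵁ W₀) z).mpr
    show DV.map ((EK j₁).obj k).hom z ∈ W₀
    rw [← Over.w ((EK j₁).map a), DV.map_comp, Scheme.Hom.comp_apply]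
    exact hz'
  affV a := haff _
  affX a := inferInstanceAs (IsAffineHom ((opensDiagram DV i₀ W₀).map ((EK j₁).map a)))
  cptV k := hcpt _
  lftV k := hlft _
  cptX k := compactSpace_opensDiagram DV i₀ W₀ hW₀ _
  qsX k := quasiSeparatedSpace_opensDiagram DV i₀ W₀ _
  cV := cV.whisker (EK j₁ ⋙ Over.forget i₀)
  hcV := (Functor.Initial.isLimitWhiskerEquiv (EK j₁ ⋙ Over.forget i₀) cV).symm hcV
  cX := (opensCone DV cV i₀ W₀).whisker (EK j₁)
  hcX := (Functor.Initial.isLimitWhiskerEquiv (EK j₁) _).symm (isLimitOpensCone DV cV hcV i₀ W₀)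
  ιc := (cV.π.app i₀ ⁻¹ᵁ W₀).ι
  oic := inferInstanceAs (IsOpenImmersion (cV.π.app i₀ ⁻¹ᵁ W₀).ι)
  hιc k := (Scheme.Hom.resLE_comp_ι _ _).symm
  cartc := by
    intro k z hz
    have hz' : cV.π.app ((EK j₁).obj k).left z ∈ DV.map ((EK j₁).obj k).hom ⁻¹ᵁ W₀ :=
      (mem_range_opens_ι _ _).mp hz
    apply (mem_range_opens_ι (cV.π.app i₀ ⁻¹ᵁ W₀) z).mpr
    show cV.π.app i₀ z ∈ W₀
    rw [← cV.w ((EK j₁).obj k).hom, Scheme.Hom.comp_apply]
    exact hz'
  B := B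
  ψ := ψ
  oiψ := inferInstance
  L := L
  finL := inferInstance
  g := g
  hψ := hψ
  f k l := ((opensDiagram DV i₀ W₀).map (toJ₁ j₁ k)).appTop (f₁ l)
  f_map := by
    intro k k' a l
    have e : toJ₁ j₁ k = (EK j₁).map a ≫ toJ₁ j₁ k' := over_hom_ext _ _
    show ((opensDiagram DV i₀ W₀).map ((EK j₁).map a)).appTop
      (((opensDiagram DV i₀ W₀).map (toJ₁ j₁ k')).appTop (f₁ l)) =
        ((opensDiagram DV i₀ W₀).map (toJ₁ j₁ k)).appTop (f₁ l)
    rw [e, Functor.map_comp, Scheme.Hom.comp_appTop]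
    rfl
  f_π := by
    intro k l
    show ((opensCone DV cV i₀ W₀).π.app ((EK j₁).obj k)).appTop
      (((opensDiagram DV i₀ W₀).map (toJ₁ j₁ k)).appTop (f₁ l)) = _
    rw [appTop_push, h1]
  affD := by
    intro k l
    show IsAffineOpen (((opensDiagram DV i₀ W₀).obj ((EK j₁).obj k)).basicOpen
      (((opensDiagram DV i₀ W₀).map (toJ₁ j₁ k)).appTop (f₁ l)))
    rw [basicOpen_push]
    exact (h2 l).preimage _
  covD := by
    intro k
    show ⨆ l, ((opensDiagram DV i₀ W₀).obj ((EK j₁).obj k)).basicOpen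
      (((opensDiagram DV i₀ W₀).map (toJ₁ j₁ k)).appTop (f₁ l)) = ⊤
    simp_rw [basicOpen_push]
    rw [← Scheme.Hom.preimage_iSup, h3]
    rfl

end Mk

section OneStep

/-- finite basic-open cover of a quasi-compact open of an affine scheme, indexed by `Fin n` -/
theorem exists_fin_basicOpen_cover {B : CommRingCat.{u}}
    (O : TopologicalSpace.Opens (PrimeSpectrum B))
    (hO : IsCompact (O : Set (PrimeSpectrum B))) :
    ∃ (n : ℕ) (g : Fin n → B),
      (O : Set (PrimeSpectrum B)) =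
        ⋃ l, (PrimeSpectrum.basicOpen (g l) : Set (PrimeSpectrum B)) := by
  classical
  obtain ⟨Us, hUs, hfin, hsup⟩ :=
    (PrimeSpectrum.isBasis_basic_opens (R := B)).exists_finite_of_isCompact (U := O) hO
  let e := hfin.toFinset.equivFin.symm
  have hmem : ∀ l, (e l : TopologicalSpace.Opens (PrimeSpectrum B)) ∈ Us := fun l =>
    hfin.mem_toFinset.mp (e l).2
  choose g hg using fun l => hUs (hmem l)
  refine ⟨_, g, ?_⟩
  rw [hsup]
  ext z
  rw [SetLike.mem_coe, TopologicalSpace.Opens.mem_sSup, Set.mem_iUnion]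
  constructor
  · rintro ⟨U', hU', hz⟩
    obtain ⟨l, hl⟩ := e.surjective ⟨U', hfin.mem_toFinset.mpr hU'⟩
    refine ⟨l, ?_⟩
    rw [hg l, hl]
    exact hz
  · rintro ⟨l, hl⟩
    refine ⟨e l, hmem l, ?_⟩
    rw [← hg l]
    exact hl

/-- **The one-step lemma**: adding one affine open. -/
theorem oneStep (S : Scheme.{u}) [CompactSpace S] [QuasiSeparatedSpace S] (V : S.Opens)
    (hV : IsCompact (V : Set S)) (U : S.Opens) (hU : IsAffineOpen U) (hVU : V ⊔ U = ⊤)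
    (I : Type u) [Preorder I] [IsDirected I (· ≤ ·)] [Nonempty I] (DV : Iᵒᵖ ⥤ Scheme.{u})
    (haff : ∀ (i i' : Iᵒᵖ) (a : i ⟶ i'), IsAffineHom (DV.map a))
    (hft : ∀ i, CompactSpace (DV.obj i) ∧
      LocallyOfFiniteType (Limits.IsTerminal.from specULiftZIsTerminal (DV.obj i)))
    (cV : Cone DV) (hcV : IsLimit cV) (eV : cV.pt ≅ (V : Scheme.{u})) :
    RelApprox S V I DV cV eV := by
  haveI : ∀ {i j : Iᵒᵖ} (f : i ⟶ j), IsAffineHom (DV.map f) := fun f => haff _ _ f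
  haveI : ∀ i, CompactSpace (DV.obj i) := fun i => (hft i).1
  haveI : ∀ i, LocallyOfFiniteType (Limits.IsTerminal.from specULiftZIsTerminal (DV.obj i)) :=
    fun i => (hft i).2
  let jV : cV.pt ⟶ S := eV.hom ≫ V.ι
  haveI : IsOpenImmersion jV := inferInstanceAs (IsOpenImmersion (eV.hom ≫ V.ι))
  have hjV : ∀ z : cV.pt, jV z ∈ V := by
    intro z
    show (eV.hom ≫ V.ι) z ∈ V
    rw [Scheme.Hom.comp_apply]
    exact (eV.hom z).2
  have hrangeV : ∀ x : S, x ∈ V → x ∈ Set.range jV := by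
    intro x hx
    refine ⟨eV.inv ⟨x, hx⟩, ?_⟩
    show (eV.hom ≫ V.ι) (eV.inv ⟨x, hx⟩) = x
    rw [← Scheme.Hom.comp_apply, Iso.inv_hom_id_assoc]
    rfl
  -- the quasi-compact open of the limit
  have hWc : IsCompact ((jV ⁻¹ᵁ U : cV.pt.Opens) : Set cV.pt) := by
    have h1 : IsCompact ((V : Set S) ∩ U) :=
      QuasiSeparatedSpace.inter_isCompact _ _ V.2 hV U.2 hU.isCompact
    have h2 : ((jV ⁻¹ᵁ U : cV.pt.Opens) : Set cV.pt) = jV ⁻¹' ((V : Set S) ∩ U) := by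
      ext z
      constructor
      · intro hz; exact ⟨hjV z, hz⟩
      · intro hz; exact hz.2
    rw [h2]
    exact jV.isOpenEmbedding.isInducing.isCompact_preimage' h1
      (fun x hx => hrangeV x hx.1)
  obtain ⟨i₀, W₀, hW₀, hW₀eq⟩ := exists_preimage_eq DV cV hcV (jV ⁻¹ᵁ U) hWc
  -- the open immersion to `Spec Γ(S, U)`
  have hsub : Set.range ((cV.π.app i₀ ⁻¹ᵁ W₀).ι ≫ jV) ⊆ Set.range hU.fromSpec := by
    rintro _ ⟨z, rfl⟩
    rw [hU.range_fromSpec, Scheme.Hom.comp_apply]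
    have : (cV.π.app i₀ ⁻¹ᵁ W₀).ι z ∈ jV ⁻¹ᵁ U := by
      rw [← hW₀eq]; exact z.2
    exact this
  have hoi : IsOpenImmersion ((cV.π.app i₀ ⁻¹ᵁ W₀).ι ≫ jV) := inferInstance
  let ψ : (opensCone DV cV i₀ W₀).pt ⟶ Spec Γ(S, U) :=
    IsOpenImmersion.lift hU.fromSpec ((cV.π.app i₀ ⁻¹ᵁ W₀).ι ≫ jV) hsub
  have hψfac : ψ ≫ hU.fromSpec = (cV.π.app i₀ ⁻¹ᵁ W₀).ι ≫ jV :=
    IsOpenImmersion.lift_fac _ _ _
  haveI : IsOpenImmersion ψ := by
    haveI : IsOpenImmersion (ψ ≫ hU.fromSpec) := by rw [hψfac]; exact hoi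
    exact IsOpenImmersion.of_comp ψ hU.fromSpec
  haveI := fun j => compactSpace_opensDiagram DV i₀ W₀ hW₀ j
  haveI := fun j => quasiSeparatedSpace_opensDiagram DV i₀ W₀ j
  haveI : CompactSpace (opensCone DV cV i₀ W₀).pt :=
    Scheme.compactSpace_of_isLimit _ _ (isLimitOpensCone DV cV hcV i₀ W₀)
  have hcr : IsCompact (ψ.opensRange : Set (Spec Γ(S, U))) := by
    rw [Scheme.Hom.coe_opensRange]
    exact isCompact_range ψ.continuous
  obtain ⟨n, g, hg⟩ := exists_fin_basicOpen_cover ψ.opensRange hcr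
  have hψ : Set.range ψ = ⋃ l, (PrimeSpectrum.basicOpen (g l) : Set (PrimeSpectrum Γ(S, U))) := by
    rw [← hg]
    rfl
  obtain ⟨j₁, f₁, h1, h2, h3⟩ := exists_descent (opensDiagram DV i₀ W₀) (opensCone DV cV i₀ W₀)
    (isLimitOpensCone DV cV hcV i₀ W₀) ψ g hψ
  let Z := mkSSys DV cV hcV i₀ W₀ hW₀ ψ g hψ j₁ f₁ h1 h2 h3
  have key : RelApprox S V (KIdx j₁) Z.DV Z.cV eV := by
    haveI : IsOpenImmersion (show Spec Z.B ⟶ S from hU.fromSpec) := hU.isOpenImmersion_fromSpec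
    refine Z.relApprox V eV (show Spec Z.B ⟶ S from hU.fromSpec) hψfac.symm ?_ ?_
    · show ∀ x : S, x ∈ V ∨ x ∈ Set.range hU.fromSpec
      intro x
      have hx : x ∈ V ⊔ U := by rw [hVU]; trivial
      rcases hx with hx | hx
      · exact Or.inl hx
      · right
        rw [hU.range_fromSpec]
        exact hx
    · show ∀ (v : cV.pt) (p : Spec Γ(S, U)), jV v = hU.fromSpec p →
        v ∈ Set.range (cV.π.app i₀ ⁻¹ᵁ W₀).ι
      intro v p hvp
      have h4 : jV v ∈ U := by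
        have : hU.fromSpec p ∈ Set.range hU.fromSpec := ⟨p, rfl⟩
        rw [hU.range_fromSpec] at this
        rw [hvp]
        exact this
      have h5 : v ∈ cV.π.app i₀ ⁻¹ᵁ W₀ := by
        rw [hW₀eq]; exact h4
      exact (mem_range_opens_ι (cV.π.app i₀ ⁻¹ᵁ W₀) v).mpr h5
  obtain ⟨J, pJ, dJ, nJ, DS, cS, hcS, eS, α, V', φ, c1, c2, c3, c4, c5, c6⟩ := key
  exact ⟨J, pJ, dJ, nJ, DS, cS, hcS, eS, ⟨fun j => (α j).1, fun a b h => α.mono h⟩, V', φ,
    c1, c2, c3, c4, c5, c6⟩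

end OneStep

end Groth.Agent.H5.NApprox
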