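import Mathlib
import Groth.Agent.Lib.Helper5.NApprox.OneA

/-!
# Relative approximation in open-immersion form: conversions, transport, transitivity (helper5)
-/

set_option autoImplicit false

namespace Groth.Agent.H5.NApprox

open AlgebraicGeometry CategoryTheory Opposite Limits

universe u

/-- Relative approximation, open immersion form. -/
def RelOI (S : Scheme.{u}) {Vs : Scheme.{u}} (jV : Vs ⟶ S) (I : Type u) [Preorder I]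
    (DV : Iᵒᵖ ⥤ Scheme.{u}) (cV : Limits.Cone DV) (eV : cV.pt ≅ Vs) : Prop :=
  ∃ (J : Type u) (_ : Preorder J) (_ : IsDirected J (fun a b => a ≤ b)) (_ : Nonempty J)
      (DS : Jᵒᵖ ⥤ Scheme.{u}) (cS : Limits.Cone DS) (_ : Limits.IsLimit cS) (eS : cS.pt ≅ S)
      (α : J →o I) (ι : ∀ j : J, DV.obj (op (α j)) ⟶ DS.obj (op j)),
      (∀ j, IsOpenImmersion (ι j)) ∧
      (∀ (j j' : Jᵒᵖ) (a : j ⟶ j'), IsAffineHom (DS.map a)) ∧
      (∀ j, CompactSpace (DS.obj j) ∧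
        LocallyOfFiniteType (Limits.IsTerminal.from specULiftZIsTerminal (DS.obj j))) ∧
      (∀ (j j' : J) (h : j' ≤ j) (z : DS.obj (op j)),
        DS.map (homOfLE h).op z ∈ Set.range (ι j') ↔ z ∈ Set.range (ι j)) ∧
      (∀ (j : J) (x : S), (eS.inv ≫ cS.π.app (op j)) x ∈ Set.range (ι j) ↔ x ∈ Set.range jV) ∧
      (∀ j : J, eV.inv ≫ cV.π.app (op (α j)) ≫ ι j = jV ≫ eS.inv ≫ cS.π.app (op j)) ∧
      (∀ (j j' : J) (h : j' ≤ j),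
        DV.map (homOfLE (α.mono h)).op ≫ ι j' = ι j ≫ DS.map (homOfLE h).op)

section Conv

variable {S : Scheme.{u}} (V : S.Opens) {I : Type u} [Preorder I]
  {DV : Iᵒᵖ ⥤ Scheme.{u}} {cV : Limits.Cone DV} {eV : cV.pt ≅ (V : Scheme.{u})}

theorem RelApprox.toRelOI (h : RelApprox S V I DV cV eV) : RelOI S V.ι I DV cV eV := by
  obtain ⟨J, pJ, dJ, nJ, DS, cS, hcS, eS, α, V', φ, c1, c2, c3, c4, c5, c6⟩ := h
  refine ⟨J, pJ, dJ, nJ, DS, cS, hcS, eS, α, fun j => (φ j).inv ≫ (V' j).ι,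
    fun j => inferInstance, c1, c2, ?_, ?_, ?_, ?_⟩
  · intro j j' h z
    have hr : ∀ j (w : DS.obj (op j)), w ∈ Set.range ((φ j).inv ≫ (V' j).ι) ↔ w ∈ V' j := by
      intro j w
      constructor
      · rintro ⟨y, rfl⟩
        rw [Scheme.Hom.comp_apply]
        exact ((φ j).inv y).2
      · intro hw
        refine ⟨(φ j).hom ⟨w, hw⟩, ?_⟩
        rw [← Scheme.Hom.comp_apply, Iso.hom_inv_id_assoc]
        rfl
    rw [hr, hr, ← c3 j j' h]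
    rfl
  · intro j x
    have hr : ∀ (w : DS.obj (op j)), w ∈ Set.range ((φ j).inv ≫ (V' j).ι) ↔ w ∈ V' j := by
      intro w
      constructor
      · rintro ⟨y, rfl⟩
        rw [Scheme.Hom.comp_apply]
        exact ((φ j).inv y).2
      · intro hw
        refine ⟨(φ j).hom ⟨w, hw⟩, ?_⟩
        rw [← Scheme.Hom.comp_apply, Iso.hom_inv_id_assoc]
        rfl
    rw [hr, Scheme.Opens.range_ι]
    have := c4 j
    constructor
    · intro hx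
      have hx' : x ∈ (eS.inv ≫ cS.π.app (op j)) ⁻¹ᵁ V' j := hx
      rw [this] at hx'
      exact hx'
    · intro hx
      have hx' : x ∈ (eS.inv ≫ cS.π.app (op j)) ⁻¹ᵁ V' j := by rw [this]; exact hx
      exact hx'
  · intro j
    obtain ⟨ρ, h1, h2⟩ := c5 j
    rw [← h1, ← reassoc_of% h2, Iso.hom_inv_id_assoc]
  · intro j j' h
    obtain ⟨τ, h1, h2⟩ := c6 j j' h
    rw [Category.assoc, ← h1, ← Category.assoc, ← Category.assoc]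
    congr 1
    rw [Iso.comp_inv_eq, Category.assoc, ← h2, Iso.inv_hom_id_assoc]

theorem RelOI.toRelApprox (h : RelOI S V.ι I DV cV eV) : RelApprox S V I DV cV eV := by
  obtain ⟨J, pJ, dJ, nJ, DS, cS, hcS, eS, α, ι, hoi, c1, c2, c3, c4, c5, c6⟩ := h
  haveI := hoi
  refine ⟨J, pJ, dJ, nJ, DS, cS, hcS, eS, α, fun j => (ι j).opensRange,
    fun j => (ι j).isoOpensRange.symm, c1, c2, ?_, ?_, ?_, ?_⟩
  · intro j j' h
    ext z
    exact c3 j j' h z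
  · intro j
    ext x
    have := c4 j x
    rw [Scheme.Opens.range_ι] at this
    exact this
  · intro j
    refine ⟨(eV.inv ≫ cV.π.app (op (α j))) ≫ (ι j).isoOpensRange.hom, ?_, ?_⟩
    · rw [aux_ρ, Category.assoc, c5 j]
    · exact aux_iso _ _
  · intro j j' h
    refine ⟨(ι j).isoOpensRange.inv ≫ DV.map (homOfLE (α.mono h)).op ≫
      (ι j').isoOpensRange.hom, ?_, ?_⟩
    · exact aux_τ (ι j) (ι j') _ _ (c6 j j' h).symm
    · exact aux_τ' (ι j) (ι j') _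

end Conv

section Ops

variable {S S' Ts Vs Vs' : Scheme.{u}} {I : Type u} [Preorder I]
  {DV : Iᵒᵖ ⥤ Scheme.{u}} {cV : Limits.Cone DV}

theorem RelOI.transport {jV : Vs ⟶ S} {eV : cV.pt ≅ Vs} (h : RelOI S jV I DV cV eV)
    (e : S ≅ S') (e' : Vs ≅ Vs') (jV' : Vs' ⟶ S') (hj : e'.hom ≫ jV' = jV ≫ e.hom) :
    RelOI S' jV' I DV cV (eV ≪≫ e') := by
  obtain ⟨J, pJ, dJ, nJ, DS, cS, hcS, eS, α, ι, hoi, c1, c2, c3, c4, c5, c6⟩ := h
  have hj' : jV' ≫ e.inv = e'.inv ≫ jV := by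
    rw [Iso.comp_inv_eq, Category.assoc, ← hj, Iso.inv_hom_id_assoc]
  refine ⟨J, pJ, dJ, nJ, DS, cS, hcS, eS ≪≫ e, α, ι, hoi, c1, c2, c3, ?_, ?_, c6⟩
  · intro j x'
    have h1 : ((eS ≪≫ e).inv ≫ cS.π.app (op j)) x' = (eS.inv ≫ cS.π.app (op j)) (e.inv x') := by
      rw [Iso.trans_inv, Category.assoc, Scheme.Hom.comp_apply]
    rw [h1, c4 j]
    constructor
    · rintro ⟨v, hv⟩
      refine ⟨e'.hom v, ?_⟩
      rw [← Scheme.Hom.comp_apply, hj, Scheme.Hom.comp_apply, hv, ← Scheme.Hom.comp_apply,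
        Iso.inv_hom_id]
      rfl
    · rintro ⟨v', rfl⟩
      refine ⟨e'.inv v', ?_⟩
      rw [← Scheme.Hom.comp_apply, ← hj', Scheme.Hom.comp_apply]
  · intro j
    rw [Iso.trans_inv, Iso.trans_inv, Category.assoc, c5 j, Category.assoc, reassoc_of% hj']

theorem RelOI.base [IsDirected I (· ≤ ·)] [Nonempty I] {eV : cV.pt ≅ Vs}
    (haff : ∀ (i i' : Iᵒᵖ) (a : i ⟶ i'), IsAffineHom (DV.map a))
    (hft : ∀ i, CompactSpace (DV.obj i) ∧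
      LocallyOfFiniteType (Limits.IsTerminal.from specULiftZIsTerminal (DV.obj i)))
    (hcV : IsLimit cV) : RelOI Vs (𝟙 Vs) I DV cV eV := by
  refine ⟨I, inferInstance, inferInstance, inferInstance, DV, cV, hcV, eV, OrderHom.id,
    fun j => 𝟙 (DV.obj (op j)),
    fun j => (inferInstance : IsOpenImmersion (𝟙 (DV.obj (op j)))), haff, hft, ?_, ?_, ?_, ?_⟩
  · intro j j' h z
    exact ⟨fun _ => ⟨z, rfl⟩, fun _ => ⟨_, rfl⟩⟩
  · intro j x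
    exact ⟨fun _ => ⟨x, rfl⟩, fun _ => ⟨_, rfl⟩⟩
  · intro j
    show eV.inv ≫ cV.π.app (op j) ≫ 𝟙 (DV.obj (op j)) = 𝟙 Vs ≫ eV.inv ≫ cV.π.app (op j)
    rw [Category.comp_id, Category.id_comp]
  · intro j j' h
    show DV.map (homOfLE h).op ≫ 𝟙 (DV.obj (op j')) = 𝟙 (DV.obj (op j)) ≫ DV.map (homOfLE h).op
    rw [Category.comp_id, Category.id_comp]

theorem RelOI.trans (jT : Ts ⟶ S) (jV : Vs ⟶ Ts) {eV : cV.pt ≅ Vs}
    (h1 : RelOI Ts jV I DV cV eV)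
    (h2 : ∀ (J : Type u) [Preorder J] [IsDirected J (· ≤ ·)] [Nonempty J]
      (DS : Jᵒᵖ ⥤ Scheme.{u}) (cS : Limits.Cone DS) (_ : IsLimit cS) (eS : cS.pt ≅ Ts),
      (∀ (j j' : Jᵒᵖ) (a : j ⟶ j'), IsAffineHom (DS.map a)) →
      (∀ j, CompactSpace (DS.obj j) ∧
        LocallyOfFiniteType (Limits.IsTerminal.from specULiftZIsTerminal (DS.obj j))) →
      RelOI S jT J DS cS eS) :
    RelOI S (jV ≫ jT) I DV cV eV := by
  obtain ⟨J₁, pJ₁, dJ₁, nJ₁, DS₁, cS₁, hcS₁, eS₁, α₁, ι₁, hoi₁, a1, a2, a3, a4, a5, a6⟩ := h1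
  obtain ⟨J₂, pJ₂, dJ₂, nJ₂, DS₂, cS₂, hcS₂, eS₂, α₂, ι₂, hoi₂, b1, b2, b3, b4, b5, b6⟩ :=
    h2 J₁ DS₁ cS₁ hcS₁ eS₁ a1 a2
  haveI := hoi₁
  haveI := hoi₂
  have inj₂ : ∀ j, Function.Injective (ι₂ j) := fun j => (ι₂ j).isOpenEmbedding.injective
  -- pointwise forms of the compatibilities
  have b5' : ∀ (j : J₂) (t : Ts), (eS₂.inv ≫ cS₂.π.app (op j)) (jT t) =
      ι₂ j ((eS₁.inv ≫ cS₁.π.app (op (α₂ j))) t) := by
    intro j t
    rw [← Scheme.Hom.comp_apply, ← Scheme.Hom.comp_apply, Category.assoc, b5 j]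
  have a5' : ∀ (j : J₁) (v : Vs), (eS₁.inv ≫ cS₁.π.app (op j)) (jV v) =
      ι₁ j ((eV.inv ≫ cV.π.app (op (α₁ j))) v) := by
    intro j v
    rw [← Scheme.Hom.comp_apply, ← Scheme.Hom.comp_apply, Category.assoc, a5 j]
  have b6' : ∀ (j j' : J₂) (h : j' ≤ j) (w : DS₁.obj (op (α₂ j))),
      DS₂.map (homOfLE h).op (ι₂ j w) = ι₂ j' (DS₁.map (homOfLE (α₂.mono h)).op w) := by
    intro j j' h w
    rw [← Scheme.Hom.comp_apply, ← Scheme.Hom.comp_apply, b6 j j' h]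
  have rng : ∀ (j : J₂) (z : DS₂.obj (op j)), z ∈ Set.range (ι₁ (α₂ j) ≫ ι₂ j) ↔
      ∃ y, ι₂ j (ι₁ (α₂ j) y) = z := by
    intro j z
    constructor
    · rintro ⟨y, rfl⟩
      exact ⟨y, (Scheme.Hom.comp_apply _ _ _).symm⟩
    · rintro ⟨y, rfl⟩
      exact ⟨y, Scheme.Hom.comp_apply _ _ _⟩
  refine ⟨J₂, pJ₂, dJ₂, nJ₂, DS₂, cS₂, hcS₂, eS₂, α₁.comp α₂,
    fun j => ι₁ (α₂ j) ≫ ι₂ j,
    fun j => (inferInstance : IsOpenImmersion (ι₁ (α₂ j) ≫ ι₂ j)), b1, b2, ?_, ?_, ?_, ?_⟩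
  · intro j j' h z
    show DS₂.map (homOfLE h).op z ∈ Set.range (ι₁ (α₂ j') ≫ ι₂ j') ↔
      z ∈ Set.range (ι₁ (α₂ j) ≫ ι₂ j)
    rw [rng, rng]
    constructor
    · rintro ⟨y, hy⟩
      have hz : z ∈ Set.range (ι₂ j) := (b3 j j' h z).mp ⟨_, hy⟩
      obtain ⟨w, rfl⟩ := hz
      rw [b6' j j' h w] at hy
      have hw := inj₂ j' hy
      have : w ∈ Set.range (ι₁ (α₂ j)) := (a3 (α₂ j) (α₂ j') (α₂.mono h) w).mp ⟨y, hw⟩
      obtain ⟨y', rfl⟩ := this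
      exact ⟨y', rfl⟩
    · rintro ⟨y, rfl⟩
      rw [b6' j j' h]
      have : DS₁.map (homOfLE (α₂.mono h)).op (ι₁ (α₂ j) y) ∈ Set.range (ι₁ (α₂ j')) :=
        (a3 (α₂ j) (α₂ j') (α₂.mono h) _).mpr ⟨y, rfl⟩
      obtain ⟨y', hy'⟩ := this
      exact ⟨y', by rw [hy']⟩
  · intro j x
    show (eS₂.inv ≫ cS₂.π.app (op j)) x ∈ Set.range (ι₁ (α₂ j) ≫ ι₂ j) ↔
      x ∈ Set.range (jV ≫ jT)
    rw [rng]
    constructor
    · rintro ⟨y, hy⟩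
      have hx : x ∈ Set.range jT := (b4 j x).mp ⟨_, hy⟩
      obtain ⟨t, rfl⟩ := hx
      rw [b5' j t] at hy
      have ht := inj₂ j hy
      have : t ∈ Set.range jV := (a4 (α₂ j) t).mp ⟨y, ht⟩
      obtain ⟨v, rfl⟩ := this
      exact ⟨v, Scheme.Hom.comp_apply _ _ _⟩
    · rintro ⟨v, rfl⟩
      have e : (jV ≫ jT) v = jT (jV v) := Scheme.Hom.comp_apply _ _ _
      rw [e, b5' j, a5' (α₂ j) v]
      exact ⟨_, rfl⟩
  · intro j
    show eV.inv ≫ cV.π.app (op (α₁ (α₂ j))) ≫ ι₁ (α₂ j) ≫ ι₂ j =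
      (jV ≫ jT) ≫ eS₂.inv ≫ cS₂.π.app (op j)
    have e1 := a5 (α₂ j)
    have e2 := b5 j
    calc eV.inv ≫ cV.π.app (op (α₁ (α₂ j))) ≫ ι₁ (α₂ j) ≫ ι₂ j
        = (eV.inv ≫ cV.π.app (op (α₁ (α₂ j))) ≫ ι₁ (α₂ j)) ≫ ι₂ j := by
          simp only [Category.assoc]
      _ = (jV ≫ eS₁.inv ≫ cS₁.π.app (op (α₂ j))) ≫ ι₂ j := by rw [e1]
      _ = jV ≫ (eS₁.inv ≫ cS₁.π.app (op (α₂ j)) ≫ ι₂ j) := by simp only [Category.assoc]
      _ = jV ≫ (jT ≫ eS₂.inv ≫ cS₂.π.app (op j)) := by rw [e2]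
      _ = (jV ≫ jT) ≫ eS₂.inv ≫ cS₂.π.app (op j) := by simp only [Category.assoc]
  · intro j j' h
    show DV.map (homOfLE (α₁.mono (α₂.mono h))).op ≫ ι₁ (α₂ j') ≫ ι₂ j' =
      (ι₁ (α₂ j) ≫ ι₂ j) ≫ DS₂.map (homOfLE h).op
    have e1 := a6 (α₂ j) (α₂ j') (α₂.mono h)
    have e2 := b6 j j' h
    calc DV.map (homOfLE (α₁.mono (α₂.mono h))).op ≫ ι₁ (α₂ j') ≫ ι₂ j'
        = (DV.map (homOfLE (α₁.mono (α₂.mono h))).op ≫ ι₁ (α₂ j')) ≫ ι₂ j' := by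
          simp only [Category.assoc]
      _ = (ι₁ (α₂ j) ≫ DS₁.map (homOfLE (α₂.mono h)).op) ≫ ι₂ j' := by rw [e1]
      _ = ι₁ (α₂ j) ≫ (DS₁.map (homOfLE (α₂.mono h)).op ≫ ι₂ j') := by
          simp only [Category.assoc]
      _ = ι₁ (α₂ j) ≫ (ι₂ j ≫ DS₂.map (homOfLE h).op) := by rw [e2]
      _ = (ι₁ (α₂ j) ≫ ι₂ j) ≫ DS₂.map (homOfLE h).op := by simp only [Category.assoc]

end Ops

end Groth.Agent.H5.NApprox
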