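import Mathlib
import Groth.Agent.Lib.Helper5.NApprox.RelOI
import Groth.Agent.Lib.Helper5.NApprox.DescB

/-!
# Noetherian approximation relative to a quasi-compact open (helper5)
-/

set_option autoImplicit false

namespace Groth.Agent.H5.NApprox

open AlgebraicGeometry CategoryTheory Opposite Limits

universe u

theorem RelOI.transportS {S S' Vs : Scheme.{u}} {I : Type u} [Preorder I]
    {DV : Iᵒᵖ ⥤ Scheme.{u}} {cV : Limits.Cone DV} {jV : Vs ⟶ S} {eV : cV.pt ≅ Vs}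
    (h : RelOI S jV I DV cV eV) (e : S ≅ S') (jV' : Vs ⟶ S') (hj : jV' = jV ≫ e.hom) :
    RelOI S' jV' I DV cV eV := by
  have := h.transport e (Iso.refl Vs) jV' (by rw [Iso.refl_hom, Category.id_comp, hj])
  rwa [Iso.trans_refl] at this

theorem quasiSeparatedSpace_opens {S : Scheme.{u}} [QuasiSeparatedSpace S] (T : S.Opens) :
    QuasiSeparatedSpace (T : Scheme.{u}) :=
  (isQuasiSeparated_iff_quasiSeparatedSpace _ T.2).mp (.of_quasiSeparatedSpace _)

/-- the one-step lemma for an open subscheme, in open immersion form -/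
theorem oneStepOI (S : Scheme.{u}) [QuasiSeparatedSpace S] (T₁ T₂ : S.Opens) (U : S.Opens)
    (hT₁ : IsCompact (T₁ : Set S)) (hU : IsAffineOpen U) (h12 : T₁ ≤ T₂)
    (hT₂ : T₂ = T₁ ⊔ U)
    (J : Type u) [Preorder J] [IsDirected J (· ≤ ·)] [Nonempty J]
    (DS : Jᵒᵖ ⥤ Scheme.{u}) (cS : Limits.Cone DS) (hcS : IsLimit cS)
    (eS : cS.pt ≅ (T₁ : Scheme.{u}))
    (haff : ∀ (j j' : Jᵒᵖ) (a : j ⟶ j'), IsAffineHom (DS.map a))
    (hft : ∀ j, CompactSpace (DS.obj j) ∧
      LocallyOfFiniteType (Limits.IsTerminal.from specULiftZIsTerminal (DS.obj j))) :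
    RelOI (T₂ : Scheme.{u}) (S.homOfLE h12) J DS cS eS := by
  have hUle : U ≤ T₂ := by rw [hT₂]; exact le_sup_right
  have hT₂c : IsCompact (T₂ : Set S) := by
    rw [hT₂]
    exact hT₁.union hU.isCompact
  haveI : CompactSpace (T₂ : Scheme.{u}) := isCompact_iff_compactSpace.mp hT₂c
  haveI : QuasiSeparatedSpace (T₂ : Scheme.{u}) := quasiSeparatedSpace_opens T₂
  -- the opens of `T₂`
  let To : (T₂ : Scheme.{u}).Opens := T₂.ι ⁻¹ᵁ T₁
  let Uo : (T₂ : Scheme.{u}).Opens := T₂.ι ⁻¹ᵁ U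
  have hToc : IsCompact (To : Set (T₂ : Scheme.{u})) := by
    apply T₂.ι.isOpenEmbedding.isInducing.isCompact_preimage' hT₁
    rw [Scheme.Opens.range_ι]
    exact h12
  have hUo : IsAffineOpen Uo :=
    hU.preimage_of_isOpenImmersion T₂.ι (by rw [Scheme.Opens.opensRange_ι]; exact hUle)
  have hcov : To ⊔ Uo = ⊤ := by
    rw [eq_top_iff]
    intro x _
    have hx : x.1 ∈ T₁ ⊔ U := by rw [← hT₂]; exact x.2
    rcases hx with hx | hx
    · exact Or.inl hx
    · exact Or.inr hx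
  let e₂ : (To : Scheme.{u}) ≅ (T₁ : Scheme.{u}) := Scheme.Opens.isoOfLE h12
  have he₂ : e₂.hom ≫ S.homOfLE h12 = To.ι := by
    rw [← cancel_mono T₂.ι, Category.assoc, Scheme.homOfLE_ι]
    exact Scheme.Opens.isoOfLE_hom_ι h12
  have key := oneStep (T₂ : Scheme.{u}) To hToc Uo hUo hcov J DS haff hft cS hcS (eS ≪≫ e₂.symm)
  have key2 := (RelApprox.toRelOI To key).transport (Iso.refl _) e₂ (S.homOfLE h12)
    (by rw [Iso.refl_hom, Category.comp_id, he₂])
  have hiso : (eS ≪≫ e₂.symm) ≪≫ e₂ = eS := by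
    rw [Iso.trans_assoc, Iso.symm_self_id, Iso.trans_refl]
  rw [hiso] at key2
  exact key2.transportS (Iso.refl _) _ (by rw [Iso.refl_hom, Category.comp_id])

/-- **Noetherian approximation relative to a quasi-compact open.** -/
theorem relApprox_main (S : Scheme.{u}) [CompactSpace S] [QuasiSeparatedSpace S]
    (V : S.Opens) (hV : IsCompact (V : Set S)) (I : Type u) [Preorder I]
    [IsDirected I (· ≤ ·)] [Nonempty I]
    (DV : Iᵒᵖ ⥤ Scheme.{u}) (haff : ∀ (i i' : Iᵒᵖ) (a : i ⟶ i'), IsAffineHom (DV.map a))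
    (hft : ∀ i, CompactSpace (DV.obj i) ∧
      LocallyOfFiniteType (Limits.IsTerminal.from specULiftZIsTerminal (DV.obj i)))
    (cV : Limits.Cone DV) (hcV : Limits.IsLimit cV) (eV : cV.pt ≅ (V : Scheme.{u})) :
    RelApprox S V I DV cV eV := by
  -- the induction
  have hQ : ∀ T : S.Opens, IsCompact (T : Set S) →
      RelOI ((V ⊔ T : S.Opens) : Scheme.{u}) (S.homOfLE (le_sup_left : V ≤ V ⊔ T)) I DV cV eV := by
    intro T hT
    refine compact_open_induction_on (P := fun T : S.Opens =>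
      RelOI ((V ⊔ T : S.Opens) : Scheme.{u}) (S.homOfLE (le_sup_left : V ≤ V ⊔ T)) I DV cV eV)
      T hT ?_ ?_
    · have hb : RelOI (V : Scheme.{u}) (𝟙 _) I DV cV eV := RelOI.base haff hft hcV
      refine hb.transportS (S.isoOfEq (sup_bot_eq V).symm) _ ?_
      rw [Category.id_comp, Scheme.isoOfEq_hom]
    · intro T hT U ih
      have h12 : V ⊔ T ≤ V ⊔ (T ⊔ U.1) := sup_le_sup_left le_sup_left V
      have hT₂ : V ⊔ (T ⊔ U.1) = (V ⊔ T) ⊔ U.1 := (sup_assoc V T U.1).symm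
      have hc : IsCompact ((V ⊔ T : S.Opens) : Set S) := hV.union hT
      have := RelOI.trans (S.homOfLE h12) (S.homOfLE (le_sup_left : V ≤ V ⊔ T)) ih
        (fun J _ _ _ DS cS hcS eS haff' hft' =>
          oneStepOI S (V ⊔ T) (V ⊔ (T ⊔ U.1)) U.1 hc U.2 h12 hT₂ J DS cS hcS eS haff' hft')
      rw [Scheme.homOfLE_homOfLE] at this
      exact this
  have htop := hQ ⊤ isCompact_univ
  have he : (V ⊔ ⊤ : S.Opens) = ⊤ := sup_top_eq V
  have := htop.transportS (S.isoOfEq he ≪≫ S.topIso) V.ι (by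
    rw [Iso.trans_hom, Scheme.isoOfEq_hom, Scheme.topIso_hom, ← Category.assoc,
      Scheme.homOfLE_homOfLE, Scheme.homOfLE_ι])
  exact this.toRelApprox V

end Groth.Agent.H5.NApprox
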