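import Mathlib
import Groth.Agent.Lib.Helper5.NApprox.Final

/-!
# Absolute Noetherian approximation (helper5)
-/

set_option autoImplicit false

namespace Groth.Agent.H5.NApprox

open AlgebraicGeometry CategoryTheory Opposite Limits

universe u

/-- Every quasi-compact quasi-separated scheme is a cofiltered limit of schemes of finite type
over `ℤ` with affine transition maps. -/
theorem absApprox (S : Scheme.{u}) [CompactSpace S] [QuasiSeparatedSpace S] :
    ∃ (I : Type u) (_ : Preorder I) (_ : IsDirected I (fun a b => a ≤ b)) (_ : Nonempty I)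
      (D : Iᵒᵖ ⥤ Scheme.{u}) (c : Limits.Cone D) (_ : Limits.IsLimit c),
      (∀ (i j : Iᵒᵖ) (f : i ⟶ j), IsAffineHom (D.map f)) ∧
      (∀ i, CompactSpace (D.obj i) ∧
        LocallyOfFiniteType (Limits.IsTerminal.from specULiftZIsTerminal (D.obj i))) ∧
      Nonempty (c.pt ≅ S) := by
  let E : Scheme.{u} := ((⊥ : S.Opens) : Scheme.{u})
  haveI : IsEmpty E := ⟨fun x => x.2⟩
  let DV : (PUnit.{u+1})ᵒᵖ ⥤ Scheme.{u} := (Functor.const _).obj E
  let cV : Limits.Cone DV := { pt := E, π := { app := fun _ => 𝟙 E } }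
  have hcV : Limits.IsLimit cV :=
    { lift := fun s => s.π.app (op PUnit.unit)
      fac := by
        intro s j
        obtain ⟨⟨⟩⟩ := j
        exact Category.comp_id _
      uniq := by
        intro s m hm
        rw [← hm (op PUnit.unit)]
        exact (Category.comp_id _).symm }
  have haff : ∀ (i i' : (PUnit.{u+1})ᵒᵖ) (a : i ⟶ i'), IsAffineHom (DV.map a) := by
    intro i i' a
    show IsAffineHom (𝟙 E)
    infer_instance
  have hft : ∀ i, CompactSpace (DV.obj i) ∧
      LocallyOfFiniteType (Limits.IsTerminal.from specULiftZIsTerminal (DV.obj i)) := by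
    intro i
    constructor
    · show CompactSpace E
      infer_instance
    · show LocallyOfFiniteType (Limits.IsTerminal.from specULiftZIsTerminal E)
      infer_instance
  have hbot : IsCompact ((⊥ : S.Opens) : Set S) := by
    simp
  obtain ⟨J, pJ, dJ, nJ, DS, cS, hcS, eS, α, V', φ, c1, c2, -⟩ :=
    relApprox_main S ⊥ hbot PUnit.{u+1} DV haff hft cV hcV (Iso.refl _)
  exact ⟨J, pJ, dJ, nJ, DS, cS, hcS, c1, c2, ⟨eS⟩⟩

end Groth.Agent.H5.NApprox
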