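import Mathlib
import Groth.Agent.Lib.Helper5.NApprox.Abs

/-!
# A morphism of qcqs schemes as a limit of morphisms of schemes of finite type over `ℤ` (helper5)
-/

set_option autoImplicit false

namespace Groth.Agent.H5.NApprox

open AlgebraicGeometry CategoryTheory Opposite Limits

universe u

/-- the base `Spec ℤ` -/
noncomputable abbrev Z0 : Scheme.{u} := Spec (.of (ULift.{u} ℤ))

instance : IsLocallyNoetherian Z0.{u} := by
  haveI : IsNoetherianRing (ULift.{u} ℤ) := isNoetherianRing_of_ringEquiv ℤ ULift.ringEquiv.symm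
  haveI : IsNoetherianRing (CommRingCat.of (ULift.{u} ℤ)) := this
  infer_instance

section Factor

variable {A : Type u} [Preorder A] [IsDirected A (· ≤ ·)] [Nonempty A]
  (D : Aᵒᵖ ⥤ Scheme.{u}) [∀ {i j : Aᵒᵖ} (f : i ⟶ j), IsAffineHom (D.map f)]
  [∀ i, CompactSpace (D.obj i)]
  [∀ i, LocallyOfFiniteType (Limits.IsTerminal.from specULiftZIsTerminal (D.obj i))]
  (c : Cone D) (hc : IsLimit c)
  (Y : Scheme.{u}) [LocallyOfFiniteType (Limits.IsTerminal.from specULiftZIsTerminal Y)]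

/-- the structure transformation to `Spec ℤ` -/
noncomputable def toZ0 : D ⟶ (Functor.const Aᵒᵖ).obj Z0.{u} where
  app i := Limits.IsTerminal.from specULiftZIsTerminal (D.obj i)
  naturality _ _ _ := specULiftZIsTerminal.hom_ext _ _

include hc in
theorem exists_factor (a : c.pt ⟶ Y) :
    ∃ (i : A) (g : D.obj (op i) ⟶ Y), c.π.app (op i) ≫ g = a := by
  haveI : ∀ i, QuasiSeparatedSpace (D.obj i) := fun i => quasiSeparatedSpace_of_lft (D.obj i)
  haveI : LocallyOfFinitePresentation (Limits.IsTerminal.from specULiftZIsTerminal Y) :=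
    inferInstance
  obtain ⟨i, g, hg, -⟩ := Scheme.exists_π_app_comp_eq_of_locallyOfFinitePresentation D (toZ0 D)
    (Limits.IsTerminal.from specULiftZIsTerminal Y) c hc a (by
      ext i : 2
      exact specULiftZIsTerminal.hom_ext _ _)
  exact ⟨i.unop, g, hg⟩

include hc in
theorem exists_eq_of_comp_eq {i : A} (u v : D.obj (op i) ⟶ Y)
    (h : c.π.app (op i) ≫ u = c.π.app (op i) ≫ v) :
    ∃ (k : A) (hik : i ≤ k), D.map (homOfLE hik).op ≫ u = D.map (homOfLE hik).op ≫ v := by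
  obtain ⟨k, a, ha⟩ := Scheme.exists_hom_comp_eq_comp_of_locallyOfFiniteType D (toZ0 D)
    (Limits.IsTerminal.from specULiftZIsTerminal Y) c hc u v
    (specULiftZIsTerminal.hom_ext _ _) (specULiftZIsTerminal.hom_ext _ _) h
  exact ⟨k.unop, leOfHom a.unop, ha⟩

end Factor

section Triples

variable {A B : Type u} [Preorder A] [IsDirected A (· ≤ ·)] [Nonempty A]
  [Preorder B] [IsDirected B (· ≤ ·)] [Nonempty B]
  (DX : Aᵒᵖ ⥤ Scheme.{u}) (DS : Bᵒᵖ ⥤ Scheme.{u})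
  [∀ {i j : Aᵒᵖ} (f : i ⟶ j), IsAffineHom (DX.map f)]
  [∀ i, CompactSpace (DX.obj i)]
  [∀ i, LocallyOfFiniteType (Limits.IsTerminal.from specULiftZIsTerminal (DX.obj i))]
  [∀ {i j : Bᵒᵖ} (f : i ⟶ j), IsAffineHom (DS.map f)]
  [∀ i, CompactSpace (DS.obj i)]
  [∀ i, LocallyOfFiniteType (Limits.IsTerminal.from specULiftZIsTerminal (DS.obj i))]
  (cX : Cone DX) (hcX : IsLimit cX) (cS : Cone DS) (hcS : IsLimit cS) (g : cX.pt ⟶ cS.pt)

/-- transition maps of an inverse system over a preorder -/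
abbrev tr {A : Type u} [Preorder A] (D : Aᵒᵖ ⥤ Scheme.{u}) {a a' : A} (h : a ≤ a') :
    D.obj (op a') ⟶ D.obj (op a) := D.map (homOfLE h).op

theorem tr_refl {A : Type u} [Preorder A] (D : Aᵒᵖ ⥤ Scheme.{u}) (a : A) :
    tr D (le_refl a) = 𝟙 _ := D.map_id _

theorem tr_comp {A : Type u} [Preorder A] (D : Aᵒᵖ ⥤ Scheme.{u}) {a a' a'' : A} (h : a ≤ a')
    (h' : a' ≤ a'') : tr D h' ≫ tr D h = tr D (h.trans h') := (D.map_comp _ _).symm

theorem π_tr {A : Type u} [Preorder A] {D : Aᵒᵖ ⥤ Scheme.{u}} (c : Cone D) {a a' : A}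
    (h : a ≤ a') : c.π.app (op a') ≫ tr D h = c.π.app (op a) := c.w _

/-- compatible triples -/
structure Tri where
  a : A
  b : B
  h : DX.obj (op a) ⟶ DS.obj (op b)
  comm : cX.π.app (op a) ≫ h = g ≫ cS.π.app (op b)

instance : Preorder (Tri DX DS cX cS g) where
  le i i' := ∃ (ha : i.a ≤ i'.a) (hb : i.b ≤ i'.b), tr DX ha ≫ i.h = i'.h ≫ tr DS hb
  le_refl i := ⟨le_refl _, le_refl _, by rw [tr_refl, tr_refl, Category.id_comp, Category.comp_id]⟩
  le_trans i i' i'' h h' := by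
    obtain ⟨ha, hb, e⟩ := h
    obtain ⟨ha', hb', e'⟩ := h'
    refine ⟨ha.trans ha', hb.trans hb', ?_⟩
    rw [← tr_comp DX ha ha', Category.assoc, e, ← Category.assoc, e', Category.assoc,
      tr_comp DS hb hb']

include hcX in
theorem exists_tri_ge (a₀ : A) (b₀ : B) :
    ∃ i : Tri DX DS cX cS g, a₀ ≤ i.a ∧ b₀ ≤ i.b := by
  obtain ⟨a₁, h₁, e₁⟩ := exists_factor DX cX hcX (DS.obj (op b₀)) (g ≫ cS.π.app (op b₀))
  obtain ⟨a, ha₀, ha₁⟩ := exists_ge_ge a₀ a₁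
  refine ⟨⟨a, b₀, tr DX ha₁ ≫ h₁, ?_⟩, ha₀, le_refl _⟩
  rw [← Category.assoc, π_tr, e₁]

include hcX in
theorem tri_directed (i₁ i₂ : Tri DX DS cX cS g) :
    ∃ i : Tri DX DS cX cS g, i₁ ≤ i ∧ i₂ ≤ i := by
  obtain ⟨a₀, h1a, h2a⟩ := exists_ge_ge i₁.a i₂.a
  obtain ⟨b₀, h1b, h2b⟩ := exists_ge_ge i₁.b i₂.b
  obtain ⟨i₀, hia, hib⟩ := exists_tri_ge DX DS cX hcX cS g a₀ b₀
  have key : ∀ (ik : Tri DX DS cX cS g) (hka : ik.a ≤ i₀.a) (hkb : ik.b ≤ i₀.b),
      ∃ (a' : A) (ha' : i₀.a ≤ a'), tr DX ha' ≫ (tr DX hka ≫ ik.h) =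
        tr DX ha' ≫ (i₀.h ≫ tr DS hkb) := by
    intro ik hka hkb
    apply exists_eq_of_comp_eq DX cX hcX
    rw [← Category.assoc, π_tr, ik.comm, ← Category.assoc, i₀.comm, Category.assoc, π_tr]
  obtain ⟨a₁', h₁', e₁⟩ := key i₁ (h1a.trans hia) (h1b.trans hib)
  obtain ⟨a₂', h₂', e₂⟩ := key i₂ (h2a.trans hia) (h2b.trans hib)
  obtain ⟨a'', h₁'', h₂''⟩ := exists_ge_ge a₁' a₂'
  have hfin : i₀.a ≤ a'' := h₁'.trans h₁''
  have g1 : tr DX ((h1a.trans hia).trans hfin) ≫ i₁.h =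
      (tr DX hfin ≫ i₀.h) ≫ tr DS (h1b.trans hib) := by
    have e : tr DX ((h1a.trans hia).trans hfin) =
        tr DX h₁'' ≫ tr DX h₁' ≫ tr DX (h1a.trans hia) := by
      rw [tr_comp, tr_comp]
    have e' : tr DX hfin = tr DX h₁'' ≫ tr DX h₁' := by rw [tr_comp]
    rw [e, e', Category.assoc, Category.assoc, e₁, Category.assoc, Category.assoc]
  have g2 : tr DX ((h2a.trans hia).trans hfin) ≫ i₂.h =
      (tr DX hfin ≫ i₀.h) ≫ tr DS (h2b.trans hib) := by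
    have e : tr DX ((h2a.trans hia).trans hfin) =
        tr DX h₂'' ≫ tr DX h₂' ≫ tr DX (h2a.trans hia) := by
      rw [tr_comp, tr_comp]
    have e' : tr DX hfin = tr DX h₂'' ≫ tr DX h₂' := by rw [tr_comp]
    rw [e, e', Category.assoc, Category.assoc, e₂, Category.assoc, Category.assoc]
  refine ⟨⟨a'', i₀.b, tr DX hfin ≫ i₀.h, ?_⟩, ?_, ?_⟩
  · rw [← Category.assoc, π_tr, i₀.comm]
  · exact ⟨(h1a.trans hia).trans hfin, h1b.trans hib, g1⟩
  · exact ⟨(h2a.trans hia).trans hfin, h2b.trans hib, g2⟩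

end Triples

section Assemble

variable {A B : Type u} [Preorder A] [IsDirected A (· ≤ ·)] [Nonempty A]
  [Preorder B] [IsDirected B (· ≤ ·)] [Nonempty B]
  (DX : Aᵒᵖ ⥤ Scheme.{u}) (DS : Bᵒᵖ ⥤ Scheme.{u})
  [∀ {i j : Aᵒᵖ} (f : i ⟶ j), IsAffineHom (DX.map f)]
  [∀ i, CompactSpace (DX.obj i)]
  [∀ i, LocallyOfFiniteType (Limits.IsTerminal.from specULiftZIsTerminal (DX.obj i))]
  [∀ {i j : Bᵒᵖ} (f : i ⟶ j), IsAffineHom (DS.map f)]
  [∀ i, CompactSpace (DS.obj i)]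
  [∀ i, LocallyOfFiniteType (Limits.IsTerminal.from specULiftZIsTerminal (DS.obj i))]
  (cX : Cone DX) (hcX : IsLimit cX) (cS : Cone DS) (hcS : IsLimit cS) (g : cX.pt ⟶ cS.pt)

/-- projection to `A` -/
def Tri.pA : Tri DX DS cX cS g →o A where
  toFun i := i.a
  monotone' _ _ h := h.1

/-- projection to `B` -/
def Tri.pB : Tri DX DS cX cS g →o B where
  toFun i := i.b
  monotone' _ _ h := h.2.1

include hcX in
theorem Tri.pA_final : (Tri.pA DX DS cX cS g).monotone.functor.Final := by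
  haveI : IsDirected (Tri DX DS cX cS g) (· ≤ ·) := ⟨tri_directed DX DS cX hcX cS g⟩
  haveI : Nonempty (Tri DX DS cX cS g) := by
    obtain ⟨a⟩ := ‹Nonempty A›
    obtain ⟨b⟩ := ‹Nonempty B›
    obtain ⟨i, -⟩ := exists_tri_ge DX DS cX hcX cS g a b
    exact ⟨i⟩
  apply Functor.final_of_exists_of_isFiltered
  · intro a
    obtain ⟨b⟩ := ‹Nonempty B›
    obtain ⟨i, hi, -⟩ := exists_tri_ge DX DS cX hcX cS g a b
    exact ⟨i, ⟨homOfLE hi⟩⟩
  · intro d c s s'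
    exact ⟨c, 𝟙 _, Subsingleton.elim _ _⟩

include hcX in
theorem Tri.pB_final : (Tri.pB DX DS cX cS g).monotone.functor.Final := by
  haveI : IsDirected (Tri DX DS cX cS g) (· ≤ ·) := ⟨tri_directed DX DS cX hcX cS g⟩
  haveI : Nonempty (Tri DX DS cX cS g) := by
    obtain ⟨a⟩ := ‹Nonempty A›
    obtain ⟨b⟩ := ‹Nonempty B›
    obtain ⟨i, -⟩ := exists_tri_ge DX DS cX hcX cS g a b
    exact ⟨i⟩
  apply Functor.final_of_exists_of_isFiltered
  · intro b
    obtain ⟨a⟩ := ‹Nonempty A›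
    obtain ⟨i, -, hi⟩ := exists_tri_ge DX DS cX hcX cS g a b
    exact ⟨i, ⟨homOfLE hi⟩⟩
  · intro d c s s'
    exact ⟨c, 𝟙 _, Subsingleton.elim _ _⟩

include hcX hcS in
/-- A morphism between limits of systems of finite type over `ℤ` is a limit of morphisms. -/
theorem morApprox :
    ∃ (I : Type u) (_ : Preorder I) (_ : IsDirected I (fun a b => a ≤ b)) (_ : Nonempty I)
      (FX FS : Iᵒᵖ ⥤ Scheme.{u}) (φ : FX ⟶ FS)
      (cX' : Limits.Cone FX) (cS' : Limits.Cone FS) (_ : Limits.IsLimit cX')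
      (_ : Limits.IsLimit cS') (eX : cX'.pt ≅ cX.pt) (eS : cS'.pt ≅ cS.pt),
      (∀ (i j : Iᵒᵖ) (a : i ⟶ j), IsAffineHom (FX.map a) ∧ IsAffineHom (FS.map a)) ∧
      (∀ i, CompactSpace (FX.obj i) ∧ CompactSpace (FS.obj i) ∧
        LocallyOfFiniteType (Limits.IsTerminal.from specULiftZIsTerminal (FX.obj i)) ∧
        LocallyOfFiniteType (Limits.IsTerminal.from specULiftZIsTerminal (FS.obj i))) ∧
      (∀ i, cX'.π.app i ≫ φ.app i = eX.hom ≫ g ≫ eS.inv ≫ cS'.π.app i) := by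
  haveI hd : IsDirected (Tri DX DS cX cS g) (· ≤ ·) := ⟨tri_directed DX DS cX hcX cS g⟩
  haveI hn : Nonempty (Tri DX DS cX cS g) := by
    obtain ⟨a⟩ := ‹Nonempty A›
    obtain ⟨b⟩ := ‹Nonempty B›
    obtain ⟨i, -⟩ := exists_tri_ge DX DS cX hcX cS g a b
    exact ⟨i⟩
  haveI := Tri.pA_final DX DS cX hcX cS g
  haveI := Tri.pB_final DX DS cX hcX cS g
  let PA := (Tri.pA DX DS cX cS g).monotone.functor
  let PB := (Tri.pB DX DS cX cS g).monotone.functor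
  let φ : PA.op ⋙ DX ⟶ PB.op ⋙ DS :=
    { app := fun i => i.unop.h
      naturality := by
        intro i i' a
        obtain ⟨ha, hb, e⟩ := leOfHom a.unop
        exact e }
  refine ⟨Tri DX DS cX cS g, inferInstance, hd, hn, PA.op ⋙ DX, PB.op ⋙ DS, φ,
    cX.whisker PA.op, cS.whisker PB.op,
    (Functor.Initial.isLimitWhiskerEquiv PA.op cX).symm hcX,
    (Functor.Initial.isLimitWhiskerEquiv PB.op cS).symm hcS, Iso.refl _, Iso.refl _, ?_, ?_, ?_⟩
  · intro i j a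
    exact ⟨inferInstanceAs (IsAffineHom (DX.map _)), inferInstanceAs (IsAffineHom (DS.map _))⟩
  · intro i
    exact ⟨inferInstanceAs (CompactSpace (DX.obj _)), inferInstanceAs (CompactSpace (DS.obj _)),
      inferInstanceAs (LocallyOfFiniteType (Limits.IsTerminal.from specULiftZIsTerminal
        (DX.obj _))),
      inferInstanceAs (LocallyOfFiniteType (Limits.IsTerminal.from specULiftZIsTerminal
        (DS.obj _)))⟩
  · intro i
    show cX.π.app (op i.unop.a) ≫ i.unop.h = 𝟙 _ ≫ g ≫ 𝟙 _ ≫ cS.π.app (op i.unop.b)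
    rw [Category.id_comp, Category.id_comp]
    exact i.unop.comm

end Assemble

/-- A morphism of quasi-compact quasi-separated schemes is a limit of morphisms of schemes of
finite type over `ℤ`. -/
theorem morApprox_qcqs {X S : Scheme.{u}} (f : X ⟶ S) [CompactSpace X]
    [QuasiSeparatedSpace X] [CompactSpace S] [QuasiSeparatedSpace S] :
    ∃ (I : Type u) (_ : Preorder I) (_ : IsDirected I (fun a b => a ≤ b)) (_ : Nonempty I)
      (DX DS : Iᵒᵖ ⥤ Scheme.{u}) (φ : DX ⟶ DS)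
      (cX : Limits.Cone DX) (cS : Limits.Cone DS) (_ : Limits.IsLimit cX) (_ : Limits.IsLimit cS)
      (eX : cX.pt ≅ X) (eS : cS.pt ≅ S),
      (∀ (i j : Iᵒᵖ) (a : i ⟶ j), IsAffineHom (DX.map a) ∧ IsAffineHom (DS.map a)) ∧
      (∀ i, CompactSpace (DX.obj i) ∧ CompactSpace (DS.obj i) ∧
        LocallyOfFiniteType (Limits.IsTerminal.from specULiftZIsTerminal (DX.obj i)) ∧
        LocallyOfFiniteType (Limits.IsTerminal.from specULiftZIsTerminal (DS.obj i))) ∧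
      (∀ i, cX.π.app i ≫ φ.app i = eX.hom ≫ f ≫ eS.inv ≫ cS.π.app i) := by
  obtain ⟨A, pA, dA, nA, DXa, cXa, hcXa, haX, hfX, ⟨eXa⟩⟩ := absApprox X
  obtain ⟨B, pB, dB, nB, DSb, cSb, hcSb, haS, hfS, ⟨eSb⟩⟩ := absApprox S
  haveI : ∀ {i j : Aᵒᵖ} (f : i ⟶ j), IsAffineHom (DXa.map f) := fun f => haX _ _ f
  haveI : ∀ i, CompactSpace (DXa.obj i) := fun i => (hfX i).1
  haveI : ∀ i, LocallyOfFiniteType (Limits.IsTerminal.from specULiftZIsTerminal (DXa.obj i)) :=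
    fun i => (hfX i).2
  haveI : ∀ {i j : Bᵒᵖ} (f : i ⟶ j), IsAffineHom (DSb.map f) := fun f => haS _ _ f
  haveI : ∀ i, CompactSpace (DSb.obj i) := fun i => (hfS i).1
  haveI : ∀ i, LocallyOfFiniteType (Limits.IsTerminal.from specULiftZIsTerminal (DSb.obj i)) :=
    fun i => (hfS i).2
  obtain ⟨I, pI, dI, nI, FX, FS, φ, cX', cS', hcX', hcS', eX, eS, h1, h2, h3⟩ :=
    morApprox DXa DSb cXa hcXa cSb hcSb (eXa.hom ≫ f ≫ eSb.inv)
  refine ⟨I, pI, dI, nI, FX, FS, φ, cX', cS', hcX', hcS', eX ≪≫ eXa, eS ≪≫ eSb, h1, h2, ?_⟩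
  intro i
  rw [h3 i]
  simp only [Iso.trans_hom, Iso.trans_inv, Category.assoc]


end Groth.Agent.H5.NApprox
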