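import Mathlib
import Groth.Agent.Lib.Helper5.NApprox.MorA

/-!
# Relative approximation: `X → S` as a limit of finitely presented `S`-schemes (helper5)
-/

set_option autoImplicit false

namespace Groth.Agent.H5.NApprox

open AlgebraicGeometry CategoryTheory Opposite Limits

universe u

section RelLim

variable {I : Type u} [Preorder I] [IsDirected I (· ≤ ·)] [Nonempty I]
  (FX FS : Iᵒᵖ ⥤ Scheme.{u}) (φ : FX ⟶ FS)
  (cX : Cone FX) (cS : Cone FS) (g : cX.pt ⟶ cS.pt)
  (hφ : ∀ i, cX.π.app i ≫ φ.app i = g ≫ cS.π.app i)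
  {S : Scheme.{u}} (j : cS.pt ⟶ S)

/-- transition maps of the pullback system -/
noncomputable def relT {i i' : Iᵒᵖ} (a : i ⟶ i') :
    pullback (φ.app i) (cS.π.app i) ⟶ pullback (φ.app i') (cS.π.app i') :=
  pullback.map (φ.app i) (cS.π.app i) (φ.app i') (cS.π.app i') (FX.map a) (𝟙 _) (FS.map a)
    (φ.naturality a).symm (by rw [Category.id_comp]; exact cS.w a)

@[reassoc (attr := simp)]
theorem relT_fst {i i' : Iᵒᵖ} (a : i ⟶ i') :
    relT FX FS φ cS a ≫ pullback.fst _ _ = pullback.fst _ _ ≫ FX.map a :=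
  pullback.lift_fst _ _ _

@[reassoc (attr := simp)]
theorem relT_snd {i i' : Iᵒᵖ} (a : i ⟶ i') :
    relT FX FS φ cS a ≫ pullback.snd _ _ = pullback.snd _ _ :=
  (pullback.lift_snd _ _ _).trans (Category.comp_id _)

/-- the system `FX i ×_{FS i} S₀` over `S` -/
noncomputable def relD : Iᵒᵖ ⥤ Over S where
  obj i := Over.mk (pullback.snd (φ.app i) (cS.π.app i) ≫ j)
  map {i i'} a := Over.homMk (relT FX FS φ cS a) (by simp)
  map_id i := by
    ext
    apply pullback.hom_ext <;> simp
  map_comp a b := by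
    ext
    apply pullback.hom_ext <;> simp

/-- the cone over the pullback system with vertex `X` -/
noncomputable def relCone : Cone (relD FX FS φ cS j) where
  pt := Over.mk (g ≫ j)
  π :=
    { app := fun i => Over.homMk (pullback.lift (cX.π.app i) g (hφ i)) (by
        simp [relD, pullback.lift_snd_assoc])
      naturality := by
        intro i i' a
        ext
        apply pullback.hom_ext
        · simp [relD, pullback.lift_fst, pullback.lift_fst_assoc]
        · simp [relD, pullback.lift_snd, pullback.lift_snd_assoc] }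

/-- the underlying system of schemes -/
noncomputable abbrev relD₀ : Iᵒᵖ ⥤ Scheme.{u} := relD FX FS φ cS j ⋙ Over.forget S

/-- typed components of a cone over the pullback system -/
noncomputable def relπ (s : Cone (relD₀ FX FS φ cS j)) (i : Iᵒᵖ) :
    s.pt ⟶ pullback (φ.app i) (cS.π.app i) := s.π.app i

theorem relπ_w (s : Cone (relD₀ FX FS φ cS j)) {i i' : Iᵒᵖ} (a : i ⟶ i') :
    relπ FX FS φ cS j s i ≫ relT FX FS φ cS a = relπ FX FS φ cS j s i' :=
  s.w a

theorem relπ_snd_eq (s : Cone (relD₀ FX FS φ cS j)) (i i' : Iᵒᵖ) :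
    relπ FX FS φ cS j s i ≫ pullback.snd (φ.app i) (cS.π.app i) =
      relπ FX FS φ cS j s i' ≫ pullback.snd (φ.app i') (cS.π.app i') := by
  obtain ⟨k, hk, hk'⟩ := exists_ge_ge i.unop i'.unop
  have h1 := relπ_w FX FS φ cS j s (i := op k) (i' := i) (homOfLE hk).op
  have h2 := relπ_w FX FS φ cS j s (i := op k) (i' := i') (homOfLE hk').op
  rw [← h1, ← h2, Category.assoc, Category.assoc, relT_snd, relT_snd]

/-- the cone of `fst`-components -/
noncomputable def relConeX (s : Cone (relD₀ FX FS φ cS j)) : Cone FX where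
  pt := s.pt
  π :=
    { app := fun i => relπ FX FS φ cS j s i ≫ pullback.fst (φ.app i) (cS.π.app i)
      naturality := by
        intro i i' a
        have h := relπ_w FX FS φ cS j s a
        simp only [Functor.const_obj_obj, Functor.const_obj_map, Category.id_comp]
        rw [← h, Category.assoc, relT_fst, Category.assoc] }

/-- the lift, with explicit type -/
noncomputable def relLift (hX : IsLimit cX) (s : Cone (relD₀ FX FS φ cS j)) : s.pt ⟶ cX.pt :=
  hX.lift (relConeX FX FS φ cS j s)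

theorem relLift_π (hX : IsLimit cX) (s : Cone (relD₀ FX FS φ cS j)) (k : Iᵒᵖ) :
    relLift FX FS φ cX cS j hX s ≫ cX.π.app k =
      relπ FX FS φ cS j s k ≫ pullback.fst (φ.app k) (cS.π.app k) :=
  hX.fac (relConeX FX FS φ cS j s) k

theorem relLift_fac (hX : IsLimit cX) (hS : IsLimit cS) (s : Cone (relD₀ FX FS φ cS j))
    (i : Iᵒᵖ) :
    relLift FX FS φ cX cS j hX s ≫ pullback.lift (cX.π.app i) g (hφ i) =
      relπ FX FS φ cS j s i := by
  apply pullback.hom_ext
  · rw [Category.assoc, pullback.lift_fst]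
    exact relLift_π FX FS φ cX cS j hX s i
  · rw [Category.assoc, pullback.lift_snd]
    apply hS.hom_ext
    intro k
    rw [Category.assoc, ← hφ k, ← Category.assoc, relLift_π, Category.assoc, pullback.condition,
      ← Category.assoc, relπ_snd_eq FX FS φ cS j s k i, Category.assoc]

theorem relLift_uniq (hX : IsLimit cX) (s : Cone (relD₀ FX FS φ cS j))
    (m : s.pt ⟶ cX.pt)
    (hm : ∀ i, m ≫ pullback.lift (cX.π.app i) g (hφ i) = relπ FX FS φ cS j s i) :
    m = relLift FX FS φ cX cS j hX s := by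
  apply hX.hom_ext
  intro i
  rw [relLift_π, ← hm i, Category.assoc, pullback.lift_fst]

/-- The pullback system has limit `X` in `Over S`. -/
noncomputable def relIsLimit (hX : IsLimit cX) (hS : IsLimit cS) :
    IsLimit (relCone FX FS φ cX cS g hφ j) := by
  haveI : IsConnected Iᵒᵖ := IsCofiltered.isConnected _
  apply isLimitOfReflects (Over.forget S)
  refine
    { lift := fun s => relLift FX FS φ cX cS j hX s
      fac := ?_
      uniq := ?_ }
  · intro s i
    exact relLift_fac FX FS φ cX cS g hφ j hX hS s i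
  · intro s m hm
    exact relLift_uniq FX FS φ cX cS g hφ j hX s m hm

end RelLim

section RelProps

variable {I : Type u} [Preorder I] [IsDirected I (· ≤ ·)] [Nonempty I]
  (FX FS : Iᵒᵖ ⥤ Scheme.{u}) (φ : FX ⟶ FS)
  [∀ {i j : Iᵒᵖ} (f : i ⟶ j), IsAffineHom (FX.map f)]
  [∀ {i j : Iᵒᵖ} (f : i ⟶ j), IsAffineHom (FS.map f)]
  [∀ i, CompactSpace (FX.obj i)]
  [∀ i, LocallyOfFiniteType (Limits.IsTerminal.from specULiftZIsTerminal (FX.obj i))]
  [∀ i, LocallyOfFiniteType (Limits.IsTerminal.from specULiftZIsTerminal (FS.obj i))]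
  (cS : Cone FS) (hS : IsLimit cS)
  {S : Scheme.{u}} (j : cS.pt ⟶ S)

theorem relφ_props (i : Iᵒᵖ) :
    LocallyOfFinitePresentation (φ.app i) ∧ QuasiCompact (φ.app i) ∧
      QuasiSeparated (φ.app i) := by
  haveI : QuasiSeparatedSpace (FX.obj i) := quasiSeparatedSpace_of_lft (FX.obj i)
  haveI : QuasiSeparatedSpace (FS.obj i) := quasiSeparatedSpace_of_lft (FS.obj i)
  haveI : IsLocallyNoetherian (FS.obj i) :=
    LocallyOfFiniteType.isLocallyNoetherian
      (Limits.IsTerminal.from specULiftZIsTerminal (FS.obj i))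
  haveI : LocallyOfFiniteType (φ.app i) := by
    haveI : LocallyOfFiniteType
        (φ.app i ≫ Limits.IsTerminal.from specULiftZIsTerminal (FS.obj i)) := by
      rw [specULiftZIsTerminal.hom_ext
        (φ.app i ≫ Limits.IsTerminal.from specULiftZIsTerminal (FS.obj i))
        (Limits.IsTerminal.from specULiftZIsTerminal (FX.obj i))]
      infer_instance
    exact locallyOfFiniteType_of_comp (φ.app i)
      (Limits.IsTerminal.from specULiftZIsTerminal (FS.obj i))
  exact ⟨inferInstance, inferInstance, inferInstance⟩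

theorem relD_props [LocallyOfFinitePresentation j] [QuasiCompact j] [QuasiSeparated j]
    (i : Iᵒᵖ) :
    LocallyOfFinitePresentation ((relD FX FS φ cS j).obj i).hom ∧
      QuasiCompact ((relD FX FS φ cS j).obj i).hom ∧
      QuasiSeparated ((relD FX FS φ cS j).obj i).hom := by
  obtain ⟨h1, h2, h3⟩ := relφ_props FX FS φ i
  show LocallyOfFinitePresentation (pullback.snd (φ.app i) (cS.π.app i) ≫ j) ∧
    QuasiCompact (pullback.snd (φ.app i) (cS.π.app i) ≫ j) ∧
    QuasiSeparated (pullback.snd (φ.app i) (cS.π.app i) ≫ j)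
  exact ⟨inferInstance, inferInstance, inferInstance⟩

include hS in
theorem relFst_affine (i : Iᵒᵖ) : IsAffineHom (pullback.fst (φ.app i) (cS.π.app i)) := by
  have h : IsAffineHom (cS.π.app i) := isAffineHom_π_app FS cS hS i
  exact MorphismProperty.pullback_fst (P := @IsAffineHom) _ _ h

include hS in
theorem relT_affine {i i' : Iᵒᵖ} (a : i ⟶ i') : IsAffineHom (relT FX FS φ cS a) := by
  haveI := relFst_affine FX FS φ cS hS i
  haveI := relFst_affine FX FS φ cS hS i'
  haveI : IsAffineHom (relT FX FS φ cS a ≫ pullback.fst (φ.app i') (cS.π.app i')) := by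
    rw [relT_fst]
    infer_instance
  exact IsAffineHom.of_comp (relT FX FS φ cS a) (pullback.fst (φ.app i') (cS.π.app i'))

end RelProps

section Main

theorem exists_compact_open_range {X S : Scheme.{u}} (f : X ⟶ S) [CompactSpace X] :
    ∃ S₀ : S.Opens, IsCompact (S₀ : Set S) ∧ Set.range f ⊆ (S₀ : Set S) := by
  have H : ∀ s : S, ∃ U : S.Opens, IsAffineOpen U ∧ s ∈ U := by
    intro s
    obtain ⟨_, ⟨U, hU, rfl⟩, hs, -⟩ :=
      S.isBasis_affineOpens.exists_subset_of_mem_open (Set.mem_univ s) isOpen_univ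
    exact ⟨U, hU, hs⟩
  choose U hU hsU using H
  obtain ⟨t, -, ht⟩ := (isCompact_range f.continuous).elim_nhds_subcover
    (fun s => (U s : Set S)) (fun s _ => (U s).isOpen.mem_nhds (hsU s))
  refine ⟨⨆ s ∈ t, U s, ?_, ?_⟩
  · simp only [TopologicalSpace.Opens.coe_iSup]
    exact t.finite_toSet.isCompact_biUnion (fun s _ => (hU s).isCompact)
  · simpa using ht

/-- Relative approximation (Stacks 09MV): a morphism `f : X ⟶ S` with `X` quasi-compact and
quasi-separated and `S` quasi-separated is a directed limit (in `Over S`) of finitely presented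
`S`-schemes with affine transition maps. -/
theorem relApproxOver {X S : Scheme.{u}} (f : X ⟶ S)
    [CompactSpace X] [QuasiSeparatedSpace X] [QuasiSeparatedSpace S] :
    ∃ (I : Type u) (_ : Preorder I) (_ : IsDirected I (fun a b => a ≤ b)) (_ : Nonempty I)
      (D : Iᵒᵖ ⥤ Over S) (c : Limits.Cone D) (_ : Limits.IsLimit c),
      (∀ i, LocallyOfFinitePresentation (D.obj i).hom ∧ QuasiCompact (D.obj i).hom ∧
        QuasiSeparated (D.obj i).hom) ∧
      (∀ (i j : Iᵒᵖ) (a : i ⟶ j), IsAffineHom (D.map a).left) ∧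
      Nonempty (c.pt ≅ Over.mk f) := by
  obtain ⟨S₀, hS₀, hr⟩ := exists_compact_open_range f
  haveI : CompactSpace (S₀ : Scheme.{u}) := isCompact_iff_compactSpace.mp hS₀
  haveI : QuasiSeparatedSpace (S₀ : Scheme.{u}) := quasiSeparatedSpace_opens S₀
  let f₀ : X ⟶ (S₀ : Scheme.{u}) := IsOpenImmersion.lift S₀.ι f (by
    rw [Scheme.Opens.range_ι]
    exact hr)
  have hf₀ : f₀ ≫ S₀.ι = f := IsOpenImmersion.lift_fac _ _ _
  obtain ⟨I, pI, dI, nI, FX, FS, φ, cX, cS, hcX, hcS, eX, eS, h1, h2, h3⟩ := morApprox_qcqs f₀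
  haveI : ∀ {i j : Iᵒᵖ} (f : i ⟶ j), IsAffineHom (FX.map f) := fun f => (h1 _ _ f).1
  haveI : ∀ {i j : Iᵒᵖ} (f : i ⟶ j), IsAffineHom (FS.map f) := fun f => (h1 _ _ f).2
  haveI : ∀ i, CompactSpace (FX.obj i) := fun i => (h2 i).1
  haveI : ∀ i, LocallyOfFiniteType (Limits.IsTerminal.from specULiftZIsTerminal (FX.obj i)) :=
    fun i => (h2 i).2.2.1
  haveI : ∀ i, LocallyOfFiniteType (Limits.IsTerminal.from specULiftZIsTerminal (FS.obj i)) :=
    fun i => (h2 i).2.2.2
  let g : cX.pt ⟶ cS.pt := eX.hom ≫ f₀ ≫ eS.inv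
  have hφ : ∀ i, cX.π.app i ≫ φ.app i = g ≫ cS.π.app i := by
    intro i
    rw [h3 i]
    simp only [g, Category.assoc]
  let j : cS.pt ⟶ S := eS.hom ≫ S₀.ι
  haveI : QuasiCompact S₀.ι := quasiCompact_of_compactSpace _
  haveI : QuasiCompact j := by
    show QuasiCompact (eS.hom ≫ S₀.ι)
    infer_instance
  haveI : LocallyOfFinitePresentation j := by
    show LocallyOfFinitePresentation (eS.hom ≫ S₀.ι)
    infer_instance
  haveI : QuasiSeparated j := by
    show QuasiSeparated (eS.hom ≫ S₀.ι)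
    infer_instance
  refine ⟨I, pI, dI, nI, relD FX FS φ cS j, relCone FX FS φ cX cS g hφ j,
    relIsLimit FX FS φ cX cS g hφ j hcX hcS, fun i => relD_props FX FS φ cS j i,
    fun i i' a => relT_affine FX FS φ cS hcS a, ⟨Over.isoMk eX ?_⟩⟩
  show eX.hom ≫ f = g ≫ j
  simp only [g, j, Category.assoc, Iso.inv_hom_id_assoc, hf₀]

end Main

end Groth.Agent.H5.NApprox
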