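import Mathlib
import Groth.Agent.Lib.Helper5.NApprox.RelA

/-!
# Closed immersions into products with a finite stage of a limit (helper5)
-/

set_option autoImplicit false

namespace Groth.Agent.H5.NApprox

open AlgebraicGeometry CategoryTheory Opposite Limits

universe u

/-- the structure morphism to `Spec ℤ` -/
noncomputable abbrev toZ (X : Scheme.{u}) : X ⟶ Z0.{u} :=
  Limits.IsTerminal.from specULiftZIsTerminal X

@[reassoc]
theorem comp_toZ {X Y : Scheme.{u}} (f : X ⟶ Y) : f ≫ toZ Y = toZ X :=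
  specULiftZIsTerminal.hom_ext _ _

theorem toZ_ext {X : Scheme.{u}} (a b : X ⟶ Z0.{u}) : a = b :=
  specULiftZIsTerminal.hom_ext _ _

section AffLemma

variable {K : Type u} [Category.{u} K] [IsCofiltered K] (E : K ⥤ Scheme.{u})
  [∀ {i j : K} (f : i ⟶ j), IsAffineHom (E.map f)]
  [∀ k, IsAffine (E.obj k)]
  (cE : Cone E) (hcE : IsLimit cE) [IsAffine cE.pt]
  {T : Scheme.{u}} [IsAffine T] (a : cE.pt ⟶ T) [LocallyOfFiniteType a]

include hcE in
theorem exists_mem_range_appTop (G : Finset Γ(cE.pt, ⊤)) :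
    ∃ k : K, ∀ g ∈ G, ∀ (k' : K) (_ : k' ⟶ k), g ∈ Set.range (cE.π.app k').appTop.hom := by
  classical
  have H : ∀ g : Γ(cE.pt, ⊤), ∃ (k : K) (t : Γ(E.obj k, ⊤)), g = (cE.π.app k).appTop t :=
    fun g => exists_appTop_π_eq_of_isLimit E cE hcE g
  choose kk t ht using H
  obtain ⟨k, hk⟩ := IsCofiltered.inf_objs_exists (G.image kk)
  refine ⟨k, fun g hg k' u => ?_⟩
  have v : k ⟶ kk g := (hk (Finset.mem_image_of_mem kk hg)).some
  refine ⟨(E.map (u ≫ v)).appTop (t g), ?_⟩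
  have h1 : cE.π.app k' ≫ E.map (u ≫ v) = cE.π.app (kk g) := cE.w (u ≫ v)
  have h2 : (cE.π.app (kk g)).appTop = (E.map (u ≫ v)).appTop ≫ (cE.π.app k').appTop := by
    rw [← h1, Scheme.Hom.comp_appTop]
  refine Eq.trans ?_ (ht g).symm
  rw [h2]
  rfl

include hcE in
theorem exists_isClosedImmersion_lift :
    ∃ k : K, ∀ (k' : K) (_ : k' ⟶ k),
      IsClosedImmersion (pullback.lift a (cE.π.app k') (toZ_ext _ _) :
        cE.pt ⟶ pullback (toZ T) (toZ (E.obj k'))) := by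
  classical
  have hft : RingHom.FiniteType a.appTop.hom :=
    (HasRingHomProperty.iff_of_isAffine (P := @LocallyOfFiniteType)).mp inferInstance
  letI := a.appTop.hom.toAlgebra
  obtain ⟨G, hG⟩ := hft.out
  obtain ⟨k, hk⟩ := exists_mem_range_appTop E cE hcE G
  refine ⟨k, fun k' u => ?_⟩
  set m : cE.pt ⟶ pullback (toZ T) (toZ (E.obj k')) :=
    pullback.lift a (cE.π.app k') (toZ_ext _ _) with hm
  have e1 : (pullback.fst (toZ T) (toZ (E.obj k'))).appTop ≫ m.appTop = a.appTop := by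
    rw [← Scheme.Hom.comp_appTop, hm, pullback.lift_fst]
  have e2 : (pullback.snd (toZ T) (toZ (E.obj k'))).appTop ≫ m.appTop =
      (cE.π.app k').appTop := by
    rw [← Scheme.Hom.comp_appTop, hm, pullback.lift_snd]
  apply IsClosedImmersion.of_surjective_of_isAffine
  intro x
  have hx : x ∈ Algebra.adjoin Γ(T, ⊤) (G : Set Γ(cE.pt, ⊤)) := by
    rw [hG]
    trivial
  induction hx using Algebra.adjoin_induction with
  | mem g hg =>
    obtain ⟨t, ht⟩ := hk g hg k' u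
    refine ⟨(pullback.snd (toZ T) (toZ (E.obj k'))).appTop t, ?_⟩
    rw [← ht]
    exact ConcreteCategory.congr_hom e2 t
  | algebraMap r =>
    refine ⟨(pullback.fst (toZ T) (toZ (E.obj k'))).appTop r, ?_⟩
    exact ConcreteCategory.congr_hom e1 r
  | add x y _ _ hx hy =>
    obtain ⟨x', rfl⟩ := hx
    obtain ⟨y', rfl⟩ := hy
    exact ⟨x' + y', map_add _ _ _⟩
  | mul x y _ _ hx hy =>
    obtain ⟨x', rfl⟩ := hx
    obtain ⟨y', rfl⟩ := hy
    exact ⟨x' * y', map_mul _ _ _⟩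

end AffLemma

section LocalLift

variable {P : MorphismProperty Scheme.{u}} [IsZariskiLocalAtTarget P]
  {X Y : Scheme.{u}} (f : X ⟶ Y)

/-- If `f` lands in `⋃ Uᵢ` and every restriction `f ∣_ Uᵢ` satisfies `P` (local at the target),
then so does the corestriction of `f` to `⋃ Uᵢ`. -/
theorem lift_of_range_subset_iSup {ι : Type*} (U : ι → Y.Opens)
    (H : Set.range f ⊆ ((⨆ i, U i : Y.Opens) : Set Y)) (hf : ∀ i, P (f ∣_ U i)) :
    P (IsOpenImmersion.lift (⨆ i, U i).ι f (by simpa using H)) := by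
  set g : X ⟶ (⨆ i, U i : Y.Opens) :=
    IsOpenImmersion.lift (Scheme.Opens.ι _) f (by simpa using H) with hg
  rw [IsZariskiLocalAtTarget.iff_of_iSup_eq_top (P := P)
    (U := fun i : ι ↦ (⨆ i, U i).ι ⁻¹ᵁ U i)]
  · intro i
    have heq : g ⁻¹ᵁ (⨆ i, U i).ι ⁻¹ᵁ U i = f ⁻¹ᵁ U i := by
      change (g ≫ (⨆ i, U i).ι) ⁻¹ᵁ U i = _
      simp [g]
    let e : Arrow.mk (g ∣_ (⨆ i, U i).ι ⁻¹ᵁ U i) ≅ Arrow.mk (f ∣_ U i) :=
        Arrow.isoMk (X.isoOfEq heq) (Scheme.Opens.isoOfLE (le_iSup U i)) <| by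
      simp [← CategoryTheory.cancel_mono (U i).ι, g]
    rw [P.arrow_mk_iso_iff e]
    exact hf i
  apply (⨆ i, U i).ι.image_injective
  dsimp
  rw [Scheme.Hom.image_iSup, Scheme.Hom.image_top_eq_opensRange, Scheme.Opens.opensRange_ι]
  simp [Scheme.Hom.image_preimage_eq_opensRange_inf, le_iSup U]

/-- Version of `lift_of_range_subset_iSup` for a family of open immersions `pᵢ : Qᵢ ⟶ Y` and
pullback squares. -/
theorem lift_of_isPullback {ι : Type*} {Q A : ι → Scheme.{u}} (p : ∀ i, Q i ⟶ Y)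
    [∀ i, IsOpenImmersion (p i)] (q : ∀ i, A i ⟶ X) (k : ∀ i, A i ⟶ Q i)
    (hsq : ∀ i, IsPullback (k i) (q i) (p i) f) (hk : ∀ i, P (k i))
    (H : Set.range f ⊆ ((⨆ i, (p i).opensRange : Y.Opens) : Set Y)) :
    P (IsOpenImmersion.lift (⨆ i, (p i).opensRange).ι f (by simpa using H)) := by
  apply lift_of_range_subset_iSup f (fun i => (p i).opensRange) H
  intro i
  rw [P.arrow_mk_iso_iff (morphismRestrictOpensRange f (p i))]
  show P (pullback.snd f (p i))
  have h1 : (hsq i).flip.isoPullback.hom ≫ pullback.snd f (p i) = k i :=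
    (hsq i).flip.isoPullback_hom_snd
  have h2 : pullback.snd f (p i) = (hsq i).flip.isoPullback.inv ≫ k i :=
    ((Iso.inv_comp_eq _).mpr h1.symm).symm
  rw [h2]
  exact (P.cancel_left_of_respectsIso _ _).mpr (hk i)

end LocalLift

end Groth.Agent.H5.NApprox
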