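import Mathlib
import Groth.Agent.Lib.Helper5.NApprox.ImmA

/-!
# A finite-type morphism from a qcqs scheme factors through an immersion into a finitely
presented scheme (helper5)
-/

set_option autoImplicit false

namespace Groth.Agent.H5.NApprox

open AlgebraicGeometry CategoryTheory Opposite Limits

universe u

theorem exists_finite_affine_cover {X S : Scheme.{u}} (f : X ⟶ S) [CompactSpace X] :
    ∃ (J : Type u) (_ : Finite J) (U : J → X.Opens) (T : J → S.Opens),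
      TopologicalSpace.IsOpenCover U ∧ (∀ j, IsAffineOpen (U j)) ∧ (∀ j, IsAffineOpen (T j)) ∧
        ∀ j, U j ≤ f ⁻¹ᵁ T j := by
  have H : ∀ x : X, ∃ (T : S.Opens) (U : X.Opens), IsAffineOpen T ∧ IsAffineOpen U ∧ x ∈ U ∧
      U ≤ f ⁻¹ᵁ T := by
    intro x
    obtain ⟨_, ⟨T, hT, rfl⟩, hxT, -⟩ :=
      S.isBasis_affineOpens.exists_subset_of_mem_open (Set.mem_univ (f x)) isOpen_univ
    obtain ⟨_, ⟨U, hU, rfl⟩, hxU, hUT⟩ :=
      X.isBasis_affineOpens.exists_subset_of_mem_open (show x ∈ ((f ⁻¹ᵁ T : X.Opens) : Set X)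
        from hxT) (f ⁻¹ᵁ T).isOpen
    exact ⟨T, U, hT, hU, hxU, hUT⟩
  choose T U hT hU hxU hUT using H
  obtain ⟨t, -, ht⟩ := isCompact_univ.elim_nhds_subcover (fun x => (U x : Set X))
    (fun x _ => (U x).isOpen.mem_nhds (hxU x))
  refine ⟨t, inferInstance, fun x => U x.1, fun x => T x.1, ?_, fun x => hU _, fun x => hT _,
    fun x => hUT _⟩
  rw [TopologicalSpace.IsOpenCover, eq_top_iff]
  intro x _
  obtain ⟨y, hy, hxy⟩ := Set.mem_iUnion₂.mp (ht (Set.mem_univ x))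
  exact TopologicalSpace.Opens.mem_iSup.mpr ⟨⟨y, hy⟩, hxy⟩

section Square

variable {X S Y : Scheme.{u}} (f : X ⟶ S) (π : X ⟶ Y) (U : X.Opens) (T : S.Opens) (V : Y.Opens)
  (hUT : U ≤ f ⁻¹ᵁ T) (hUV : U ≤ π ⁻¹ᵁ V)

/-- the map `X ⟶ S × Y` -/
noncomputable abbrev prodLift : X ⟶ pullback (toZ S) (toZ Y) :=
  pullback.lift f π (toZ_ext _ _)

/-- the open immersion `T × V ⟶ S × Y` -/
noncomputable abbrev prodOpen : pullback (toZ (T : Scheme.{u})) (toZ (V : Scheme.{u})) ⟶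
    pullback (toZ S) (toZ Y) :=
  pullback.map (toZ (T : Scheme.{u})) (toZ (V : Scheme.{u})) (toZ S) (toZ Y) T.ι V.ι (𝟙 _)
    (toZ_ext _ _) (toZ_ext _ _)

/-- the restricted map `U ⟶ T × V` -/
noncomputable abbrev prodLiftRes : (U : Scheme.{u}) ⟶
    pullback (toZ (T : Scheme.{u})) (toZ (V : Scheme.{u})) :=
  pullback.lift (f.resLE T U hUT) (π.resLE V U hUV) (toZ_ext _ _)

theorem prodLiftRes_comp :
    prodLiftRes f π U T V hUT hUV ≫ prodOpen T V = U.ι ≫ prodLift f π := by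
  apply pullback.hom_ext
  · simp only [Category.assoc, pullback.lift_fst, pullback.lift_fst_assoc]
    exact Scheme.Hom.resLE_comp_ι _ _
  · simp only [Category.assoc, pullback.lift_snd, pullback.lift_snd_assoc]
    exact Scheme.Hom.resLE_comp_ι _ _

theorem prodOpen_opensRange :
    (prodOpen T V).opensRange =
      pullback.fst (toZ S) (toZ Y) ⁻¹ᵁ T ⊓ pullback.snd (toZ S) (toZ Y) ⁻¹ᵁ V := by
  apply TopologicalSpace.Opens.ext
  simp only [Scheme.Hom.coe_opensRange, TopologicalSpace.Opens.coe_inf,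
    TopologicalSpace.Opens.map_coe]
  rw [Scheme.Pullback.range_map]
  simp only [Scheme.Opens.range_ι]

theorem prodLift_isPullback (hU : U = f ⁻¹ᵁ T ⊓ π ⁻¹ᵁ V) :
    IsPullback (prodLiftRes f π U T V hUT hUV) U.ι (prodOpen T V) (prodLift f π) := by
  apply IsOpenImmersion.isPullback _ _ _ _ (prodLiftRes_comp f π U T V hUT hUV).symm
  rw [prodOpen_opensRange, Scheme.Opens.opensRange_ι, Scheme.Hom.preimage_inf,
    ← Scheme.Hom.comp_preimage, ← Scheme.Hom.comp_preimage, pullback.lift_fst, pullback.lift_snd,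
    ← hU]

end Square

section Core

variable {I : Type u} [Preorder I] [IsDirected I (· ≤ ·)] [Nonempty I]
  (D : Iᵒᵖ ⥤ Scheme.{u}) [∀ {i j : Iᵒᵖ} (f : i ⟶ j), IsAffineHom (D.map f)]
  [∀ i, CompactSpace (D.obj i)]
  [∀ i, LocallyOfFiniteType (toZ (D.obj i))]
  (c : Cone D) (hc : IsLimit c) {S : Scheme.{u}} (f : c.pt ⟶ S) [LocallyOfFiniteType f]

include hc in
theorem exists_closedImmersion_core :
    ∃ (i : Iᵒᵖ) (W : (pullback (toZ S) (toZ (D.obj i))).Opens)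
      (hW : Set.range (prodLift f (c.π.app i)) ⊆ Set.range W.ι),
      IsCompact (W : Set (pullback (toZ S) (toZ (D.obj i)) : Scheme.{u})) ∧
      IsClosedImmersion (IsOpenImmersion.lift W.ι (prodLift f (c.π.app i)) hW) := by
  classical
  haveI : ∀ i, QuasiSeparatedSpace (D.obj i) := fun i => quasiSeparatedSpace_of_lft (D.obj i)
  haveI : CompactSpace c.pt := Scheme.compactSpace_of_isLimit D c hc
  obtain ⟨J, hJ, U, T, hU, hUa, hTa, hUT⟩ := exists_finite_affine_cover f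
  obtain ⟨i, V, -, hV⟩ := Scheme.exists_isOpenCover_and_isAffine_of_finite D c hc U hU hUa
  obtain rfl : U = fun j => c.π.app i ⁻¹ᵁ V j := funext fun j => (hV j).2
  have hVa : ∀ j, IsAffineOpen (V j) := fun j => (hV j).1
  -- apply the affine lemma to each `j`
  have key : ∀ j : J, ∃ k : Over i, ∀ (k' : Over i) (_ : k' ⟶ k),
      IsClosedImmersion (pullback.lift (f.resLE (T j) (c.π.app i ⁻¹ᵁ V j) (hUT j))
        ((opensCone D c i (V j)).π.app k') (toZ_ext _ _) :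
        (opensCone D c i (V j)).pt ⟶ pullback (toZ (T j : Scheme.{u}))
          (toZ ((opensDiagram D i (V j)).obj k'))) := by
    intro j
    haveI : ∀ k, IsAffine ((opensDiagram D i (V j)).obj k) := fun k => (hVa j).preimage _
    haveI : IsAffine (opensCone D c i (V j)).pt := hUa j
    haveI : IsAffine (T j : Scheme.{u}) := hTa j
    let a : (opensCone D c i (V j)).pt ⟶ (T j : Scheme.{u}) :=
      f.resLE (T j) (c.π.app i ⁻¹ᵁ V j) (hUT j)
    haveI : LocallyOfFiniteType a :=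
      inferInstanceAs (LocallyOfFiniteType
        (Scheme.Hom.resLE (X := c.pt) f (T j) (c.π.app i ⁻¹ᵁ V j) (hUT j)))
    exact exists_isClosedImmersion_lift (opensDiagram D i (V j)) (opensCone D c i (V j))
      (isLimitOpensCone D c hc i (V j)) a
  choose kj hkj using key
  cases nonempty_fintype J
  obtain ⟨k₀, hk₀⟩ := IsCofiltered.inf_objs_exists (Finset.univ.image kj)
  have u : ∀ j, k₀ ⟶ kj j := fun j => (hk₀ (Finset.mem_image_of_mem kj (Finset.mem_univ j))).some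
  -- the new stage
  have hUV : ∀ j, c.π.app i ⁻¹ᵁ V j ≤ c.π.app k₀.left ⁻¹ᵁ (D.map k₀.hom ⁻¹ᵁ V j) := by
    intro j
    rw [← Scheme.Hom.comp_preimage, c.w]
  have hm : ∀ j, IsClosedImmersion (prodLiftRes f (c.π.app k₀.left) (c.π.app i ⁻¹ᵁ V j) (T j)
      (D.map k₀.hom ⁻¹ᵁ V j) (hUT j) (hUV j)) := fun j => hkj j k₀ (u j)
  have hsq : ∀ j, IsPullback (prodLiftRes f (c.π.app k₀.left) (c.π.app i ⁻¹ᵁ V j) (T j)
      (D.map k₀.hom ⁻¹ᵁ V j) (hUT j) (hUV j)) (c.π.app i ⁻¹ᵁ V j).ι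
      (prodOpen (T j) (D.map k₀.hom ⁻¹ᵁ V j)) (prodLift f (c.π.app k₀.left)) := by
    intro j
    apply prodLift_isPullback
    rw [← Scheme.Hom.comp_preimage, c.w]
    exact (inf_eq_right.mpr (hUT j)).symm
  have hr : Set.range (prodLift f (c.π.app k₀.left)) ⊆
      ((⨆ j, (prodOpen (T j) (D.map k₀.hom ⁻¹ᵁ V j)).opensRange :
        (pullback (toZ S) (toZ (D.obj k₀.left))).Opens) : Set _) := by
    rintro _ ⟨x, rfl⟩
    have hx : x ∈ (⨆ j, c.π.app i ⁻¹ᵁ V j : c.pt.Opens) := by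
      rw [show (⨆ j, c.π.app i ⁻¹ᵁ V j : c.pt.Opens) = ⊤ from hU]
      trivial
    obtain ⟨j, hj⟩ := TopologicalSpace.Opens.mem_iSup.mp hx
    refine TopologicalSpace.Opens.mem_iSup.mpr ⟨j, ?_⟩
    have h1 := congrArg (fun g => g.base ⟨x, hj⟩) (hsq j).w
    simp only [Scheme.Hom.comp_base, TopCat.comp_app] at h1
    refine ⟨(prodLiftRes f (c.π.app k₀.left) (c.π.app i ⁻¹ᵁ V j) (T j)
      (D.map k₀.hom ⁻¹ᵁ V j) (hUT j) (hUV j)).base ⟨x, hj⟩, ?_⟩
    exact h1
  refine ⟨k₀.left, ⨆ j, (prodOpen (T j) (D.map k₀.hom ⁻¹ᵁ V j)).opensRange, by simpa using hr,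
    ?_, ?_⟩
  · rw [TopologicalSpace.Opens.coe_iSup]
    refine isCompact_iUnion fun j => ?_
    haveI : IsAffine (T j : Scheme.{u}) := hTa j
    haveI : IsAffine ((D.map k₀.hom ⁻¹ᵁ V j : (D.obj k₀.left).Opens) : Scheme.{u}) :=
      (hVa j).preimage _
    exact isCompact_range (prodOpen (T j) (D.map k₀.hom ⁻¹ᵁ V j)).continuous
  · exact lift_of_isPullback (P := @IsClosedImmersion) (prodLift f (c.π.app k₀.left))
      (fun j => prodOpen (T j) (D.map k₀.hom ⁻¹ᵁ V j)) (fun j => (c.π.app i ⁻¹ᵁ V j).ι) _ hsq hm hr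

end Core

end Groth.Agent.H5.NApprox
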