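import Mathlib
import Groth.Agent.Lib.Helper5.NApprox.ImmB

/-!
# Immersions into finitely presented schemes (Stacks 09ZP, 09ZQ) (helper5)
-/

set_option autoImplicit false

namespace Groth.Agent.H5.NApprox

open AlgebraicGeometry CategoryTheory Opposite Limits

universe u

theorem exists_fp_core {X S : Scheme.{u}} (f : X ⟶ S) [LocallyOfFiniteType f]
    [CompactSpace X] [QuasiSeparatedSpace X] :
    ∃ (Y : Scheme.{u}) (_ : CompactSpace Y) (_ : LocallyOfFiniteType (toZ Y))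
      (W : (pullback (toZ S) (toZ Y)).Opens) (g : X ⟶ (W : Scheme.{u})),
      IsCompact (W : Set (pullback (toZ S) (toZ Y) : Scheme.{u})) ∧ IsClosedImmersion g ∧
        g ≫ W.ι ≫ pullback.fst (toZ S) (toZ Y) = f := by
  obtain ⟨I, pI, dI, nI, D, c, hc, haff, hft, ⟨e⟩⟩ := absApprox X
  haveI : ∀ {i j : Iᵒᵖ} (f : i ⟶ j), IsAffineHom (D.map f) := fun f => haff _ _ f
  haveI : ∀ i, CompactSpace (D.obj i) := fun i => (hft i).1
  haveI : ∀ i, LocallyOfFiniteType (toZ (D.obj i)) := fun i => (hft i).2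
  obtain ⟨i, W, hW, hWc, hcl⟩ := exists_closedImmersion_core D c hc (e.hom ≫ f)
  refine ⟨D.obj i, inferInstance, inferInstance, W,
    e.inv ≫ IsOpenImmersion.lift W.ι (prodLift (e.hom ≫ f) (c.π.app i)) hW, hWc,
    inferInstance, ?_⟩
  rw [Category.assoc, IsOpenImmersion.lift_fac_assoc, pullback.lift_fst, Iso.inv_hom_id_assoc]

theorem fst_props (S Y : Scheme.{u}) [CompactSpace Y] [LocallyOfFiniteType (toZ Y)] :
    LocallyOfFinitePresentation (pullback.fst (toZ S) (toZ Y)) ∧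
      QuasiCompact (pullback.fst (toZ S) (toZ Y)) ∧
      QuasiSeparated (pullback.fst (toZ S) (toZ Y)) := by
  haveI : QuasiSeparatedSpace Y := quasiSeparatedSpace_of_lft Y
  haveI : LocallyOfFinitePresentation (toZ Y) := inferInstance
  haveI : QuasiCompact (toZ Y) := inferInstance
  haveI : QuasiSeparated (toZ Y) := inferInstance
  exact ⟨inferInstance, inferInstance, inferInstance⟩

/-- Stacks 09ZP. -/
theorem exists_immersion_fp {X S : Scheme.{u}} (f : X ⟶ S) [LocallyOfFiniteType f]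
    [CompactSpace X] [QuasiSeparatedSpace X] :
    ∃ (X' : Scheme.{u}) (f' : X' ⟶ S) (j : X ⟶ X'), LocallyOfFinitePresentation f' ∧
      QuasiCompact f' ∧ QuasiSeparated f' ∧ IsImmersion j ∧ j ≫ f' = f := by
  obtain ⟨Y, hY, hY', W, g, hWc, hg, hgf⟩ := exists_fp_core f
  obtain ⟨h1, h2, h3⟩ := fst_props S Y
  refine ⟨pullback (toZ S) (toZ Y), pullback.fst _ _, g ≫ W.ι, h1, h2, h3, inferInstance, ?_⟩
  rw [Category.assoc, hgf]

/-- Stacks 09ZQ. -/
theorem exists_closedImmersion_fp {X S : Scheme.{u}} (f : X ⟶ S) [LocallyOfFiniteType f]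
    [CompactSpace X] [QuasiSeparatedSpace X] [QuasiSeparatedSpace S] :
    ∃ (X' : Scheme.{u}) (f' : X' ⟶ S) (j : X ⟶ X'), LocallyOfFinitePresentation f' ∧
      QuasiCompact f' ∧ QuasiSeparated f' ∧ IsClosedImmersion j ∧ j ≫ f' = f := by
  obtain ⟨Y, hY, hY', W, g, hWc, hg, hgf⟩ := exists_fp_core f
  obtain ⟨h1, h2, h3⟩ := fst_props S Y
  haveI : CompactSpace (W : Scheme.{u}) := isCompact_iff_compactSpace.mp hWc
  refine ⟨W, W.ι ≫ pullback.fst _ _, g, inferInstance, inferInstance, inferInstance, hg, hgf⟩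

end Groth.Agent.H5.NApprox
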