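import Mathlib
import Groth.Agent.Lib.Helper5.NApprox.ImmC

/-!
# Descending affineness along a limit of schemes over a fixed base (helper5)
-/

set_option autoImplicit false

namespace Groth.Agent.H5.NApprox

open AlgebraicGeometry CategoryTheory Opposite Limits

universe u

theorem quasiSeparatedSpace_preimage {Y X : Scheme.{u}} (h : Y ⟶ X) [QuasiSeparated h]
    (U : X.Opens) (hU : IsAffineOpen U) : QuasiSeparatedSpace ((h ⁻¹ᵁ U : Y.Opens) : Scheme.{u}) := by
  haveI : IsAffine (U : Scheme.{u}) := hU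
  haveI : QuasiSeparated (h ∣_ U) :=
    IsZariskiLocalAtTarget.restrict (P := @QuasiSeparated) ‹_› _
  exact quasiSeparatedSpace_of_quasiSeparated (h ∣_ U)

theorem compactSpace_preimage {Y X : Scheme.{u}} (h : Y ⟶ X) [QuasiCompact h]
    (U : X.Opens) (hU : IsCompact (U : Set X)) : CompactSpace ((h ⁻¹ᵁ U : Y.Opens) : Scheme.{u}) :=
  isCompact_iff_compactSpace.mp (h.isCompact_preimage hU)

section RelSys

variable {I : Type u} [Preorder I] [IsDirected I (· ≤ ·)] [Nonempty I] {X : Scheme.{u}}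
  (D : Iᵒᵖ ⥤ Over X) (c : Cone D) (hc : IsLimit c)

/-- the underlying cone of schemes of a limit cone in `Over X` is a limit cone -/
noncomputable def isLimitForget : IsLimit ((Over.forget X).mapCone c) := by
  haveI : IsConnected Iᵒᵖ := IsCofiltered.isConnected _
  exact isLimitOfPreserves (Over.forget X) hc

theorem forget_π_hom (i : Iᵒᵖ) :
    ((Over.forget X).mapCone c).π.app i ≫ (D.obj i).hom = c.pt.hom :=
  Over.w (c.π.app i)

theorem forget_map_hom {i j : Iᵒᵖ} (a : i ⟶ j) :
    (D ⋙ Over.forget X).map a ≫ (D.obj j).hom = (D.obj i).hom :=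
  Over.w (D.map a)

include hc in
/-- If the limit is affine over the (quasi-compact) base, so are all sufficiently late stages. -/
theorem exists_isAffineHom_stage [CompactSpace X]
    (haff : ∀ (i j : Iᵒᵖ) (a : i ⟶ j), IsAffineHom (D.map a).left)
    (hqc : ∀ i, QuasiCompact (D.obj i).hom) (hqs : ∀ i, QuasiSeparated (D.obj i).hom)
    [IsAffineHom c.pt.hom] :
    ∃ i₀ : I, ∀ i, i₀ ≤ i → IsAffineHom (D.obj (op i)).hom := by
  classical
  haveI : ∀ {i j : Iᵒᵖ} (a : i ⟶ j), IsAffineHom ((D ⋙ Over.forget X).map a) :=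
    fun a => haff _ _ a
  obtain ⟨J, hJ, U, -, hU, hUa, -, -⟩ := exists_finite_affine_cover (𝟙 X)
  obtain ⟨i₁⟩ := ‹Nonempty I›
  -- for each `j`, a stage where the preimage of `U j` is affine
  have hw : ∀ {i j : Iᵒᵖ} (a : i ⟶ j), (D.map a).left ≫ (D.obj j).hom = (D.obj i).hom :=
    fun a => Over.w (D.map a)
  have key : ∀ j : J, ∃ k : Over (op i₁), IsAffineOpen ((D.obj k.left).hom ⁻¹ᵁ U j) := by
    intro j
    let V : ((D ⋙ Over.forget X).obj (op i₁)).Opens := (D.obj (op i₁)).hom ⁻¹ᵁ U j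
    have hVk : ∀ k : Over (op i₁), (D ⋙ Over.forget X).map k.hom ⁻¹ᵁ V =
        (D.obj k.left).hom ⁻¹ᵁ U j := by
      intro k
      show (D.map k.hom).left ⁻¹ᵁ ((D.obj (op i₁)).hom ⁻¹ᵁ U j) = _
      rw [← Scheme.Hom.comp_preimage, hw]
    haveI : ∀ k, CompactSpace ((opensDiagram (D ⋙ Over.forget X) (op i₁) V).obj k) := by
      intro k
      haveI := hqc k.left
      show CompactSpace ((D ⋙ Over.forget X).map k.hom ⁻¹ᵁ V : Scheme.{u})
      rw [hVk k]
      exact compactSpace_preimage (D.obj k.left).hom (U j) (hUa j).isCompact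
    haveI : ∀ k, QuasiSeparatedSpace ((opensDiagram (D ⋙ Over.forget X) (op i₁) V).obj k) := by
      intro k
      haveI := hqs k.left
      show QuasiSeparatedSpace ((D ⋙ Over.forget X).map k.hom ⁻¹ᵁ V : Scheme.{u})
      rw [hVk k]
      exact quasiSeparatedSpace_preimage (D.obj k.left).hom (U j) (hUa j)
    haveI : IsAffine (opensCone (D ⋙ Over.forget X) ((Over.forget X).mapCone c) (op i₁) V).pt := by
      show IsAffineOpen ((c.π.app (op i₁)).left ⁻¹ᵁ ((D.obj (op i₁)).hom ⁻¹ᵁ U j))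
      rw [← Scheme.Hom.comp_preimage, Over.w (c.π.app (op i₁))]
      exact IsAffineOpen.preimage (hUa j) c.pt.hom
    obtain ⟨k, hk⟩ := Scheme.exists_isAffine_of_isLimit _ _
      (isLimitOpensCone (D ⋙ Over.forget X) ((Over.forget X).mapCone c)
        (isLimitForget D c hc) (op i₁) V)
    refine ⟨k, ?_⟩
    rw [← hVk k]
    exact hk
  choose kj hkj using key
  cases nonempty_fintype J
  obtain ⟨k₀, hk₀⟩ := IsCofiltered.inf_objs_exists (Finset.univ.image kj)
  have u : ∀ j, k₀ ⟶ kj j := fun j => (hk₀ (Finset.mem_image_of_mem kj (Finset.mem_univ j))).some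
  refine ⟨k₀.left.unop, fun i hi => ?_⟩
  apply isAffineHom_of_forall_exists_isAffineOpen
  intro x
  have hx : x ∈ (⨆ j, U j : X.Opens) := by
    rw [show (⨆ j, U j : X.Opens) = ⊤ from hU]
    trivial
  obtain ⟨j, hj⟩ := TopologicalSpace.Opens.mem_iSup.mp hx
  refine ⟨U j, hj, hUa j, ?_⟩
  let a : op i ⟶ (kj j).left := (homOfLE hi).op ≫ (u j).left
  have h1 : (D.obj (op i)).hom ⁻¹ᵁ U j = (D.map a).left ⁻¹ᵁ ((D.obj (kj j).left).hom ⁻¹ᵁ U j) := by
    rw [← Scheme.Hom.comp_preimage, hw]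
  rw [h1]
  haveI := haff _ _ a
  exact IsAffineOpen.preimage (hkj j) (D.map a).left

end RelSys

section Restrict

variable {I : Type u} [Preorder I] [IsDirected I (· ≤ ·)] (i₀ : I)

/-- the upper set of `i₀` -/
abbrev Ge : Type u := {i : I // i₀ ≤ i}

instance : Nonempty (Ge i₀) := ⟨⟨i₀, le_rfl⟩⟩

instance : IsDirected (Ge i₀) (· ≤ ·) :=
  ⟨fun a b => by
    obtain ⟨k, h1, h2⟩ := exists_ge_ge a.1 b.1
    exact ⟨⟨k, a.2.trans h1⟩, h1, h2⟩⟩

/-- the inclusion of the upper set -/
def geIncl : Ge i₀ →o I := ⟨Subtype.val, fun _ _ h => h⟩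

theorem geIncl_final : (geIncl i₀).monotone.functor.Final := by
  haveI : Nonempty I := ⟨i₀⟩
  apply Functor.final_of_exists_of_isFiltered
  · intro a
    obtain ⟨k, h1, h2⟩ := exists_ge_ge a i₀
    exact ⟨⟨k, h2⟩, ⟨homOfLE h1⟩⟩
  · intro d c s s'
    exact ⟨c, 𝟙 _, Subsingleton.elim _ _⟩

/-- restricting a limit cone to an upper set -/
noncomputable def isLimitRestrictGe {C : Type*} [Category C] {D : Iᵒᵖ ⥤ C} {c : Cone D}
    (hc : IsLimit c) :
    IsLimit (c.whisker (geIncl i₀).monotone.functor.op) := by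
  haveI := geIncl_final i₀
  exact (Functor.Initial.isLimitWhiskerEquiv (geIncl i₀).monotone.functor.op c).symm hc

end Restrict

section AffineIff

/-- A cofiltered limit (in `Over X`) of schemes affine over `X` is affine over `X`. -/
theorem isAffineHom_of_isLimit_over {K : Type u} [SmallCategory K] [IsCofiltered K]
    {X : Scheme.{u}} (D : K ⥤ Over X) (c : Cone D) (hc : IsLimit c)
    (h : ∀ k, IsAffineHom (D.obj k).hom) : IsAffineHom c.pt.hom := by
  haveI : IsConnected K := IsCofiltered.isConnected _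
  have hc₀ : IsLimit ((Over.forget X).mapCone c) := isLimitOfPreserves (Over.forget X) hc
  haveI : ∀ {i j : K} (a : i ⟶ j), IsAffineHom ((D ⋙ Over.forget X).map a) := by
    intro i j a
    show IsAffineHom (D.map a).left
    haveI := h j
    haveI : IsSeparated (D.obj j).hom := IsSeparated.of_isAffineHom _
    haveI : IsAffineHom ((D.map a).left ≫ (D.obj j).hom) := by
      rw [Over.w (D.map a)]
      exact h i
    exact IsAffineHom.of_comp (D.map a).left (D.obj j).hom
  obtain ⟨k⟩ := IsCofiltered.nonempty (C := K)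
  have h1 : IsAffineHom (((Over.forget X).mapCone c).π.app k) :=
    isAffineHom_π_app (D ⋙ Over.forget X) _ hc₀ k
  have h2 : IsAffineHom (c.π.app k).left := h1
  haveI := h k
  have h3 : c.pt.hom = (c.π.app k).left ≫ (D.obj k).hom := (Over.w (c.π.app k)).symm
  rw [h3]
  infer_instance

/-- Stacks 09MV-type characterisation: for qcqs schemes, `f : Y ⟶ X` is affine iff `Y` is a
filtered limit of `X`-schemes affine and of finite presentation over `X`. -/
theorem isAffineHom_iff_isLimit {X Y : Scheme.{u}} (f : Y ⟶ X)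
    [CompactSpace X] [QuasiSeparatedSpace X] [CompactSpace Y] [QuasiSeparatedSpace Y] :
    IsAffineHom f ↔
      ∃ (I : Type u) (_ : SmallCategory I) (_ : IsFiltered I) (D : Iᵒᵖ ⥤ Over X)
        (c : Limits.Cone D) (_ : Limits.IsLimit c),
        (∀ i, IsAffineHom (D.obj i).hom ∧ LocallyOfFinitePresentation (D.obj i).hom) ∧
        Nonempty (c.pt ≅ Over.mk f) := by
  constructor
  · intro hf
    obtain ⟨I, pI, dI, nI, D, c, hc, hprops, haff, ⟨e⟩⟩ := relApproxOver f
    haveI : IsAffineHom c.pt.hom := by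
      have : c.pt.hom = e.hom.left ≫ f := (Over.w e.hom).symm
      rw [this]
      infer_instance
    obtain ⟨i₀, hi₀⟩ := exists_isAffineHom_stage D c hc haff (fun i => (hprops i).2.1)
      (fun i => (hprops i).2.2)
    refine ⟨Ge i₀, inferInstance, inferInstance, (geIncl i₀).monotone.functor.op ⋙ D,
      c.whisker (geIncl i₀).monotone.functor.op, isLimitRestrictGe i₀ hc, ?_, ⟨e⟩⟩
    intro i
    exact ⟨hi₀ i.unop.1 i.unop.2, (hprops _).1⟩
  · rintro ⟨I, cI, fI, D, c, hc, hprops, ⟨e⟩⟩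
    haveI := isAffineHom_of_isLimit_over D c hc (fun k => (hprops k).1)
    have : f = e.inv.left ≫ c.pt.hom := (Over.w e.inv).symm
    rw [this]
    infer_instance

end AffineIff

end Groth.Agent.H5.NApprox
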