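import Mathlib
import Groth.Agent.Lib.Helper5.NApprox.LimAff

/-!
# Descending closed immersions: `X ⟶ X_i` is a closed immersion for large `i` when `X/S` is
locally of finite type (helper5)
-/

set_option autoImplicit false

namespace Groth.Agent.H5.NApprox

open AlgebraicGeometry CategoryTheory Opposite Limits

universe u

/-- A morphism of affine schemes `p : A ⟶ E` over `T` is a closed immersion as soon as a set of
generators of `Γ(A)` over `Γ(T)` lies in the range of `p` on global sections. -/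
theorem isClosedImmersion_of_generators {A E T : Scheme.{u}} [IsAffine A] [IsAffine E]
    (p : A ⟶ E) (b : E ⟶ T) (G : Set Γ(A, ⊤))
    (hG : letI := (p ≫ b).appTop.hom.toAlgebra; Algebra.adjoin Γ(T, ⊤) G = ⊤)
    (hp : ∀ g ∈ G, g ∈ Set.range p.appTop.hom) : IsClosedImmersion p := by
  letI := (p ≫ b).appTop.hom.toAlgebra
  apply IsClosedImmersion.of_surjective_of_isAffine
  intro x
  have hx : x ∈ Algebra.adjoin Γ(T, ⊤) G := by
    rw [hG]
    trivial
  induction hx using Algebra.adjoin_induction with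
  | mem g hg => exact hp g hg
  | algebraMap r =>
    refine ⟨b.appTop r, ?_⟩
    have e1 : b.appTop ≫ p.appTop = (p ≫ b).appTop := (Scheme.Hom.comp_appTop _ _).symm
    exact ConcreteCategory.congr_hom e1 r
  | add x y _ _ hx hy =>
    obtain ⟨x', rfl⟩ := hx
    obtain ⟨y', rfl⟩ := hy
    exact ⟨x' + y', map_add _ _ _⟩
  | mul x y _ _ hx hy =>
    obtain ⟨x', rfl⟩ := hx
    obtain ⟨y', rfl⟩ := hy
    exact ⟨x' * y', map_mul _ _ _⟩

section AffStage

variable {K : Type u} [Category.{u} K] [IsCofiltered K] (E : K ⥤ Scheme.{u})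
  [∀ {i j : K} (f : i ⟶ j), IsAffineHom (E.map f)]
  [∀ k, IsAffine (E.obj k)]
  (cE : Cone E) (hcE : IsLimit cE) [IsAffine cE.pt]
  {T : Scheme.{u}} (t : ∀ k, E.obj k ⟶ T) (f : cE.pt ⟶ T) (hf : ∀ k, cE.π.app k ≫ t k = f)

include hcE hf in
/-- affine version: if the limit is of finite type over `T`, the projections to late stages are
closed immersions. -/
theorem exists_isClosedImmersion_π [LocallyOfFiniteType f] [IsAffine T] :
    ∃ k : K, ∀ (k' : K) (_ : k' ⟶ k), IsClosedImmersion (cE.π.app k') := by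
  classical
  have hft' : RingHom.FiniteType f.appTop.hom :=
    (HasRingHomProperty.iff_of_isAffine (P := @LocallyOfFiniteType)).mp inferInstance
  obtain ⟨G, hG⟩ := (show @Algebra.FiniteType _ _ _ _ f.appTop.hom.toAlgebra from hft').out
  obtain ⟨k, hk⟩ := exists_mem_range_appTop E cE hcE G
  refine ⟨k, fun k' u => ?_⟩
  have h1 : IsClosedImmersion (show cE.pt ⟶ E.obj k' from cE.π.app k') := by
    apply isClosedImmersion_of_generators (show cE.pt ⟶ E.obj k' from cE.π.app k') (t k')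
      (G : Set Γ(cE.pt, ⊤))
    · have e : (show cE.pt ⟶ E.obj k' from cE.π.app k') ≫ t k' = f := hf k'
      rw [e]
      exact hG
    · intro g hg
      exact hk g hg k' u
  exact h1

end AffStage

section RelCI

variable {I : Type u} [Preorder I] [IsDirected I (· ≤ ·)] [Nonempty I] {S : Scheme.{u}}
  (D : Iᵒᵖ ⥤ Over S) (c : Cone D) (hc : IsLimit c)

include hc in
/-- Stacks 0CNG-type: if `X = lim X_i` over `S` with affine transitions, `X_i` quasi-compact and
`X ⟶ S` locally of finite type, then `X ⟶ X_i` is a closed immersion for all large `i`. -/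
theorem exists_isClosedImmersion_stage
    (haff : ∀ (i j : Iᵒᵖ) (a : i ⟶ j), IsAffineHom (D.map a).left)
    (hcpt : ∀ i, CompactSpace (D.obj i).left)
    [LocallyOfFiniteType c.pt.hom] :
    ∃ i₀ : I, ∀ i, i₀ ≤ i → IsClosedImmersion (c.π.app (op i)).left := by
  classical
  haveI : ∀ {i j : Iᵒᵖ} (a : i ⟶ j), IsAffineHom ((D ⋙ Over.forget S).map a) :=
    fun a => haff _ _ a
  obtain ⟨i₁⟩ := ‹Nonempty I›
  haveI := hcpt (op i₁)
  obtain ⟨J, hJ, U, T, hU, hUa, hTa, hUT⟩ := exists_finite_affine_cover (D.obj (op i₁)).hom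
  have hw : ∀ {i j : Iᵒᵖ} (a : i ⟶ j), (D.map a).left ≫ (D.obj j).hom = (D.obj i).hom :=
    fun a => Over.w (D.map a)
  have hcw : ∀ i : Iᵒᵖ, (c.π.app i).left ≫ (D.obj i).hom = c.pt.hom := fun i => Over.w (c.π.app i)
  have hc₀ := isLimitForget D c hc
  have hπaff : ∀ i : Iᵒᵖ, IsAffineHom (c.π.app i).left := fun i =>
    isAffineHom_π_app (D ⋙ Over.forget S) ((Over.forget S).mapCone c) hc₀ i
  have key : ∀ j : J, ∃ k : Over (op i₁), ∀ (k' : Over (op i₁)) (_ : k' ⟶ k),
      IsClosedImmersion ((opensCone (D ⋙ Over.forget S) ((Over.forget S).mapCone c) (op i₁)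
        (U j)).π.app k') := by
    intro j
    haveI : ∀ k, IsAffine ((opensDiagram (D ⋙ Over.forget S) (op i₁) (U j)).obj k) := by
      intro k
      haveI := haff _ _ k.hom
      exact IsAffineOpen.preimage (hUa j) (D.map k.hom).left
    haveI : IsAffine (opensCone (D ⋙ Over.forget S) ((Over.forget S).mapCone c) (op i₁)
        (U j)).pt := by
      haveI := hπaff (op i₁)
      exact IsAffineOpen.preimage (hUa j) (c.π.app (op i₁)).left
    haveI : IsAffine (T j : Scheme.{u}) := hTa j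
    have le1 : ∀ k : Over (op i₁), (D.map k.hom).left ⁻¹ᵁ U j ≤ (D.obj k.left).hom ⁻¹ᵁ T j := by
      intro k
      refine le_trans (Scheme.Hom.preimage_mono _ (hUT j)) ?_
      rw [← Scheme.Hom.comp_preimage, hw]
    have le2 : (c.π.app (op i₁)).left ⁻¹ᵁ U j ≤ c.pt.hom ⁻¹ᵁ T j := by
      refine le_trans (Scheme.Hom.preimage_mono _ (hUT j)) ?_
      rw [← Scheme.Hom.comp_preimage, hcw]
    let t : ∀ k : Over (op i₁), (opensDiagram (D ⋙ Over.forget S) (op i₁) (U j)).obj k ⟶
        (T j : Scheme.{u}) := fun k => (D.obj k.left).hom.resLE (T j) _ (le1 k)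
    let f : (opensCone (D ⋙ Over.forget S) ((Over.forget S).mapCone c) (op i₁) (U j)).pt ⟶
        (T j : Scheme.{u}) := c.pt.hom.resLE (T j) _ le2
    haveI : LocallyOfFiniteType f :=
      inferInstanceAs (LocallyOfFiniteType (Scheme.Hom.resLE (X := c.pt.left) c.pt.hom (T j)
        ((c.π.app (op i₁)).left ⁻¹ᵁ U j) le2))
    refine exists_isClosedImmersion_π (opensDiagram (D ⋙ Over.forget S) (op i₁) (U j))
      (opensCone (D ⋙ Over.forget S) ((Over.forget S).mapCone c) (op i₁) (U j))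
      (isLimitOpensCone (D ⋙ Over.forget S) ((Over.forget S).mapCone c) hc₀ (op i₁) (U j))
      t f ?_
    intro k
    rw [← cancel_mono (T j).ι]
    show ((c.π.app k.left).left.resLE _ _ _ ≫ (D.obj k.left).hom.resLE (T j) _ (le1 k)) ≫ (T j).ι =
      c.pt.hom.resLE (T j) _ le2 ≫ (T j).ι
    rw [Category.assoc, Scheme.Hom.resLE_comp_ι, Scheme.Hom.resLE_comp_ι_assoc,
      Scheme.Hom.resLE_comp_ι, hcw]
  choose kj hkj using key
  cases nonempty_fintype J
  obtain ⟨k₀, hk₀⟩ := IsCofiltered.inf_objs_exists (Finset.univ.image kj)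
  have u : ∀ j, k₀ ⟶ kj j := fun j => (hk₀ (Finset.mem_image_of_mem kj (Finset.mem_univ j))).some
  refine ⟨k₀.left.unop, fun i hi => ?_⟩
  let a : op i ⟶ op i₁ := (homOfLE hi).op ≫ k₀.hom
  let k' : Over (op i₁) := Over.mk a
  have v : ∀ j, k' ⟶ kj j := fun j =>
    Over.homMk ((homOfLE hi).op ≫ (u j).left) (Subsingleton.elim _ _)
  have hcov : (⨆ j, (D.map a).left ⁻¹ᵁ U j : (D.obj (op i)).left.Opens) = ⊤ := by
    rw [← Scheme.Hom.preimage_iSup, show (⨆ j, U j : (D.obj (op i₁)).left.Opens) = ⊤ from hU]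
    rfl
  apply IsZariskiLocalAtTarget.of_iSup_eq_top (P := @IsClosedImmersion)
    (fun j => (D.map a).left ⁻¹ᵁ U j) hcov
  intro j
  have h1 : IsClosedImmersion ((c.π.app (op i)).left.resLE ((D.map a).left ⁻¹ᵁ U j)
      ((c.π.app (op i₁)).left ⁻¹ᵁ U j) (by
        rw [← Scheme.Hom.comp_preimage]
        exact (congrArg (fun g : c.pt.left ⟶ (D.obj (op i₁)).left => g ⁻¹ᵁ U j)
          (congrArg CommaMorphism.left (c.w a)).symm).le)) := hkj j k' (v j)
  have heq : (c.π.app (op i₁)).left ⁻¹ᵁ U j = (c.π.app (op i)).left ⁻¹ᵁ ((D.map a).left ⁻¹ᵁ U j) := by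
    rw [← Scheme.Hom.comp_preimage]
    exact congrArg (fun g : c.pt.left ⟶ (D.obj (op i₁)).left => g ⁻¹ᵁ U j)
      (congrArg CommaMorphism.left (c.w a)).symm
  rw [← Scheme.Hom.resLE_eq_morphismRestrict]
  exact (Scheme.Hom.resLE_congr (c.π.app (op i)).left _ rfl heq @IsClosedImmersion).mp h1

end RelCI

end Groth.Agent.H5.NApprox
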