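import Mathlib
import Groth.Agent.Lib.Helper5.NApprox.LimCI

/-!
# Self fibre products of a limit system (helper5)
-/

set_option autoImplicit false

namespace Groth.Agent.H5.NApprox

open AlgebraicGeometry CategoryTheory Opposite Limits

universe u

section SelfProd

variable {K : Type u} [Category.{u} K] (E : K ⥤ Scheme.{u}) {B : Scheme.{u}}
  (t : ∀ k, E.obj k ⟶ B) (ht : ∀ {k k' : K} (a : k ⟶ k'), E.map a ≫ t k' = t k)
  (cE : Cone E) (f : cE.pt ⟶ B) (hf : ∀ k, cE.π.app k ≫ t k = f)

/-- transition maps of the self fibre products -/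
noncomputable def sqT {k k' : K} (a : k ⟶ k') :
    pullback (t k) (t k) ⟶ pullback (t k') (t k') :=
  pullback.map (t k) (t k) (t k') (t k') (E.map a) (E.map a) (𝟙 B)
    (by rw [Category.comp_id, ht]) (by rw [Category.comp_id, ht])

@[reassoc (attr := simp)]
theorem sqT_fst {k k' : K} (a : k ⟶ k') :
    sqT E t ht a ≫ pullback.fst _ _ = pullback.fst _ _ ≫ E.map a :=
  pullback.lift_fst _ _ _

@[reassoc (attr := simp)]
theorem sqT_snd {k k' : K} (a : k ⟶ k') :
    sqT E t ht a ≫ pullback.snd _ _ = pullback.snd _ _ ≫ E.map a :=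
  pullback.lift_snd _ _ _

/-- the system of self fibre products `E_k ×_B E_k` -/
noncomputable def sqD : K ⥤ Scheme.{u} where
  obj k := pullback (t k) (t k)
  map a := sqT E t ht a
  map_id k := by
    apply pullback.hom_ext <;> simp
  map_comp a b := by
    apply pullback.hom_ext <;> simp

/-- projections from `X ×_B X` -/
noncomputable def sqπ (k : K) : pullback f f ⟶ pullback (t k) (t k) :=
  pullback.map f f (t k) (t k) (cE.π.app k) (cE.π.app k) (𝟙 B)
    (by rw [Category.comp_id, hf]) (by rw [Category.comp_id, hf])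

@[reassoc (attr := simp)]
theorem sqπ_fst (k : K) :
    sqπ E t cE f hf k ≫ pullback.fst _ _ = pullback.fst _ _ ≫ cE.π.app k :=
  pullback.lift_fst _ _ _

@[reassoc (attr := simp)]
theorem sqπ_snd (k : K) :
    sqπ E t cE f hf k ≫ pullback.snd _ _ = pullback.snd _ _ ≫ cE.π.app k :=
  pullback.lift_snd _ _ _

/-- the cone `X ×_B X` over the system of self fibre products -/
noncomputable def sqCone : Cone (sqD E t ht) where
  pt := pullback f f
  π :=
    { app := fun k => sqπ E t cE f hf k
      naturality := by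
        intro k k' a
        apply pullback.hom_ext
        · simp [sqD]
        · simp [sqD] }

/-- typed components of a cone over `sqD` -/
noncomputable def sqσ (s : Cone (sqD E t ht)) (k : K) : s.pt ⟶ pullback (t k) (t k) := s.π.app k

theorem sqσ_w (s : Cone (sqD E t ht)) {k k' : K} (a : k ⟶ k') :
    sqσ E t ht s k ≫ sqT E t ht a = sqσ E t ht s k' :=
  s.w a

/-- first components -/
noncomputable def sqCone₁ (s : Cone (sqD E t ht)) : Cone E where
  pt := s.pt
  π :=
    { app := fun k => sqσ E t ht s k ≫ pullback.fst (t k) (t k)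
      naturality := by
        intro k k' a
        simp only [Functor.const_obj_obj, Functor.const_obj_map, Category.id_comp]
        rw [← sqσ_w E t ht s a, Category.assoc, sqT_fst, Category.assoc] }

/-- second components -/
noncomputable def sqCone₂ (s : Cone (sqD E t ht)) : Cone E where
  pt := s.pt
  π :=
    { app := fun k => sqσ E t ht s k ≫ pullback.snd (t k) (t k)
      naturality := by
        intro k k' a
        simp only [Functor.const_obj_obj, Functor.const_obj_map, Category.id_comp]
        rw [← sqσ_w E t ht s a, Category.assoc, sqT_snd, Category.assoc] }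

variable (hcE : IsLimit cE)

/-- first lift -/
noncomputable def sqL₁ (s : Cone (sqD E t ht)) : s.pt ⟶ cE.pt := hcE.lift (sqCone₁ E t ht s)

/-- second lift -/
noncomputable def sqL₂ (s : Cone (sqD E t ht)) : s.pt ⟶ cE.pt := hcE.lift (sqCone₂ E t ht s)

theorem sqL₁_π (s : Cone (sqD E t ht)) (k : K) :
    sqL₁ E t ht cE hcE s ≫ cE.π.app k = sqσ E t ht s k ≫ pullback.fst (t k) (t k) :=
  hcE.fac (sqCone₁ E t ht s) k

theorem sqL₂_π (s : Cone (sqD E t ht)) (k : K) :
    sqL₂ E t ht cE hcE s ≫ cE.π.app k = sqσ E t ht s k ≫ pullback.snd (t k) (t k) :=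
  hcE.fac (sqCone₂ E t ht s) k

include hf in
theorem sqL_comm [Nonempty K] (s : Cone (sqD E t ht)) :
    sqL₁ E t ht cE hcE s ≫ f = sqL₂ E t ht cE hcE s ≫ f := by
  obtain ⟨k⟩ := ‹Nonempty K›
  rw [← hf k, ← Category.assoc, ← Category.assoc, sqL₁_π, sqL₂_π, Category.assoc, Category.assoc,
    pullback.condition]

/-- the lift into `X ×_B X` -/
noncomputable def sqLift [Nonempty K] (s : Cone (sqD E t ht)) : s.pt ⟶ pullback f f :=
  pullback.lift (sqL₁ E t ht cE hcE s) (sqL₂ E t ht cE hcE s) (sqL_comm E t ht cE f hf hcE s)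

theorem sqLift_fac [Nonempty K] (s : Cone (sqD E t ht)) (k : K) :
    sqLift E t ht cE f hf hcE s ≫ sqπ E t cE f hf k = sqσ E t ht s k := by
  apply pullback.hom_ext
  · rw [Category.assoc, sqπ_fst, sqLift, pullback.lift_fst_assoc, sqL₁_π]
  · rw [Category.assoc, sqπ_snd, sqLift, pullback.lift_snd_assoc, sqL₂_π]

theorem sqLift_uniq [Nonempty K] (s : Cone (sqD E t ht)) (m : s.pt ⟶ pullback f f)
    (hm : ∀ k, m ≫ sqπ E t cE f hf k = sqσ E t ht s k) :
    m = sqLift E t ht cE f hf hcE s := by
  apply pullback.hom_ext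
  · rw [sqLift, pullback.lift_fst]
    apply hcE.hom_ext
    intro k
    rw [sqL₁_π, ← hm k, Category.assoc, Category.assoc, sqπ_fst]
  · rw [sqLift, pullback.lift_snd]
    apply hcE.hom_ext
    intro k
    rw [sqL₂_π, ← hm k, Category.assoc, Category.assoc, sqπ_snd]

/-- `X ×_B X` is the limit of the `E_k ×_B E_k`. -/
noncomputable def sqIsLimit [Nonempty K] : IsLimit (sqCone E t ht cE f hf) where
  lift s := sqLift E t ht cE f hf hcE s
  fac s k := sqLift_fac E t ht cE f hf hcE s k
  uniq s m hm := sqLift_uniq E t ht cE f hf hcE s m hm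

/-- compatibility of diagonals with transitions -/
theorem diag_sqT {k k' : K} (a : k ⟶ k') :
    pullback.diagonal (t k) ≫ sqT E t ht a = E.map a ≫ pullback.diagonal (t k') := by
  apply pullback.hom_ext <;> simp

/-- compatibility of diagonals with projections -/
theorem diag_sqπ (k : K) :
    pullback.diagonal f ≫ sqπ E t cE f hf k = cE.π.app k ≫ pullback.diagonal (t k) := by
  apply pullback.hom_ext <;> simp

end SelfProd

end Groth.Agent.H5.NApprox
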