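import Mathlib
import Groth.Agent.Lib.Helper5.NApprox.LimSepA

/-!
# The boundary of the diagonal along a limit system (helper5)
-/

set_option autoImplicit false

namespace Groth.Agent.H5.NApprox

open AlgebraicGeometry CategoryTheory Opposite Limits

universe u

/-- For `q : Y' ⟶ Y` separated, the diagonal of `Y'/B` is closed in the preimage of the diagonal
of `Y/B`. -/
theorem closure_diag_inter {Y' Y B : Scheme.{u}} (q : Y' ⟶ Y) [IsSeparated q] (t : Y ⟶ B) :
    closure (Set.range (pullback.diagonal (q ≫ t))) ∩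
      (pullback.map (q ≫ t) (q ≫ t) t t q q (𝟙 B) (Category.comp_id _) (Category.comp_id _)) ⁻¹'
        (Set.range (pullback.diagonal t)) ⊆ Set.range (pullback.diagonal (q ≫ t)) := by
  have hsq := pullback_map_diagonal_isPullback q q t
  set m : pullback q q ⟶ pullback (q ≫ t) (q ≫ t) :=
    pullback.map q q (q ≫ t) (q ≫ t) (𝟙 _) (𝟙 _) t (Category.id_comp _).symm
      (Category.id_comp _).symm with hm
  set τ : pullback (q ≫ t) (q ≫ t) ⟶ pullback t t :=
    pullback.map (q ≫ t) (q ≫ t) t t q q (𝟙 B) (Category.comp_id _) (Category.comp_id _) with hτ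
  haveI : IsImmersion m :=
    MorphismProperty.of_isPullback (P := @IsImmersion) hsq inferInstance
  have hr : Set.range m = τ ⁻¹' Set.range (pullback.diagonal t) := by
    have h1 : hsq.isoPullback.hom ≫ pullback.snd (pullback.diagonal t) τ = m :=
      hsq.isoPullback_hom_snd
    have hs : Function.Surjective hsq.isoPullback.hom := hsq.isoPullback.hom.surjective
    rw [← Scheme.Pullback.range_snd, ← h1, Scheme.Hom.comp_base, TopCat.coe_comp]
    exact hs.range_comp _
  have hd : pullback.diagonal (q ≫ t) = pullback.diagonal q ≫ m := by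
    apply pullback.hom_ext <;> simp [hm, pullback.lift_fst, pullback.lift_snd]
  rintro z ⟨hz1, hz2⟩
  rw [← hr] at hz2
  obtain ⟨w, rfl⟩ := hz2
  have hw : w ∈ closure (Set.range (pullback.diagonal q)) := by
    rw [m.isEmbedding.isInducing.closure_eq_preimage_closure_image]
    show m w ∈ closure (m '' Set.range (pullback.diagonal q))
    have h2 : Set.range (pullback.diagonal (q ≫ t)) = m '' Set.range (pullback.diagonal q) := by
      rw [hd, Scheme.Hom.comp_base, TopCat.coe_comp, Set.range_comp]
    rw [← h2]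
    exact hz1
  rw [IsClosed.closure_eq (pullback.diagonal q).isClosedEmbedding.isClosed_range] at hw
  obtain ⟨y, rfl⟩ := hw
  refine ⟨y, ?_⟩
  rw [hd]
  rfl

theorem closure_diag_inter' {Y' Y B : Scheme.{u}} (q : Y' ⟶ Y) [IsSeparated q] (t : Y ⟶ B)
    (t' : Y' ⟶ B) (h : q ≫ t = t') :
    closure (Set.range (pullback.diagonal t')) ∩
      (pullback.map t' t' t t q q (𝟙 B) (by rw [Category.comp_id, h])
        (by rw [Category.comp_id, h])) ⁻¹'
        (Set.range (pullback.diagonal t)) ⊆ Set.range (pullback.diagonal t') := by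
  subst h
  exact closure_diag_inter q t

/-- the boundary of the diagonal of `t` -/
def bd {Y B : Scheme.{u}} (t : Y ⟶ B) : Set (pullback t t : Scheme.{u}) :=
  closure (Set.range (pullback.diagonal t)) \ Set.range (pullback.diagonal t)

theorem isClosed_bd {Y B : Scheme.{u}} (t : Y ⟶ B) : IsClosed (bd t) := by
  have h := (pullback.diagonal t).isLocallyClosed_range
  have h2 : bd t = (coborder (Set.range (pullback.diagonal t)))ᶜ := by
    simp [bd, coborder]
  rw [h2]
  exact h.isOpen_coborder.isClosed_compl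

theorem isSeparated_of_bd_eq_empty {Y B : Scheme.{u}} (t : Y ⟶ B) (h : bd t = ∅) :
    IsSeparated t := by
  refine ⟨IsClosedImmersion.of_isPreimmersion _ ?_⟩
  rw [← closure_subset_iff_isClosed]
  exact Set.diff_eq_empty.mp h

theorem bd_eq_empty_of_isSeparated {Y B : Scheme.{u}} (t : Y ⟶ B) [IsSeparated t] :
    bd t = ∅ := by
  rw [bd, Set.diff_eq_empty, closure_subset_iff_isClosed]
  exact (pullback.diagonal t).isClosedEmbedding.isClosed_range

theorem mapsTo_bd {Y' Y B : Scheme.{u}} (q : Y' ⟶ Y) [IsSeparated q] (t : Y ⟶ B)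
    (t' : Y' ⟶ B) (h : q ≫ t = t') :
    Set.MapsTo (pullback.map t' t' t t q q (𝟙 B) (by rw [Category.comp_id, h])
        (by rw [Category.comp_id, h])) (bd t') (bd t) := by
  intro z hz
  set τ := pullback.map t' t' t t q q (𝟙 B) (by rw [Category.comp_id, h])
        (by rw [Category.comp_id, h]) with hτ
  have hcomm : pullback.diagonal t' ≫ τ = q ≫ pullback.diagonal t := by
    apply pullback.hom_ext <;> simp [hτ, pullback.lift_fst, pullback.lift_snd]
  refine ⟨?_, fun h2 => hz.2 (closure_diag_inter' q t t' h ⟨hz.1, h2⟩)⟩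
  refine map_mem_closure τ.continuous hz.1 ?_
  rintro _ ⟨y, rfl⟩
  refine ⟨q y, ?_⟩
  have := congrArg (fun g => g.base y) hcomm
  simp only [Scheme.Hom.comp_base, TopCat.comp_app] at this
  exact this.symm

end Groth.Agent.H5.NApprox
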