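import Mathlib
import Groth.Agent.Lib.Helper5.NApprox.LimSepB

/-!
# Descending separatedness along a limit of schemes over a fixed base (helper5)
-/

set_option autoImplicit false

namespace Groth.Agent.H5.NApprox

open AlgebraicGeometry CategoryTheory Opposite Limits

universe u

section SepDescent

variable {K : Type u} [Category.{u} K] [IsCofiltered K] (E : K ⥤ Scheme.{u})
  [∀ {i j : K} (a : i ⟶ j), IsAffineHom (E.map a)]
  [∀ k, CompactSpace (E.obj k)]
  {B : Scheme.{u}}
  (t : ∀ k, E.obj k ⟶ B) (ht : ∀ {k k' : K} (a : k ⟶ k'), E.map a ≫ t k' = t k)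
  [∀ k, QuasiCompact (t k)] [∀ k, QuasiSeparated (t k)]
  (cE : Cone E) (hcE : IsLimit cE) (f : cE.pt ⟶ B) (hf : ∀ k, cE.π.app k ≫ t k = f)

omit [IsCofiltered K] [∀ k, CompactSpace (E.obj k)] [∀ k, QuasiCompact (t k)]
  [∀ k, QuasiSeparated (t k)] in
theorem sqT_affine {k k' : K} (a : k ⟶ k') : IsAffineHom (sqT E t ht a) :=
  MorphismProperty.pullbackMap (P := @IsAffineHom) (inferInstance : IsAffineHom (E.map a))
    (inferInstance : IsAffineHom (E.map a)) (ht a).symm (ht a).symm

omit [IsCofiltered K] [∀ {i j : K} (a : i ⟶ j), IsAffineHom (E.map a)]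
  [∀ k, QuasiSeparated (t k)] in
theorem sq_compact (k : K) : CompactSpace (pullback (t k) (t k) : Scheme.{u}) :=
  QuasiCompact.compactSpace_of_compactSpace (pullback.fst (t k) (t k))

omit [IsCofiltered K] [∀ k, CompactSpace (E.obj k)] [∀ k, QuasiCompact (t k)]
  [∀ k, QuasiSeparated (t k)] in
theorem sqT_mapsTo {k k' : K} (a : k ⟶ k') :
    Set.MapsTo (sqT E t ht a) (bd (t k)) (bd (t k')) := by
  haveI : IsSeparated (E.map a) := IsSeparated.of_isAffineHom _
  exact mapsTo_bd (E.map a) (t k') (t k) (ht a)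

include hcE hf ht in
/-- If the limit is separated over `B`, so are all sufficiently late stages. -/
theorem exists_isSeparated_stage [IsSeparated f] :
    ∃ k : K, ∀ (k' : K) (_ : k' ⟶ k), IsSeparated (t k') := by
  by_contra H
  push_neg at H
  haveI : Nonempty K := IsCofiltered.nonempty
  haveI : ∀ {i j : K} (a : i ⟶ j), IsAffineHom ((sqD E t ht).map a) :=
    fun a => sqT_affine E t ht a
  have hne : ∀ k, (bd (t k)).Nonempty := by
    intro k
    obtain ⟨k', a, hk'⟩ := H k
    have h1 : (bd (t k')).Nonempty := by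
      rw [Set.nonempty_iff_ne_empty]
      exact fun h => hk' (isSeparated_of_bd_eq_empty _ h)
    obtain ⟨z, hz⟩ := h1
    exact ⟨_, sqT_mapsTo E t ht a hz⟩
  obtain ⟨z, hz⟩ := exists_mem_of_isClosed_of_nonempty (sqD E t ht) (sqCone E t ht cE f hf)
    (sqIsLimit E t ht cE f hf hcE) (fun k => bd (t k)) (fun k => isClosed_bd (t k)) hne
    (fun k => by
      haveI := sq_compact E t k
      exact (isClosed_bd (t k)).isCompact)
    (fun a => sqT_mapsTo E t ht a)
  replace hz : ∀ k, sqπ E t cE f hf k z ∈ bd (t k) := hz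
  -- `z` is not on the diagonal
  have hzd : z ∉ Set.range (pullback.diagonal f) := by
    rintro ⟨x, rfl⟩
    obtain ⟨k⟩ := ‹Nonempty K›
    refine (hz k).2 ⟨cE.π.app k x, ?_⟩
    have := congrArg (fun g => g.base x) (diag_sqπ E t cE f hf k)
    simp only [Scheme.Hom.comp_base, TopCat.comp_app] at this
    exact this.symm
  -- a basic open neighbourhood of `z` missing the diagonal
  let O : (pullback f f : Scheme.{u}).Opens :=
    ⟨(Set.range (pullback.diagonal f))ᶜ,
      (pullback.diagonal f).isClosedEmbedding.isClosed_range.isOpen_compl⟩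
  obtain ⟨U', ⟨k, V, hV, rfl⟩, hzU, hUO⟩ := TopologicalSpace.Opens.isBasis_iff_nbhd.mp
    (isBasis_preimage_isAffineOpen (sqD E t ht) (sqCone E t ht cE f hf)
      (sqIsLimit E t ht cE f hf hcE)) (U := O) (x := z) hzd
  replace hzU : sqπ E t cE f hf k z ∈ V := hzU
  -- the preimage of `V` under the diagonal of stage `k`
  let O' : (E.obj k).Opens := pullback.diagonal (t k) ⁻¹ᵁ V
  have hO'c : IsCompact (O' : Set (E.obj k)) :=
    (pullback.diagonal (t k)).isCompact_preimage hV.isCompact
  have hO'e : cE.π.app k ⁻¹ᵁ O' = cE.π.app k ⁻¹ᵁ ⊥ := by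
    ext x
    simp only [TopologicalSpace.Opens.map_coe, Set.mem_preimage, SetLike.mem_coe,
      TopologicalSpace.Opens.coe_bot, Set.mem_empty_iff_false, iff_false]
    intro hx
    have h1 : sqπ E t cE f hf k (pullback.diagonal f x) ∈ V := by
      have := congrArg (fun g => g.base x) (diag_sqπ E t cE f hf k)
      simp only [Scheme.Hom.comp_base, TopCat.comp_app] at this
      rw [this]
      exact hx
    exact hUO h1 ⟨x, rfl⟩
  obtain ⟨k', a, hk'⟩ := exists_map_preimage_eq_map_preimage E cE hcE hO'c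
    (by simp : IsCompact ((⊥ : (E.obj k).Opens) : Set (E.obj k))) hO'e
  -- contradiction at stage `k'`
  have hzk' := (hz k').1
  have hN : IsOpen ((sqT E t ht a) ⁻¹' ((show (pullback (t k) (t k) : Scheme.{u}).Opens from V) : Set (pullback (t k) (t k) : Scheme.{u}))) :=
    (show (pullback (t k) (t k) : Scheme.{u}).Opens from V).isOpen.preimage
      (sqT E t ht a).continuous
  have hzN : sqπ E t cE f hf k' z ∈ (sqT E t ht a) ⁻¹' ((show (pullback (t k) (t k) : Scheme.{u}).Opens from V) : Set (pullback (t k) (t k) : Scheme.{u})) := by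
    have := congrArg (fun g => g.base z) ((sqCone E t ht cE f hf).w a)
    simp only [Scheme.Hom.comp_base, TopCat.comp_app] at this
    show sqT E t ht a (sqπ E t cE f hf k' z) ∈ V
    rw [show sqT E t ht a (sqπ E t cE f hf k' z) = sqπ E t cE f hf k z from this]
    exact hzU
  obtain ⟨_, hyN, ⟨y', rfl⟩⟩ := mem_closure_iff.mp hzk' _ hN hzN
  have h2 : E.map a y' ∈ O' := by
    show pullback.diagonal (t k) (E.map a y') ∈ V
    have := congrArg (fun g => g.base y') (diag_sqT E t ht a)
    simp only [Scheme.Hom.comp_base, TopCat.comp_app] at this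
    rw [← this]
    exact hyN
  have h3 : y' ∈ (E.map a ⁻¹ᵁ O' : (E.obj k').Opens) := h2
  rw [hk'] at h3
  exact h3

end SepDescent

end Groth.Agent.H5.NApprox
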