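import Mathlib
import Groth.Agent.Lib.Helper5.NApprox.LimSepC

/-!
# Applications: factorisation through affine + finitely presented (separated), closed immersions
into separated finitely presented schemes (helper5)
-/

set_option autoImplicit false

namespace Groth.Agent.H5.NApprox

open AlgebraicGeometry CategoryTheory Opposite Limits

universe u

section RelSep

variable {I : Type u} [Preorder I] [IsDirected I (· ≤ ·)] [Nonempty I] {S : Scheme.{u}}
  (D : Iᵒᵖ ⥤ Over S) (c : Cone D) (hc : IsLimit c)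

include hc in
/-- If `X = lim X_i` over `S` with affine transitions, the `X_i` quasi-compact and the `X_i ⟶ S`
quasi-compact and quasi-separated, and `X ⟶ S` is separated, then `X_i ⟶ S` is separated for
all large `i`. -/
theorem exists_isSeparated_stage_over
    (haff : ∀ (i j : Iᵒᵖ) (a : i ⟶ j), IsAffineHom (D.map a).left)
    (hcpt : ∀ i, CompactSpace (D.obj i).left)
    (hqc : ∀ i, QuasiCompact (D.obj i).hom) (hqs : ∀ i, QuasiSeparated (D.obj i).hom)
    [IsSeparated c.pt.hom] :
    ∃ i₀ : I, ∀ i, i₀ ≤ i → IsSeparated (D.obj (op i)).hom := by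
  obtain ⟨k, hk⟩ := @exists_isSeparated_stage Iᵒᵖ _ _ (D ⋙ Over.forget S)
    (fun a => haff _ _ a) hcpt S
    (fun k => (D.obj k).hom) (fun a => Over.w (D.map a)) hqc hqs ((Over.forget S).mapCone c)
    (isLimitForget D c hc) c.pt.hom
    (fun k => Over.w (c.π.app k)) ‹_›
  exact ⟨k.unop, fun i hi => hk (op i) (homOfLE hi).op⟩

end RelSep

/-- Stacks-type factorisation (Temkin): a morphism of qcqs schemes factors as affine followed by
finitely presented; separated if `f` is. -/
theorem exists_affine_fp_factorisation {X Y : Scheme.{u}} (f : Y ⟶ X)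
    [CompactSpace X] [QuasiSeparatedSpace X] [CompactSpace Y] [QuasiSeparatedSpace Y] :
    ∃ (Z : Scheme.{u}) (g : Y ⟶ Z) (h : Z ⟶ X), IsAffineHom g ∧ LocallyOfFinitePresentation h ∧
      QuasiCompact h ∧ QuasiSeparated h ∧ (IsSeparated f → IsSeparated h) ∧ g ≫ h = f := by
  obtain ⟨I, pI, dI, nI, D, c, hc, hprops, haff, ⟨e⟩⟩ := relApproxOver f
  haveI : ∀ {i j : Iᵒᵖ} (a : i ⟶ j), IsAffineHom ((D ⋙ Over.forget X).map a) :=
    fun a => haff _ _ a
  have hcpt : ∀ i, CompactSpace (D.obj i).left := by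
    intro i
    haveI := (hprops i).2.1
    exact QuasiCompact.compactSpace_of_compactSpace (D.obj i).hom
  have hπ : ∀ i : Iᵒᵖ, IsAffineHom (c.π.app i).left := fun i =>
    isAffineHom_π_app (D ⋙ Over.forget X) ((Over.forget X).mapCone c) (isLimitForget D c hc) i
  have key : ∃ i₀ : I, IsSeparated f → IsSeparated (D.obj (op i₀)).hom := by
    by_cases hs : IsSeparated f
    · haveI : IsSeparated c.pt.hom := by
        have : c.pt.hom = e.hom.left ≫ f := (Over.w e.hom).symm
        rw [this]
        infer_instance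
      obtain ⟨i₀, hi₀⟩ := exists_isSeparated_stage_over D c hc haff hcpt
        (fun i => (hprops i).2.1) (fun i => (hprops i).2.2)
      exact ⟨i₀, fun _ => hi₀ i₀ le_rfl⟩
    · obtain ⟨i₀⟩ := nI
      exact ⟨i₀, fun h => absurd h hs⟩
  obtain ⟨i₀, hi₀⟩ := key
  haveI := hπ (op i₀)
  refine ⟨(D.obj (op i₀)).left, e.inv.left ≫ (c.π.app (op i₀)).left, (D.obj (op i₀)).hom,
    inferInstance, (hprops _).1, (hprops _).2.1, (hprops _).2.2, hi₀, ?_⟩
  rw [Category.assoc, Over.w (c.π.app (op i₀))]
  exact Over.w e.inv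

/-- Stacks 0A0?: separated finite type over qcqs base embeds as a closed subscheme of a separated
finitely presented scheme. -/
theorem exists_closedImmersion_sep_fp {X S : Scheme.{u}} (f : X ⟶ S) [IsSeparated f]
    [LocallyOfFiniteType f] [QuasiCompact f] [CompactSpace S] [QuasiSeparatedSpace S] :
    ∃ (X' : Scheme.{u}) (f' : X' ⟶ S) (j : X ⟶ X'), IsSeparated f' ∧
      LocallyOfFinitePresentation f' ∧ QuasiCompact f' ∧ IsClosedImmersion j ∧ j ≫ f' = f := by
  haveI : CompactSpace X := QuasiCompact.compactSpace_of_compactSpace f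
  haveI : QuasiSeparatedSpace X := quasiSeparatedSpace_of_quasiSeparated f
  obtain ⟨I, pI, dI, nI, D, c, hc, hprops, haff, ⟨e⟩⟩ := relApproxOver f
  have hcpt : ∀ i, CompactSpace (D.obj i).left := by
    intro i
    haveI := (hprops i).2.1
    exact QuasiCompact.compactSpace_of_compactSpace (D.obj i).hom
  have hce : c.pt.hom = e.hom.left ≫ f := (Over.w e.hom).symm
  haveI : IsSeparated c.pt.hom := by
    rw [hce]
    infer_instance
  haveI : LocallyOfFiniteType c.pt.hom := by
    rw [hce]
    infer_instance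
  obtain ⟨i₀, hi₀⟩ := exists_isSeparated_stage_over D c hc haff hcpt
    (fun i => (hprops i).2.1) (fun i => (hprops i).2.2)
  obtain ⟨i₁, hi₁⟩ := exists_isClosedImmersion_stage D c hc haff hcpt
  obtain ⟨i, h0, h1⟩ := exists_ge_ge i₀ i₁
  haveI := hi₁ i h1
  refine ⟨(D.obj (op i)).left, (D.obj (op i)).hom, e.inv.left ≫ (c.π.app (op i)).left,
    hi₀ i h0, (hprops _).1, (hprops _).2.1, inferInstance, ?_⟩
  rw [Category.assoc, Over.w (c.π.app (op i))]
  exact Over.w e.inv

end Groth.Agent.H5.NApprox
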