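import Mathlib
import Groth.Agent.S7410
import Groth.Agent.S0591
import Groth.Agent.S4804
import Groth.Agent.Lib.Helper5.NApprox.LimSepD
import Groth.Agent.Lib.Helper5.NApprox.Abs
import Groth.Agent.Lib.Helper5.NApprox.DescB

/-!
# Chow's lemma over a quasi-compact quasi-separated base, by Noetherian approximation (helper5)
-/

set_option autoImplicit false

namespace Groth.Agent.H5.NApprox

open AlgebraicGeometry CategoryTheory Opposite Limits

universe u

section ProjBC

/-- the natural map `P^n_S ⟶ P^n_{S'}` -/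
noncomputable def pnMap (n : ℕ) {S S' : Scheme.{u}} (s : S ⟶ S') :
    CohB1.ProjSpaceOver n S ⟶ CohB1.ProjSpaceOver n S' :=
  pullback.lift (pullback.fst (CohB1.ProjSpace.toSpec n (ULift.{u} ℤ))
      (specULiftZIsTerminal.from S)) (pullback.snd (CohB1.ProjSpace.toSpec n (ULift.{u} ℤ))
      (specULiftZIsTerminal.from S) ≫ s) (by
    have h := pullback.condition (f := CohB1.ProjSpace.toSpec n (ULift.{u} ℤ))
      (g := specULiftZIsTerminal.from S)
    rw [Category.assoc, show s ≫ specULiftZIsTerminal.from S' = specULiftZIsTerminal.from S from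
      specULiftZIsTerminal.hom_ext _ _]
    exact h)

theorem pnMap_isPullback (n : ℕ) {S S' : Scheme.{u}} (s : S ⟶ S') :
    IsPullback (pnMap n s) (CohB1.ProjSpaceOver.toBase n S) (CohB1.ProjSpaceOver.toBase n S')
      s := by
  have hright : IsPullback (pullback.fst (CohB1.ProjSpace.toSpec n (ULift.{u} ℤ))
      (specULiftZIsTerminal.from S')) (CohB1.ProjSpaceOver.toBase n S')
      (CohB1.ProjSpace.toSpec n (ULift.{u} ℤ)) (specULiftZIsTerminal.from S') :=
    IsPullback.of_hasPullback _ _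
  have houter : IsPullback (pnMap n s ≫ pullback.fst (CohB1.ProjSpace.toSpec n (ULift.{u} ℤ))
      (specULiftZIsTerminal.from S')) (CohB1.ProjSpaceOver.toBase n S)
      (CohB1.ProjSpace.toSpec n (ULift.{u} ℤ)) (s ≫ specULiftZIsTerminal.from S') := by
    have h1 : pnMap n s ≫ pullback.fst (CohB1.ProjSpace.toSpec n (ULift.{u} ℤ))
      (specULiftZIsTerminal.from S') = pullback.fst _ _ := pullback.lift_fst _ _ _
    have h2 : s ≫ specULiftZIsTerminal.from S' = specULiftZIsTerminal.from S :=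
      specULiftZIsTerminal.hom_ext _ _
    rw [h1, h2]
    exact IsPullback.of_hasPullback _ _
  exact IsPullback.of_right houter (pullback.lift_snd _ _ _) hright

end ProjBC

/-- base change step of Chow's lemma -/
theorem chow_baseChange {X X₁ S B Xj : Scheme.{u}} (ι : X ⟶ X₁) [IsClosedImmersion ι]
    (f₁ : X₁ ⟶ S) (s : S ⟶ B) (fj : Xj ⟶ B) (g' : X₁ ⟶ Xj) (hpb : IsPullback g' f₁ fj s)
    (n : ℕ) (X'j : Scheme.{u}) (πj : X'j ⟶ Xj) (jj : X'j ⟶ CohB1.ProjSpaceOver n B)
    [IsImmersion jj] (hjj : jj ≫ CohB1.ProjSpaceOver.toBase n B = πj ≫ fj) [IsProper πj]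
    [Surjective πj] :
    ∃ (X' : Scheme.{u}) (π : X' ⟶ X) (j : X' ⟶ CohB1.ProjSpaceOver n S),
      IsImmersion j ∧ j ≫ CohB1.ProjSpaceOver.toBase n S = π ≫ ι ≫ f₁ ∧ IsProper π ∧
        Surjective π := by
  -- `W = X'j ×_B S`
  let W : Scheme.{u} := pullback (πj ≫ fj) s
  let w₁ : W ⟶ X₁ := hpb.lift (pullback.fst _ _ ≫ πj) (pullback.snd _ _) (by
    rw [Category.assoc]; exact pullback.condition)
  have hw₁fst : w₁ ≫ g' = pullback.fst (πj ≫ fj) s ≫ πj := hpb.lift_fst _ _ _
  have hw₁snd : w₁ ≫ f₁ = pullback.snd (πj ≫ fj) s := hpb.lift_snd _ _ _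
  have hW : IsPullback (pullback.fst (πj ≫ fj) s) w₁ πj g' := by
    refine IsPullback.of_bot ?_ hw₁fst.symm hpb
    rw [hw₁snd]
    exact IsPullback.of_hasPullback (πj ≫ fj) s
  haveI : IsProper w₁ := MorphismProperty.of_isPullback (P := @IsProper) hW inferInstance
  haveI : Surjective w₁ := MorphismProperty.of_isPullback (P := @Surjective) hW inferInstance
  -- `X' = W ×_{X₁} X`
  let π : pullback w₁ ι ⟶ X := pullback.snd w₁ ι
  let k : pullback w₁ ι ⟶ W := pullback.fst w₁ ι
  haveI : IsProper π := MorphismProperty.pullback_snd (P := @IsProper) w₁ ι inferInstance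
  haveI : Surjective π := MorphismProperty.pullback_snd (P := @Surjective) w₁ ι inferInstance
  haveI : IsClosedImmersion k :=
    MorphismProperty.pullback_fst (P := @IsClosedImmersion) w₁ ι inferInstance
  -- the immersion of `W`
  let jW : W ⟶ CohB1.ProjSpaceOver n S := (pnMap_isPullback n s).lift
    (pullback.fst (πj ≫ fj) s ≫ jj) (pullback.snd (πj ≫ fj) s) (by
      rw [Category.assoc, hjj]
      exact pullback.condition)
  have hjW1 : jW ≫ pnMap n s = pullback.fst (πj ≫ fj) s ≫ jj :=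
    (pnMap_isPullback n s).lift_fst _ _ _
  have hjW2 : jW ≫ CohB1.ProjSpaceOver.toBase n S = pullback.snd (πj ≫ fj) s :=
    (pnMap_isPullback n s).lift_snd _ _ _
  have hjW : IsPullback (pullback.fst (πj ≫ fj) s) jW jj (pnMap n s) := by
    refine IsPullback.of_bot ?_ hjW1.symm (pnMap_isPullback n s)
    rw [hjW2, hjj]
    exact IsPullback.of_hasPullback (πj ≫ fj) s
  haveI : IsImmersion jW := MorphismProperty.of_isPullback (P := @IsImmersion) hjW inferInstance
  refine ⟨pullback w₁ ι, π, k ≫ jW, inferInstance, ?_, inferInstance, inferInstance⟩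
  rw [Category.assoc, hjW2, ← hw₁snd, ← Category.assoc, ← Category.assoc]
  congr 1
  exact pullback.condition

/-- Chow's lemma over a quasi-compact quasi-separated base. -/
theorem chow_qcqs {X S : Scheme.{u}} (f : X ⟶ S) [CompactSpace S] [QuasiSeparatedSpace S]
    [IsSeparated f] [LocallyOfFiniteType f] [QuasiCompact f] :
    ∃ (n : ℕ) (X' : Scheme.{u}) (π : X' ⟶ X) (j : X' ⟶ CohB1.ProjSpaceOver n S),
      IsImmersion j ∧ j ≫ CohB1.ProjSpaceOver.toBase n S = π ≫ f ∧ IsProper π ∧ Surjective π := by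
  obtain ⟨X₁, f₁, ι, hsep, hfp, hqc, hι, hιf⟩ := exists_closedImmersion_sep_fp f
  obtain ⟨I, pI, dI, nI, D, c, hc, haff, hD, ⟨e⟩⟩ := absApprox S
  haveI : ∀ (i j : Iᵒᵖ) (a : i ⟶ j), IsAffineHom (D.map a) := haff
  haveI : ∀ i, CompactSpace (D.obj i) := fun i => (hD i).1
  haveI hlft : ∀ i, LocallyOfFiniteType (Limits.IsTerminal.from specULiftZIsTerminal (D.obj i)) :=
    fun i => (hD i).2
  haveI : ∀ i, QuasiSeparatedSpace (D.obj i) := fun i => quasiSeparatedSpace_of_lft (D.obj i)
  let f₁' : X₁ ⟶ c.pt := f₁ ≫ e.inv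
  haveI : LocallyOfFinitePresentation f₁' := inferInstance
  haveI : QuasiCompact f₁' := inferInstance
  haveI : IsSeparated f₁' := inferInstance
  haveI : QuasiSeparated f₁' := inferInstance
  obtain ⟨i, Xi, fi, g, hfi1, hfi2, hfi3, hpb⟩ := Groth.Agent.S0591.result D c hc X₁ f₁'
  haveI : LocallyOfFiniteType fi := inferInstance
  obtain ⟨j, φ, Xj, Yj, fj, gj, pY, pX, hpY, hpX, hfjsep⟩ :=
    (Groth.Agent.S4804.result D c hc i fi (𝟙 (D.obj i)) f₁' (𝟙 c.pt) (c.π.app i) g
      (IsPullback.of_vert_isIso ⟨by simp⟩) hpb).mp inferInstance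
  haveI : IsIso gj := hpY.isIso_snd_of_isIso
  -- the stage morphism
  let fj' : Xj ⟶ D.obj j := fj ≫ gj
  have hpj : IsPullback pX fj' fi (D.map φ) := by
    have := hpX.paste_vert hpY
    rwa [Category.comp_id] at this
  haveI : LocallyOfFiniteType fj := MorphismProperty.of_isPullback (P := @LocallyOfFiniteType) hpX
    inferInstance
  haveI : QuasiCompact fj := MorphismProperty.of_isPullback (P := @QuasiCompact) hpX
    inferInstance
  haveI : IsSeparated fj' := inferInstance
  haveI : LocallyOfFiniteType fj' := inferInstance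
  haveI : QuasiCompact fj' := inferInstance
  -- lift the projection
  let g' : X₁ ⟶ Xj := hpj.lift g (f₁' ≫ c.π.app j) (by
    rw [Category.assoc, c.w φ]
    exact hpb.w)
  have hg'1 : g' ≫ pX = g := hpj.lift_fst _ _ _
  have hg'2 : g' ≫ fj' = f₁' ≫ c.π.app j := hpj.lift_snd _ _ _
  have hpb' : IsPullback g' f₁' fj' (c.π.app j) := by
    refine IsPullback.of_right ?_ hg'2 hpj
    rw [hg'1, c.w φ]
    exact hpb
  have hpbS : IsPullback g' f₁ fj' (e.inv ≫ c.π.app j) := by
    have hl : IsPullback (𝟙 X₁) f₁ f₁' e.inv := IsPullback.of_horiz_isIso ⟨by simp [f₁']⟩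
    have := hl.paste_horiz hpb'
    rwa [Category.id_comp] at this
  -- finitely many irreducible components
  have hirr : (irreducibleComponents (Xj : Type u)).Finite := by
    haveI : IsNoetherianRing (ULift.{u} ℤ) := isNoetherianRing_of_ringEquiv ℤ ULift.ringEquiv.symm
    haveI : IsNoetherianRing (CommRingCat.of (ULift.{u} ℤ)) := this
    haveI : LocallyOfFiniteType (fj' ≫ Limits.IsTerminal.from specULiftZIsTerminal (D.obj j)) :=
      inferInstance
    haveI := LocallyOfFiniteType.isLocallyNoetherian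
      (fj' ≫ Limits.IsTerminal.from specULiftZIsTerminal (D.obj j))
    haveI : CompactSpace Xj := QuasiCompact.compactSpace_of_compactSpace fj'
    haveI : IsNoetherian Xj := {}
    exact TopologicalSpace.NoetherianSpace.finite_irreducibleComponents
  obtain ⟨n, X'j, πj, jj, hjj, hjjb, hπj, hπjs, -⟩ := Groth.Agent.S7410.result fj' hirr
  obtain ⟨X', π, j', h1, h2, h3, h4⟩ :=
    chow_baseChange ι f₁ (e.inv ≫ c.π.app j) fj' g' hpbS n X'j πj jj hjjb
  refine ⟨n, X', π, j', h1, ?_, h3, h4⟩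
  rw [h2, hιf]

end Groth.Agent.H5.NApprox
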