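import Mathlib
import Groth.Agent.Lib.Helper5.NApprox.ChowA
import Groth.Agent.Lib.Helper5.AG.ProjProper
import Groth.Agent.Lib.Helper5.Lim.DescendProps

/-!
# Properness descends along limits of schemes (Stacks 081F) (helper5)
-/

set_option autoImplicit false

namespace Groth.Agent.H5.NApprox

open AlgebraicGeometry CategoryTheory Opposite Limits

universe u

section Paste

variable {C : Type*} [Category C]

/-- completing a pullback rectangle on the left -/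
theorem exists_lift_right {X₁₁ X₁₂ X₁₃ X₂₁ X₂₂ X₂₃ : C} {h₁ : X₁₁ ⟶ X₁₃} {h₁₂ : X₁₂ ⟶ X₁₃}
    {v₁₁ : X₁₁ ⟶ X₂₁} {v₁₂ : X₁₂ ⟶ X₂₂} {v₁₃ : X₁₃ ⟶ X₂₃} {h₂₁ : X₂₁ ⟶ X₂₂} {h₂₂ : X₂₂ ⟶ X₂₃}
    (houter : IsPullback h₁ v₁₁ v₁₃ (h₂₁ ≫ h₂₂)) (hright : IsPullback h₁₂ v₁₂ v₁₃ h₂₂) :
    ∃ h₁₁ : X₁₁ ⟶ X₁₂, h₁₁ ≫ h₁₂ = h₁ ∧ IsPullback h₁₁ v₁₁ v₁₂ h₂₁ := by
  refine ⟨hright.lift h₁ (v₁₁ ≫ h₂₁) (by rw [Category.assoc]; exact houter.w),
    hright.lift_fst _ _ _, ?_⟩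
  refine IsPullback.of_right ?_ (hright.lift_snd _ _ _) hright
  rw [hright.lift_fst]
  exact houter

/-- completing a pullback rectangle on top -/
theorem exists_lift_bot {X₁₁ X₁₂ X₂₁ X₂₂ X₃₁ X₃₂ : C} {h₁₁ : X₁₁ ⟶ X₁₂} {h₂₁ : X₂₁ ⟶ X₂₂}
    {h₃₁ : X₃₁ ⟶ X₃₂} {v₁ : X₁₁ ⟶ X₃₁} {v₁₂ : X₁₂ ⟶ X₂₂} {v₂₁ : X₂₁ ⟶ X₃₁} {v₂₂ : X₂₂ ⟶ X₃₂}
    (houter : IsPullback h₁₁ v₁ (v₁₂ ≫ v₂₂) h₃₁) (hbot : IsPullback h₂₁ v₂₁ v₂₂ h₃₁) :
    ∃ v₁₁ : X₁₁ ⟶ X₂₁, v₁₁ ≫ v₂₁ = v₁ ∧ IsPullback h₁₁ v₁₁ v₁₂ h₂₁ := by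
  refine ⟨hbot.lift (h₁₁ ≫ v₁₂) v₁ (by rw [Category.assoc]; exact houter.w),
    hbot.lift_snd _ _ _, ?_⟩
  refine IsPullback.of_bot ?_ (hbot.lift_fst _ _ _).symm hbot
  rw [hbot.lift_snd]
  exact houter

end Paste

/-- a separated morphism of finite type dominated by a proper one is proper -/
theorem isProper_of_comp_surjective {X' X Y : Scheme.{u}} (π : X' ⟶ X) (f : X ⟶ Y) [Surjective π]
    [IsProper (π ≫ f)] [IsSeparated f] [LocallyOfFiniteType f] : IsProper f := by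
  haveI : UniversallyClosed f := UniversallyClosed.of_comp_surjective π f
  exact {}

/-- an immersion which is proper is a closed immersion -/
theorem isClosedImmersion_of_isImmersion_of_isProper {X Y : Scheme.{u}} (u : X ⟶ Y) [IsImmersion u]
    [IsProper u] : IsClosedImmersion u :=
  IsClosedImmersion.of_isPreimmersion u u.isClosedMap.isClosed_range

section Descent

variable {I : Type u} [SmallCategory I] [IsCofiltered I]
  (D : I ⥤ Scheme.{u}) (c : Limits.Cone D) (hc : Limits.IsLimit c)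

include hc in
/-- Stacks 081F: properness descends to a stage. -/
theorem exists_isProper_descend
    [∀ (i j : I) (f : i ⟶ j), IsAffineHom (D.map f)] (i₀ : I) [CompactSpace (D.obj i₀)]
    [QuasiSeparatedSpace (D.obj i₀)] {X₀ Y₀ : Scheme.{u}} (f₀ : X₀ ⟶ Y₀) (g₀ : Y₀ ⟶ D.obj i₀)
    [CompactSpace X₀] [QuasiSeparatedSpace X₀] [CompactSpace Y₀] [QuasiSeparatedSpace Y₀]
    {X Y : Scheme.{u}} (f : X ⟶ Y) (g : Y ⟶ c.pt) (qY : Y ⟶ Y₀) (qX : X ⟶ X₀)
    (hY : IsPullback qY g g₀ (c.π.app i₀)) (hX : IsPullback qX f f₀ qY)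
    [LocallyOfFiniteType f₀] [IsProper f] :
    ∃ (i : I) (φ : i ⟶ i₀) (Xi Yi : Scheme.{u}) (fi : Xi ⟶ Yi) (gi : Yi ⟶ D.obj i) (pY : Yi ⟶ Y₀)
      (pX : Xi ⟶ X₀), IsPullback pY gi g₀ (D.map φ) ∧ IsPullback pX fi f₀ pY ∧ IsProper fi := by
  haveI : QuasiCompact f₀ := inferInstance
  haveI : QuasiSeparated f₀ := inferInstance
  -- Step 1: a separated stage
  obtain ⟨j₁, φ₁, X₁, Y₁, f₁, g₁, pY₁, pX₁, hpY₁, hpX₁, hsep₁⟩ :=
    (Groth.Agent.S4804.result D c hc i₀ f₀ g₀ f g qY qX hY hX).mp inferInstance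
  haveI : IsAffineHom pY₁ :=
    MorphismProperty.of_isPullback (P := @IsAffineHom) hpY₁.flip inferInstance
  haveI : CompactSpace Y₁ := QuasiCompact.compactSpace_of_compactSpace pY₁
  haveI : QuasiSeparatedSpace Y₁ := quasiSeparatedSpace_of_quasiSeparated pY₁
  haveI : LocallyOfFiniteType f₁ :=
    MorphismProperty.of_isPullback (P := @LocallyOfFiniteType) hpX₁ inferInstance
  haveI : QuasiCompact f₁ :=
    MorphismProperty.of_isPullback (P := @QuasiCompact) hpX₁ inferInstance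
  -- Step 2: rebase
  obtain ⟨qY₁, hqY₁, hY₁⟩ := exists_lift_right
    (h₁ := qY) (v₁₁ := g) (h₂₁ := c.π.app j₁) (h₂₂ := D.map φ₁) (by rw [c.w φ₁]; exact hY) hpY₁
  obtain ⟨qX₁, hqX₁, hX₁⟩ := exists_lift_right
    (h₁ := qX) (v₁₁ := f) (h₂₁ := qY₁) (h₂₂ := pY₁) (by rw [hqY₁]; exact hX) hpX₁
  -- Step 3: Chow
  obtain ⟨n, X'₁, π₁, u₁, hu₁, hu₁b, hπ₁, hπ₁s⟩ := chow_qcqs f₁
  haveI := Groth.Agent.H5.AG.isProper_toBase n Y₁
  haveI := Groth.Agent.H5.AG.isProper_toBase n Y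
  haveI : CompactSpace (CohB1.ProjSpaceOver n Y₁) :=
    QuasiCompact.compactSpace_of_compactSpace (CohB1.ProjSpaceOver.toBase n Y₁)
  haveI : QuasiSeparatedSpace (CohB1.ProjSpaceOver n Y₁) :=
    quasiSeparatedSpace_of_quasiSeparated (CohB1.ProjSpaceOver.toBase n Y₁)
  haveI : LocallyOfFiniteType (u₁ ≫ CohB1.ProjSpaceOver.toBase n Y₁) := by
    rw [hu₁b]; infer_instance
  haveI : LocallyOfFiniteType u₁ :=
    locallyOfFiniteType_of_comp u₁ (CohB1.ProjSpaceOver.toBase n Y₁)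
  haveI : QuasiCompact (u₁ ≫ CohB1.ProjSpaceOver.toBase n Y₁) := by
    rw [hu₁b]; infer_instance
  haveI : QuasiCompact u₁ := QuasiCompact.of_comp u₁ (CohB1.ProjSpaceOver.toBase n Y₁)
  -- Step 4: the base change to the limit
  have hπ : IsPullback (pullback.fst π₁ qX₁) (pullback.snd π₁ qX₁) π₁ qX₁ :=
    IsPullback.of_hasPullback _ _
  have hP := pnMap_isPullback n qY₁
  have houter : IsPullback (pullback.fst π₁ qX₁) (pullback.snd π₁ qX₁ ≫ f)
      (u₁ ≫ CohB1.ProjSpaceOver.toBase n Y₁) qY₁ := by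
    rw [hu₁b]
    exact hπ.paste_vert hX₁
  obtain ⟨u, hu, hXu⟩ := exists_lift_bot houter hP
  haveI : IsImmersion u := MorphismProperty.of_isPullback (P := @IsImmersion) hXu inferInstance
  haveI : IsProper (u ≫ CohB1.ProjSpaceOver.toBase n Y) := by
    rw [hu]; infer_instance
  haveI : IsProper u := IsProper.of_comp u (CohB1.ProjSpaceOver.toBase n Y)
  have hucl : IsClosedImmersion u := isClosedImmersion_of_isImmersion_of_isProper u
  -- Step 5: descend the closed immersion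
  obtain ⟨i, φ, X'i, Pi, ui, gi', pP, pX', hpP, hpX', hui⟩ :=
    Groth.Agent.H5.Lim.exists_descend D c hc
      Groth.Agent.H5.Lim.affineSystemDescent_isClosedImmersion j₁ u₁
      (CohB1.ProjSpaceOver.toBase n Y₁ ≫ g₁) ⟨inferInstance, inferInstance, inferInstance⟩
      u (CohB1.ProjSpaceOver.toBase n Y ≫ g) (pnMap n qY₁) (pullback.fst π₁ qX₁)
      (hP.paste_vert hY₁) hXu hucl
  haveI : IsClosedImmersion ui := hui
  -- Step 6: the stage
  have hYi : IsPullback (pullback.fst g₁ (D.map φ)) (pullback.snd g₁ (D.map φ)) g₁ (D.map φ) :=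
    IsPullback.of_hasPullback _ _
  obtain ⟨ti, hti, hPi⟩ := exists_lift_bot hpP hYi
  haveI : IsProper ti := MorphismProperty.of_isPullback (P := @IsProper) hPi inferInstance
  have hXi : IsPullback (pullback.fst f₁ (pullback.fst g₁ (D.map φ)))
      (pullback.snd f₁ (pullback.fst g₁ (D.map φ))) f₁ (pullback.fst g₁ (D.map φ)) :=
    IsPullback.of_hasPullback _ _
  have houter' : IsPullback pX' (ui ≫ ti) (π₁ ≫ f₁) (pullback.fst g₁ (D.map φ)) := by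
    rw [← hu₁b]
    exact hpX'.paste_vert hPi
  obtain ⟨πi, hπi, hX'i⟩ := exists_lift_bot houter' hXi
  haveI : IsProper πi := MorphismProperty.of_isPullback (P := @IsProper) hX'i inferInstance
  haveI : Surjective πi := MorphismProperty.of_isPullback (P := @Surjective) hX'i inferInstance
  haveI : IsSeparated (pullback.snd f₁ (pullback.fst g₁ (D.map φ))) := inferInstance
  haveI : LocallyOfFiniteType (pullback.snd f₁ (pullback.fst g₁ (D.map φ))) := inferInstance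
  haveI : IsProper (πi ≫ pullback.snd f₁ (pullback.fst g₁ (D.map φ))) := by
    rw [hπi]; infer_instance
  have hfi : IsProper (pullback.snd f₁ (pullback.fst g₁ (D.map φ))) :=
    isProper_of_comp_surjective πi _
  refine ⟨i, φ ≫ φ₁, _, _, pullback.snd f₁ (pullback.fst g₁ (D.map φ)),
    pullback.snd g₁ (D.map φ), pullback.fst g₁ (D.map φ) ≫ pY₁,
    pullback.fst f₁ (pullback.fst g₁ (D.map φ)) ≫ pX₁, ?_, hXi.paste_horiz hpX₁, hfi⟩
  rw [D.map_comp]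
  exact hYi.paste_horiz hpY₁

end Descent

end Groth.Agent.H5.NApprox
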