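import Mathlib
import Groth.Agent.Lib.Helper5.NApprox.LimSepD

/-!
# Approximating a quasi-coherent ideal sheaf on a limit by ideal sheaves pulled back from
the stages (helper5)
-/

set_option autoImplicit false

namespace Groth.Agent.H5.NApprox

open AlgebraicGeometry CategoryTheory Opposite Limits

universe u

section Apx

variable {I : Type u} [Category.{u} I] [IsCofiltered I] (D : I ⥤ Scheme.{u})
  [∀ {i j : I} (f : i ⟶ j), IsAffineHom (D.map f)]
  (c : Cone D) (hc : IsLimit c) (K : c.pt.IdealSheafData)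

/-- the ideal sheaf on the limit generated by the sections of `K` coming from stage `μ` -/
noncomputable def apxIdeal (μ : I) : c.pt.IdealSheafData :=
  (K.map (c.π.app μ)).comap (c.π.app μ)

theorem apxIdeal_le (μ : I) : apxIdeal D c K μ ≤ K :=
  Scheme.IdealSheafData.comap_map_le K (c.π.app μ)

theorem apxIdeal_mono {μ μ' : I} (a : μ' ⟶ μ) : apxIdeal D c K μ ≤ apxIdeal D c K μ' := by
  unfold apxIdeal
  have h1 : K.map (c.π.app μ) = (K.map (c.π.app μ')).map (D.map a) := by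
    rw [← Scheme.IdealSheafData.map_comp, c.w]
  have h2 : (K.map (c.π.app μ)).comap (D.map a) ≤ K.map (c.π.app μ') := by
    rw [h1]
    exact Scheme.IdealSheafData.comap_map_le _ _
  have h3 : (K.map (c.π.app μ)).comap (c.π.app μ) =
      ((K.map (c.π.app μ)).comap (D.map a)).comap (c.π.app μ') := by
    rw [← Scheme.IdealSheafData.comap_comp, c.w]
  rw [h3]
  exact Scheme.IdealSheafData.comap_mono _ h2

include hc in
theorem mem_apxIdeal_of_app (μ : I) (V : (D.obj μ).affineOpens) (s' : Γ(D.obj μ, V.1))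
    (hV' : IsAffineOpen (c.π.app μ ⁻¹ᵁ V.1))
    (h : (c.π.app μ).app V.1 s' ∈ K.ideal ⟨c.π.app μ ⁻¹ᵁ V.1, hV'⟩) :
    (c.π.app μ).app V.1 s' ∈ (apxIdeal D c K μ).ideal ⟨c.π.app μ ⁻¹ᵁ V.1, hV'⟩ := by
  haveI : IsAffineHom (c.π.app μ) := isAffineHom_π_app D c hc μ
  have h1 : s' ∈ (K.map (c.π.app μ)).ideal V := by
    rw [Scheme.IdealSheafData.ideal_map_of_isAffineHom]
    exact h
  have h2 := Scheme.IdealSheafData.le_map_comap (K.map (c.π.app μ)) (c.π.app μ)
  have h3 := (Scheme.IdealSheafData.le_def.mp h2) V h1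
  rw [Scheme.IdealSheafData.ideal_map_of_isAffineHom] at h3
  exact h3

include hc in
/-- sections over the preimage of an affine open come from a finite stage -/
theorem exists_appLE_eq (μ : I) (V : (D.obj μ).Opens) (hV : IsAffineOpen V)
    (s : Γ(c.pt, c.π.app μ ⁻¹ᵁ V)) :
    ∃ (k : Over μ) (s' : Γ(D.obj k.left, D.map k.hom ⁻¹ᵁ V)),
      (c.π.app k.left).appLE (D.map k.hom ⁻¹ᵁ V) (c.π.app μ ⁻¹ᵁ V)
        (by rw [← Scheme.Hom.comp_preimage, c.w]) s' = s := by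
  haveI : ∀ k, IsAffine ((opensDiagram D μ V).obj k) := fun k => hV.preimage _
  obtain ⟨k, t, ht⟩ := exists_appTop_π_eq_of_isAffine_of_isLimit (opensDiagram D μ V)
    (opensCone D c μ V) (isLimitOpensCone D c hc μ V) ((c.π.app μ ⁻¹ᵁ V).topIso.inv s)
  refine ⟨k, (D.map k.hom ⁻¹ᵁ V).topIso.hom t, ?_⟩
  have h1 : ((c.π.app k.left).resLE (D.map k.hom ⁻¹ᵁ V) (c.π.app μ ⁻¹ᵁ V)
      (by rw [← Scheme.Hom.comp_preimage, c.w])).app ⊤ t = (c.π.app μ ⁻¹ᵁ V).topIso.inv s := ht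
  rw [Scheme.Hom.resLE_app_top] at h1
  have h2 : (c.π.app μ ⁻¹ᵁ V).topIso.inv ((c.π.app k.left).appLE (D.map k.hom ⁻¹ᵁ V)
      (c.π.app μ ⁻¹ᵁ V) (by rw [← Scheme.Hom.comp_preimage, c.w])
      ((D.map k.hom ⁻¹ᵁ V).topIso.hom t)) = (c.π.app μ ⁻¹ᵁ V).topIso.inv s := h1
  have h3 := congrArg (c.π.app μ ⁻¹ᵁ V).topIso.hom h2
  rw [Iso.inv_hom_id_apply, Iso.inv_hom_id_apply] at h3
  exact h3

omit [IsCofiltered I] [∀ {i j : I} (f : i ⟶ j), IsAffineHom (D.map f)] in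
theorem mem_ideal_iff_of_eq {X : Scheme.{u}} (K : X.IdealSheafData) {U₁ U₂ : X.Opens}
    (h : U₁ = U₂) (h₁ : IsAffineOpen U₁) (h₂ : IsAffineOpen U₂) (x : Γ(X, U₂)) :
    x ∈ K.ideal ⟨U₂, h₂⟩ ↔ X.presheaf.map (homOfLE h.le).op x ∈ K.ideal ⟨U₁, h₁⟩ := by
  subst h
  have : X.presheaf.map (homOfLE (le_refl U₁)).op = 𝟙 _ := by
    rw [show (homOfLE (le_refl U₁)) = 𝟙 U₁ from rfl, op_id, X.presheaf.map_id]
  rw [this]
  rfl

include hc in
/-- every section of `K` over an affine open lies in some approximating ideal sheaf -/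
theorem exists_mem_apxIdeal [∀ i, QuasiSeparatedSpace (D.obj i)] (U : c.pt.affineOpens)
    (s : Γ(c.pt, U.1)) (hs : s ∈ K.ideal U) : ∃ μ, s ∈ (apxIdeal D c K μ).ideal U := by
  obtain ⟨U, hU⟩ := U
  obtain ⟨μ, V, hV, hVU⟩ := exists_isAffineOpen_preimage_eq D c hc U hU
  subst hVU
  obtain ⟨k, s', hs'⟩ := exists_appLE_eq D c hc μ V hV s
  refine ⟨k.left, ?_⟩
  haveI : IsAffineHom (c.π.app k.left) := isAffineHom_π_app D c hc k.left
  have hW : IsAffineOpen (D.map k.hom ⁻¹ᵁ V) := hV.preimage _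
  have hU'' : IsAffineOpen (c.π.app k.left ⁻¹ᵁ (D.map k.hom ⁻¹ᵁ V)) := hW.preimage _
  have heq : c.π.app μ ⁻¹ᵁ V = c.π.app k.left ⁻¹ᵁ (D.map k.hom ⁻¹ᵁ V) := by
    rw [← Scheme.Hom.comp_preimage, c.w]
  have hres : c.pt.presheaf.map (homOfLE heq.le).op
      ((c.π.app k.left).app (D.map k.hom ⁻¹ᵁ V) s') = s := hs'
  have h1 : (c.π.app k.left).app (D.map k.hom ⁻¹ᵁ V) s' ∈
      K.ideal ⟨c.π.app k.left ⁻¹ᵁ (D.map k.hom ⁻¹ᵁ V), hU''⟩ := by
    rw [mem_ideal_iff_of_eq K heq hU hU'', hres]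
    exact hs
  have h2 := mem_apxIdeal_of_app D c hc K k.left ⟨D.map k.hom ⁻¹ᵁ V, hW⟩ s' hU'' h1
  rw [mem_ideal_iff_of_eq (apxIdeal D c K k.left) heq hU hU'', hres] at h2
  exact h2

omit [IsCofiltered I] [∀ {i j : I} (f : i ⟶ j), IsAffineHom (D.map f)] in
/-- over locally Noetherian stages the approximating closed subschemes are finitely presented -/
theorem apxIdeal_lfp [∀ i, IsLocallyNoetherian (D.obj i)] (μ : I) :
    LocallyOfFinitePresentation (apxIdeal D c K μ).subschemeι := by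
  haveI : LocallyOfFinitePresentation (K.map (c.π.app μ)).subschemeι := inferInstance
  have h : ((K.map (c.π.app μ)).comapIso (c.π.app μ)).hom ≫
      pullback.fst (c.π.app μ) (K.map (c.π.app μ)).subschemeι =
      (apxIdeal D c K μ).subschemeι :=
    Scheme.IdealSheafData.comapIso_hom_fst _ _
  rw [← h]
  have h1 : LocallyOfFinitePresentation
      (pullback.fst (c.π.app μ) (K.map (c.π.app μ)).subschemeι) :=
    MorphismProperty.pullback_fst (P := @LocallyOfFinitePresentation) _ _ inferInstance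
  exact (MorphismProperty.cancel_left_of_respectsIso @LocallyOfFinitePresentation _ _).mpr h1

end Apx

end Groth.Agent.H5.NApprox
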