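import Mathlib
import Groth.Agent.Lib.Helper5.NApprox.IdlA

/-!
# A closed subscheme as the limit of the closed subschemes cut out by an exhausting family of
ideal sheaves (helper5)
-/

set_option autoImplicit false

namespace Groth.Agent.H5.NApprox

open AlgebraicGeometry CategoryTheory Opposite Limits

universe u

section ClSys

variable {J : Type u} [Category.{u} J] {X S : Scheme.{u}} (p : X ⟶ S)
  (A : J → X.IdealSheafData) (hA : ∀ {μ μ' : J} (_ : μ' ⟶ μ), A μ ≤ A μ')
  (K : X.IdealSheafData) (hAK : ∀ μ, A μ ≤ K)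

/-- the system of closed subschemes `V(A μ)` over `S` -/
noncomputable def clD : J ⥤ Over S where
  obj μ := Over.mk ((A μ).subschemeι ≫ p)
  map {μ' μ} a := Over.homMk (Scheme.IdealSheafData.inclusion (hA a)) (by simp)
  map_id μ := by
    ext
    exact Scheme.IdealSheafData.inclusion_id _
  map_comp a b := by
    ext
    exact (Scheme.IdealSheafData.inclusion_comp _ _).symm

/-- the cone with vertex `V(K)` -/
noncomputable def clCone : Cone (clD p A hA) where
  pt := Over.mk (K.subschemeι ≫ p)
  π :=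
    { app := fun μ => Over.homMk (Scheme.IdealSheafData.inclusion (hAK μ)) (by
        simp [clD])
      naturality := by
        intro μ' μ a
        ext
        simp [clD, Scheme.IdealSheafData.inclusion_comp] }

/-- typed components of a cone over the underlying system of schemes -/
noncomputable def clσ (s : Cone (clD p A hA ⋙ Over.forget S)) (μ : J) :
    s.pt ⟶ (A μ).subscheme := s.π.app μ

theorem clσ_w (s : Cone (clD p A hA ⋙ Over.forget S)) {μ' μ : J} (a : μ' ⟶ μ) :
    clσ p A hA s μ' ≫ Scheme.IdealSheafData.inclusion (hA a) = clσ p A hA s μ :=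
  s.w a

/-- the composite to `X` does not depend on the index -/
theorem clσ_ι [IsCofiltered J] (s : Cone (clD p A hA ⋙ Over.forget S)) (μ μ' : J) :
    clσ p A hA s μ ≫ (A μ).subschemeι = clσ p A hA s μ' ≫ (A μ').subschemeι := by
  obtain ⟨ν, a, b, -⟩ := IsCofilteredOrEmpty.cone_objs μ μ'
  rw [← clσ_w p A hA s a, ← clσ_w p A hA s b, Category.assoc, Category.assoc,
    Scheme.IdealSheafData.inclusion_subschemeι, Scheme.IdealSheafData.inclusion_subschemeι]

variable (hK : ∀ (U : X.affineOpens) (x : Γ(X, U.1)), x ∈ K.ideal U → ∃ μ, x ∈ (A μ).ideal U)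

include hK in
theorem cl_le_ker [IsCofiltered J] (s : Cone (clD p A hA ⋙ Over.forget S)) (μ₀ : J) :
    K.subschemeι.ker ≤ (clσ p A hA s μ₀ ≫ (A μ₀).subschemeι).ker := by
  rw [Scheme.IdealSheafData.ker_subschemeι]
  intro U x hx
  obtain ⟨μ, hμ⟩ := hK U x hx
  rw [clσ_ι p A hA s μ₀ μ]
  have h1 : (A μ).subschemeι.ker ≤ (clσ p A hA s μ ≫ (A μ).subschemeι).ker :=
    Scheme.Hom.le_ker_comp _ _
  rw [Scheme.IdealSheafData.ker_subschemeι] at h1
  exact h1 U hμ

/-- the lift -/
noncomputable def clLift [IsCofiltered J] (s : Cone (clD p A hA ⋙ Over.forget S)) (μ₀ : J) :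
    s.pt ⟶ K.subscheme :=
  IsClosedImmersion.lift K.subschemeι (clσ p A hA s μ₀ ≫ (A μ₀).subschemeι)
    (cl_le_ker p A hA K hK s μ₀)

theorem clLift_ι [IsCofiltered J] (s : Cone (clD p A hA ⋙ Over.forget S)) (μ₀ : J) :
    clLift p A hA K hK s μ₀ ≫ K.subschemeι = clσ p A hA s μ₀ ≫ (A μ₀).subschemeι :=
  IsClosedImmersion.lift_fac _ _ _

theorem clLift_uniq [IsCofiltered J] (s : Cone (clD p A hA ⋙ Over.forget S)) (μ₀ : J)
    (m : s.pt ⟶ K.subscheme)
    (hm : m ≫ Scheme.IdealSheafData.inclusion (hAK μ₀) = clσ p A hA s μ₀) :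
    m = clLift p A hA K hK s μ₀ := by
  rw [← cancel_mono K.subschemeι, clLift_ι, ← hm, Category.assoc,
    Scheme.IdealSheafData.inclusion_subschemeι]

/-- `V(K)` is the limit of the `V(A μ)` in `Over S`. -/
noncomputable def clIsLimit [IsCofiltered J] : IsLimit (clCone p A hA K hAK) := by
  haveI : IsConnected J := IsCofiltered.isConnected _
  have μ₀ : J := (IsCofiltered.nonempty (C := J)).some
  apply isLimitOfReflects (Over.forget S)
  refine
    { lift := fun s => clLift p A hA K hK s μ₀
      fac := ?_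
      uniq := ?_ }
  · intro s μ
    show clLift p A hA K hK s μ₀ ≫ Scheme.IdealSheafData.inclusion (hAK μ) = clσ p A hA s μ
    rw [← cancel_mono (A μ).subschemeι, Category.assoc,
      Scheme.IdealSheafData.inclusion_subschemeι, clLift_ι, clσ_ι p A hA s μ₀ μ]
  · intro s m hm
    exact clLift_uniq p A hA K hAK hK s μ₀ m (hm μ₀)

end ClSys

end Groth.Agent.H5.NApprox
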