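import Mathlib
import Groth.Agent.Lib.Helper5.NApprox.IdlB

/-!
# Limits of finitely presented schemes with closed immersions as transition maps (helper5)
-/

set_option autoImplicit false

namespace Groth.Agent.H5.NApprox

open AlgebraicGeometry CategoryTheory Opposite Limits

universe u

/-- Stacks 09ZR-type: a scheme locally of finite type over a quasi-separated base, itself qcqs, is a
directed limit of finitely presented schemes with closed immersions as transition maps. -/
theorem exists_limit_closedImmersion_transitions {X S : Scheme.{u}} (f : X ⟶ S)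
    [LocallyOfFiniteType f] [CompactSpace X] [QuasiSeparatedSpace X] [QuasiSeparatedSpace S] :
    ∃ (I : Type u) (_ : Preorder I) (_ : IsDirected I (fun a b => a ≤ b)) (_ : Nonempty I)
      (D : Iᵒᵖ ⥤ Over S) (c : Limits.Cone D) (_ : Limits.IsLimit c),
      (∀ i, LocallyOfFinitePresentation (D.obj i).hom ∧ QuasiCompact (D.obj i).hom ∧
        QuasiSeparated (D.obj i).hom ∧ CompactSpace (D.obj i).left ∧
        QuasiSeparatedSpace (D.obj i).left) ∧
      (∀ (i j : Iᵒᵖ) (a : i ⟶ j), IsClosedImmersion (D.map a).left) ∧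
      Nonempty (c.pt ≅ Over.mk f) := by
  obtain ⟨Y, hY, hY', W, g, hWc, hg, hgf⟩ := exists_fp_core f
  obtain ⟨h1, h2, h3⟩ := fst_props S Y
  haveI : CompactSpace (W : Scheme.{u}) := isCompact_iff_compactSpace.mp hWc
  let f' : (W : Scheme.{u}) ⟶ S := W.ι ≫ pullback.fst (toZ S) (toZ Y)
  haveI : LocallyOfFinitePresentation f' := inferInstance
  haveI : QuasiCompact f' := inferInstance
  haveI : QuasiSeparated f' := inferInstance
  haveI : QuasiSeparatedSpace (W : Scheme.{u}) := quasiSeparatedSpace_of_quasiSeparated f'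
  obtain ⟨I, pI, dI, nI, D₀, c₀, hc₀, haff, hft, ⟨e⟩⟩ := absApprox (W : Scheme.{u})
  haveI : ∀ {i j : Iᵒᵖ} (f : i ⟶ j), IsAffineHom (D₀.map f) := fun f => haff _ _ f
  haveI : ∀ i, CompactSpace (D₀.obj i) := fun i => (hft i).1
  haveI : ∀ i, LocallyOfFiniteType (toZ (D₀.obj i)) := fun i => (hft i).2
  haveI : ∀ i, QuasiSeparatedSpace (D₀.obj i) := fun i => quasiSeparatedSpace_of_lft (D₀.obj i)
  haveI : ∀ i, IsLocallyNoetherian (D₀.obj i) := fun i =>
    LocallyOfFiniteType.isLocallyNoetherian (toZ (D₀.obj i))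
  haveI : CompactSpace c₀.pt := Scheme.compactSpace_of_isLimit D₀ c₀ hc₀
  let p : c₀.pt ⟶ S := e.hom ≫ f'
  haveI : LocallyOfFinitePresentation p := inferInstance
  haveI : QuasiCompact p := inferInstance
  haveI : QuasiSeparated p := inferInstance
  haveI : QuasiSeparatedSpace c₀.pt := quasiSeparatedSpace_of_quasiSeparated p
  let j' : X ⟶ c₀.pt := g ≫ e.inv
  haveI : IsClosedImmersion j' := inferInstance
  have hj'p : j' ≫ p = f := by
    simp only [j', p, f', Category.assoc, Iso.inv_hom_id_assoc]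
    exact hgf
  let K : c₀.pt.IdealSheafData := j'.ker
  refine ⟨I, pI, dI, nI, clD p (apxIdeal D₀ c₀ K) (fun a => apxIdeal_mono D₀ c₀ K a),
    clCone p (apxIdeal D₀ c₀ K) (fun a => apxIdeal_mono D₀ c₀ K a) K (apxIdeal_le D₀ c₀ K),
    clIsLimit p (apxIdeal D₀ c₀ K) (fun a => apxIdeal_mono D₀ c₀ K a) K (apxIdeal_le D₀ c₀ K)
      (exists_mem_apxIdeal D₀ c₀ hc₀ K), ?_, ?_, ⟨?_⟩⟩
  · intro μ
    haveI := apxIdeal_lfp D₀ c₀ K μ
    show LocallyOfFinitePresentation ((apxIdeal D₀ c₀ K μ).subschemeι ≫ p) ∧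
      QuasiCompact ((apxIdeal D₀ c₀ K μ).subschemeι ≫ p) ∧
      QuasiSeparated ((apxIdeal D₀ c₀ K μ).subschemeι ≫ p) ∧
      CompactSpace (apxIdeal D₀ c₀ K μ).subscheme ∧
      QuasiSeparatedSpace (apxIdeal D₀ c₀ K μ).subscheme
    exact ⟨inferInstance, inferInstance, inferInstance,
      QuasiCompact.compactSpace_of_compactSpace (apxIdeal D₀ c₀ K μ).subschemeι,
      quasiSeparatedSpace_of_quasiSeparated (apxIdeal D₀ c₀ K μ).subschemeι⟩
  · intro μ μ' a
    show IsClosedImmersion (Scheme.IdealSheafData.inclusion _)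
    infer_instance
  · refine Over.isoMk (asIso j'.toImage).symm ?_
    show inv j'.toImage ≫ f = K.subschemeι ≫ p
    rw [IsIso.inv_comp_eq, ← Category.assoc,
      show j'.toImage ≫ K.subschemeι = j' from j'.toImage_imageι, hj'p]

end Groth.Agent.H5.NApprox
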