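import Mathlib

/-!
# Finite type ideal sheaves and finitely presented closed immersions (helper5)
-/

set_option autoImplicit false

namespace Groth.Agent.H5.NApprox

open AlgebraicGeometry CategoryTheory Opposite Limits

universe u

/-- the closed subscheme of an ideal sheaf of finite type is finitely presented -/
theorem lfp_subschemeι_of_fg {Y : Scheme.{u}} (J : Y.IdealSheafData)
    (hJ : ∀ U : Y.affineOpens, (J.ideal U).FG) : LocallyOfFinitePresentation J.subschemeι := by
  rw [HasRingHomProperty.iff_appLE (P := @LocallyOfFinitePresentation)]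
  intro U V e
  have hW : IsAffineOpen (J.subschemeι ⁻¹ᵁ U.1) := U.2.preimage J.subschemeι
  have h1 : (J.subschemeι.app U.1).hom.FinitePresentation := by
    apply RingHom.FinitePresentation.of_surjective _ (J.subschemeι.app_surjective U.1 U.2)
    have : RingHom.ker (J.subschemeι.app U.1).hom = J.ideal U := by
      rw [← Scheme.Hom.ker_apply, Scheme.IdealSheafData.ker_subschemeι]
    rw [this]
    exact hJ U
  have h2 : (J.subscheme.presheaf.map (homOfLE e).op).hom.FinitePresentation := by
    have h := HasRingHomProperty.appLE (P := @LocallyOfFinitePresentation) (f := 𝟙 J.subscheme)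
      inferInstance ⟨_, hW⟩ V (by simpa using e)
    have h3 : (𝟙 J.subscheme : J.subscheme ⟶ J.subscheme).appLE (J.subschemeι ⁻¹ᵁ U.1) V.1
        (by simpa using e) = J.subscheme.presheaf.map (homOfLE e).op := by
      rw [Scheme.Hom.appLE, Scheme.Hom.id_app]
      exact Category.id_comp _
    rw [h3] at h
    exact h
  show (J.subschemeι.appLE U.1 V.1 e).hom.FinitePresentation
  rw [Scheme.Hom.appLE, CommRingCat.hom_comp]
  exact h2.comp h1

/-- the ideal sheaf of a finitely presented closed immersion is of finite type -/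
theorem fg_ker_of_lfp {Z Y : Scheme.{u}} (ι : Z ⟶ Y) [IsClosedImmersion ι]
    [LocallyOfFinitePresentation ι] (U : Y.affineOpens) : (ι.ker.ideal U).FG := by
  rw [Scheme.Hom.ker_apply]
  have hW : IsAffineOpen (ι ⁻¹ᵁ U.1) := U.2.preimage ι
  have h1 : (ι.app U.1).hom.FinitePresentation := by
    have h := HasRingHomProperty.appLE (P := @LocallyOfFinitePresentation) (f := ι)
      inferInstance U ⟨_, hW⟩ le_rfl
    rwa [Scheme.Hom.appLE_eq_app] at h
  have hs : Function.Surjective (ι.app U.1).hom := ι.app_surjective U.1 U.2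
  algebraize [(ι.app U.1).hom]
  exact Algebra.FinitePresentation.ker_fG_of_surjective
    (Algebra.ofId Γ(Y, U.1) Γ(Z, ι ⁻¹ᵁ U.1)) hs

/-- kernels are insensitive to composing with an isomorphism on the source -/
theorem ker_iso_comp {X X' Y : Scheme.{u}} (e : X' ≅ X) (f : X ⟶ Y) : (e.hom ≫ f).ker = f.ker := by
  apply le_antisymm
  · have h := Scheme.Hom.le_ker_comp e.inv (e.hom ≫ f)
    rwa [Iso.inv_hom_id_assoc] at h
  · exact Scheme.Hom.le_ker_comp e.hom f

end Groth.Agent.H5.NApprox
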