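import Mathlib

/-!
# The spectrum of a stalk of an affine scheme as the limit of the basic open neighbourhoods
(helper5)
-/

set_option autoImplicit false

namespace Groth.Agent.H5.NApprox

open AlgebraicGeometry CategoryTheory Opposite Limits

universe u

section StalkLim

variable {X T : Scheme.{u}}

/-- global functions invertible at `x` -/
structure BI (x : X) where
  f : Γ(X, ⊤)
  mem : x ∈ X.basicOpen f

variable (x : X) (b : X ⟶ T)

instance : Preorder (BI x) where
  le a a' := X.basicOpen a.f ≤ X.basicOpen a'.f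
  le_refl _ := le_rfl
  le_trans _ _ _ h h' := le_trans h h'

theorem BI.le_def {a a' : BI x} : a ≤ a' ↔ X.basicOpen a.f ≤ X.basicOpen a'.f := Iff.rfl

instance : Nonempty (BI x) := ⟨⟨1, by rw [Scheme.basicOpen_one]; trivial⟩⟩

instance : IsDirected (BI x) (· ≥ ·) :=
  ⟨fun a a' => ⟨⟨a.f * a'.f, by rw [Scheme.basicOpen_mul]; exact ⟨a.mem, a'.mem⟩⟩,
    by show X.basicOpen (a.f * a'.f) ≤ X.basicOpen a.f
       rw [Scheme.basicOpen_mul]; exact inf_le_left,
    by show X.basicOpen (a.f * a'.f) ≤ X.basicOpen a'.f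
       rw [Scheme.basicOpen_mul]; exact inf_le_right⟩⟩

/-- the system of basic open neighbourhoods of `x`, over `T` -/
noncomputable def stD : BI x ⥤ Over T where
  obj a := Over.mk ((X.basicOpen a.f).ι ≫ b)
  map {a a'} h := Over.homMk (X.homOfLE (leOfHom h)) (by simp)
  map_id a := by
    ext
    exact X.homOfLE_rfl _
  map_comp h h' := by
    ext
    exact (X.homOfLE_homOfLE (leOfHom h) (leOfHom h')).symm

/-- the cone with vertex the spectrum of the stalk -/
noncomputable def stCone : Cone (stD x b) where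
  pt := Over.mk (X.fromSpecStalk x ≫ b)
  π :=
    { app := fun a => Over.homMk ((X.basicOpen a.f).fromSpecStalkOfMem x a.mem) (by
        simp [stD])
      naturality := by
        intro a a' h
        ext
        simp [stD, ← cancel_mono (X.basicOpen a'.f).ι] }

section Lift

variable {x b}
variable (s : Cone (stD x b ⋙ Over.forget T))

/-- the index `1` -/
def BI.one (x : X) : BI x := ⟨1, by rw [Scheme.basicOpen_one]; trivial⟩

/-- typed components -/
noncomputable def stσ (a : BI x) : s.pt ⟶ (X.basicOpen a.f).toScheme := s.π.app a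

theorem stσ_w {a a' : BI x} (h : a ⟶ a') : stσ s a ≫ X.homOfLE (leOfHom h) = stσ s a' := s.w h

theorem stσ_ι (a a' : BI x) :
    stσ s a ≫ (X.basicOpen a.f).ι = stσ s a' ≫ (X.basicOpen a'.f).ι := by
  obtain ⟨ν, h, h', -⟩ := IsCofilteredOrEmpty.cone_objs a a'
  rw [← stσ_w s h, ← stσ_w s h', Category.assoc, Category.assoc, Scheme.homOfLE_ι,
    Scheme.homOfLE_ι]

/-- the map to `X` -/
noncomputable def stG : s.pt ⟶ X := stσ s (BI.one x) ≫ (X.basicOpen (BI.one x).f).ι

theorem stG_eq (a : BI x) : stG s = stσ s a ≫ (X.basicOpen a.f).ι := stσ_ι s _ a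

theorem isUnit_stG (a : BI x) : IsUnit ((stG s).appTop a.f) := by
  have h : (stG s) ⁻¹ᵁ (X.basicOpen a.f) = ⊤ := by
    rw [stG_eq s a, Scheme.Hom.comp_preimage, Scheme.Opens.ι_preimage_self,
      Scheme.Hom.preimage_top]
  rw [Scheme.preimage_basicOpen_top] at h
  refine RingedSpace.isUnit_of_isUnit_germ s.pt.toLocallyRingedSpace.toRingedSpace ⊤ _ ?_
  intro w hw
  exact (Scheme.mem_basicOpen _ _ w hw).mp (by rw [h]; trivial)

variable [IsAffine X]

/-- the ring map out of the stalk -/
noncomputable def stψ : X.presheaf.stalk x ⟶ Γ(s.pt, ⊤) := by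
  letI := X.presheaf.algebra_section_stalk (U := ⊤) ⟨x, trivial⟩
  haveI := (isAffineOpen_top X).isLocalization_stalk ⟨x, trivial⟩
  exact CommRingCat.ofHom (IsLocalization.lift
    (M := ((isAffineOpen_top X).primeIdealOf ⟨x, trivial⟩).asIdeal.primeCompl)
    (S := X.presheaf.stalk x) (g := (stG s).appTop.hom) (by
      intro y
      have : x ∈ X.basicOpen y.1 := by
        rw [Scheme.mem_basicOpen_top]
        exact (IsLocalization.AtPrime.isUnit_to_map_iff (X.presheaf.stalk x) _ y.1).mpr y.2
      exact isUnit_stG s ⟨y.1, this⟩))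

theorem germ_stψ : X.presheaf.germ ⊤ x trivial ≫ stψ s = (stG s).appTop := by
  letI := X.presheaf.algebra_section_stalk (U := ⊤) ⟨x, trivial⟩
  haveI := (isAffineOpen_top X).isLocalization_stalk ⟨x, trivial⟩
  ext1
  exact IsLocalization.lift_comp _

/-- the lift -/
noncomputable def stLift : s.pt ⟶ Spec (X.presheaf.stalk x) := s.pt.toSpecΓ ≫ Spec.map (stψ s)

theorem stLift_fac : stLift s ≫ X.fromSpecStalk x = stG s := by
  apply ext_of_isAffine
  rw [Scheme.Hom.comp_appTop, Scheme.fromSpecStalk_appTop, stLift, Scheme.Hom.comp_appTop,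
    Scheme.toSpecΓ_appTop, ← germ_stψ s]
  simp [Scheme.ΓSpecIso_naturality]

end Lift

/-- `Spec 𝒪_{X,x}` is the limit of the basic open neighbourhoods of `x` (for `X` affine). -/
noncomputable def stIsLimit [IsAffine X] : IsLimit (stCone x b) := by
  haveI : IsConnected (BI x) := IsCofiltered.isConnected _
  apply isLimitOfReflects (Over.forget T)
  refine { lift := fun s => stLift s, fac := ?_, uniq := ?_ }
  · intro s a
    show stLift s ≫ (X.basicOpen a.f).fromSpecStalkOfMem x a.mem = stσ s a
    rw [← cancel_mono (X.basicOpen a.f).ι, Category.assoc, Scheme.Opens.fromSpecStalkOfMem_ι,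
      stLift_fac, stG_eq s a]
  · intro s m hm
    let m' : s.pt ⟶ Spec (X.presheaf.stalk x) := m
    show m' = stLift s
    rw [← cancel_mono (X.fromSpecStalk x), stLift_fac]
    show m' ≫ _ = stσ s (BI.one x) ≫ _
    rw [← (show m' ≫ (X.basicOpen (BI.one x).f).fromSpecStalkOfMem x (BI.one x).mem =
      stσ s (BI.one x) from hm _), Category.assoc, Scheme.Opens.fromSpecStalkOfMem_ι]

theorem stD_isAffineHom [IsAffine X] {a a' : BI x} (h : a ⟶ a') :
    IsAffineHom ((stD x b).map h).left := by
  show IsAffineHom (X.homOfLE (leOfHom h))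
  haveI : IsAffine (X.basicOpen a.f).toScheme :=
    ((isAffineOpen_top X).basicOpen a.f)
  haveI : IsAffine (X.basicOpen a'.f).toScheme :=
    ((isAffineOpen_top X).basicOpen a'.f)
  infer_instance

theorem stD_isAffine [IsAffine X] (a : BI x) : IsAffine ((stD x b).obj a).left :=
  ((isAffineOpen_top X).basicOpen a.f)

end StalkLim

end Groth.Agent.H5.NApprox
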