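import Mathlib
import Groth.Agent.Lib.Helper5.NApprox.IdlC

/-!
# Descending finiteness along a limit with closed immersions as transition maps (helper5)
-/

set_option autoImplicit false

namespace Groth.Agent.H5.NApprox

open AlgebraicGeometry CategoryTheory Opposite Limits

universe u

section Alg

/-- a surjection from an algebra generated by elements with integral images is integral -/
theorem isIntegral_comp_of_generators {A B C : Type*} [CommRing A] [CommRing B] [CommRing C]
    (φ : A →+* B) (ψ : B →+* C) (hψ : Function.Surjective ψ) (s : Set B)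
    (hs : @Algebra.adjoin A B _ _ φ.toAlgebra s = ⊤)
    (h : ∀ b ∈ s, (ψ.comp φ).IsIntegralElem (ψ b)) : (ψ.comp φ).IsIntegral := by
  letI := φ.toAlgebra
  letI := (ψ.comp φ).toAlgebra
  let ψ' : B →ₐ[A] C := { ψ with commutes' := fun a => rfl }
  have h1 : (⊤ : Subalgebra A B) ≤ (integralClosure A C).comap ψ' := by
    rw [← hs]
    apply Algebra.adjoin_le
    intro b hb
    exact h b hb
  intro c
  obtain ⟨b, rfl⟩ := hψ c
  exact h1 (Algebra.mem_top (x := b))

theorem exists_monic_eval₂_eq_zero {A B C : Type*} [CommRing A] [CommRing B] [CommRing C]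
    (φ : A →+* B) (ψ : B →+* C) (h : (ψ.comp φ).IsIntegral) (b : B) :
    ∃ P : Polynomial A, P.Monic ∧ ψ (P.eval₂ φ b) = 0 := by
  obtain ⟨P, hP, hP0⟩ := h (ψ b)
  exact ⟨P, hP, by rw [Polynomial.hom_eval₂]; exact hP0⟩

theorem isIntegralElem_of_eval₂_eq_zero {A B C : Type*} [CommRing A] [CommRing B] [CommRing C]
    (φ : A →+* B) (ψ : B →+* C) (b : B) (P : Polynomial A) (hP : P.Monic)
    (h : ψ (P.eval₂ φ b) = 0) : (ψ.comp φ).IsIntegralElem (ψ b) :=
  ⟨P, hP, by rw [← Polynomial.hom_eval₂]; exact h⟩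

end Alg

/-- integrality of an affine morphism can be checked on an affine cover of the target -/
theorem isIntegralHom_of_cover {V S : Scheme.{u}} (g : V ⟶ S) [IsAffineHom g] {J : Type*}
    (U : J → S.Opens) (hU : ∀ j, IsAffineOpen (U j)) (hcov : ⨆ j, U j = ⊤)
    (h : ∀ j, (g.app (U j)).hom.IsIntegral) : IsIntegralHom g := by
  rw [HasAffineProperty.iff_of_iSup_eq_top (P := @IsIntegralHom) (fun j => ⟨U j, hU j⟩) hcov]
  intro j
  refine ⟨(hU j).preimage g, ?_⟩
  show RingHom.IsIntegral (g ∣_ U j).appTop.hom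
  have h2 : RingHom.IsIntegral (g.app ((U j).ι ''ᵁ ⊤)).hom := by
    rw [Scheme.Opens.ι_image_top]
    exact h j
  rw [morphismRestrict_appTop]
  exact (RingHom.isIntegral_respectsIso.cancel_right_isIso _ _).mpr h2

section SchSys

variable {I : Type u} [Preorder I] [IsDirected I (· ≤ ·)] [Nonempty I]
  (D : Iᵒᵖ ⥤ Scheme.{u}) (c : Cone D) (hc : IsLimit c)

omit [Preorder I] [IsDirected I (· ≤ ·)] [Nonempty I] in
theorem app_comp_eq_zero {X Y Z : Scheme.{u}} (f : X ⟶ Y) (g : Y ⟶ Z) (h : X ⟶ Z)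
    (hh : h = f ≫ g) (V : Z.Opens) (s : Γ(Z, V)) (hs : g.app V s = 0) : h.app V s = 0 := by
  subst hh
  show f.app _ (g.app V s) = 0
  rw [hs, map_zero]

omit [IsDirected I (· ≤ ·)] [Nonempty I] in
/-- vanishing at a stage persists at later stages -/
theorem app_eq_zero_of_le {i' j i₁ : Iᵒᵖ} (a : i' ⟶ j) (g : j ⟶ i₁) (t : i' ⟶ i₁)
    (V : (D.obj i₁).Opens) (s : Γ(D.obj i₁, V)) (h : (D.map g).app V s = 0) :
    (D.map t).app V s = 0 := by
  have ht : D.map t = D.map a ≫ D.map g := by
    rw [← Functor.map_comp]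
    congr 1
  exact app_comp_eq_zero (D.map a) (D.map g) (D.map t) ht V s h

include hc in
theorem exists_isIntegral_stage [∀ {i j : Iᵒᵖ} (a : i ⟶ j), IsClosedImmersion (D.map a)]
    (i₁ : I) {S : Scheme.{u}} (p : D.obj (op i₁) ⟶ S) [IsAffineHom p] [LocallyOfFiniteType p]
    [IsIntegralHom (c.π.app (op i₁) ≫ p)] (U : S.Opens) (hU : IsAffineOpen U) :
    ∃ i : I, i₁ ≤ i ∧ ∀ i' (t : op i' ⟶ op i₁), i ≤ i' →
      ((D.map t ≫ p).app U).hom.IsIntegral := by
  classical
  let π : c.pt ⟶ D.obj (op i₁) := c.π.app (op i₁)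
  let V : (D.obj (op i₁)).Opens := p ⁻¹ᵁ U
  have hV : IsAffineOpen V := hU.preimage p
  let φ : Γ(S, U) →+* Γ(D.obj (op i₁), V) := (p.app U).hom
  have hφ : φ.FiniteType := by
    have := Scheme.Hom.finiteType_appLE p hU hV le_rfl
    rwa [← Scheme.Hom.app_eq_appLE] at this
  obtain ⟨s, hs⟩ := hφ.out
  have h1 : ∀ b : Γ(D.obj (op i₁), V), ∃ Q : Polynomial Γ(S, U), Q.Monic ∧
      (π.app V).hom (Q.eval₂ φ b) = 0 := by
    intro b
    have h := IsIntegralHom.isIntegral_app (π ≫ p) U hU
    have h' : ((π.app V).hom.comp φ).IsIntegral := h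
    exact exists_monic_eval₂_eq_zero φ (π.app V).hom h' b
  choose Q hQ hQ0 using h1
  have h2 : ∀ b : Γ(D.obj (op i₁), V), ∃ (k : Iᵒᵖ) (g : k ⟶ op i₁),
      (D.map g).app V ((Q b).eval₂ φ b) = 0 := by
    intro b
    exact exists_app_map_eq_zero_of_isLimit D c hc hV.isCompact _ (hQ0 b)
  choose kb gb hgb using h2
  obtain ⟨M, hM⟩ := Finset.exists_le (insert i₁ (s.image fun b => (kb b).unop))
  refine ⟨M, hM i₁ (Finset.mem_insert_self _ _), fun i' t hi' => ?_⟩
  let ψ : Γ(D.obj (op i₁), V) →+* Γ(D.obj (op i'), D.map t ⁻¹ᵁ V) := ((D.map t).app V).hom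
  have hψ : Function.Surjective ψ := (D.map t).app_surjective V hV
  have h3 : (ψ.comp φ).IsIntegral := by
    refine isIntegral_comp_of_generators φ ψ hψ (s : Set _) hs fun b hb => ?_
    refine isIntegralElem_of_eval₂_eq_zero φ ψ b (Q b) (hQ b) ?_
    have hkb : (kb b).unop ≤ i' :=
      (hM _ (Finset.mem_insert_of_mem (Finset.mem_image_of_mem _ hb))).trans hi'
    exact app_eq_zero_of_le D (homOfLE hkb).op (gb b) t V _ (hgb b)
  exact h3

end SchSys

section RelSys

variable {I : Type u} [Preorder I] [IsDirected I (· ≤ ·)] [Nonempty I] {S : Scheme.{u}}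
  (D : Iᵒᵖ ⥤ Over S) (c : Cone D) (hc : IsLimit c)

include hc in
/-- If the limit of a system of schemes over a quasi-compact base with closed immersions as
transition maps is integral over the base, and some stage is affine and of finite type over the
base, then all sufficiently late stages are finite over the base. -/
theorem exists_isFinite_stage [CompactSpace S]
    (hcl : ∀ (i j : Iᵒᵖ) (a : i ⟶ j), IsClosedImmersion (D.map a).left)
    (i₁ : I) [IsAffineHom (D.obj (op i₁)).hom] [LocallyOfFiniteType (D.obj (op i₁)).hom]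
    [IsIntegralHom c.pt.hom] :
    ∃ i₀ : I, i₁ ≤ i₀ ∧ ∀ i, i₀ ≤ i → IsFinite (D.obj (op i)).hom := by
  classical
  haveI : ∀ {i j : Iᵒᵖ} (a : i ⟶ j), IsClosedImmersion ((D ⋙ Over.forget S).map a) :=
    fun a => hcl _ _ a
  obtain ⟨J, hJ, U, -, hU, hUa, -, -⟩ := exists_finite_affine_cover (𝟙 S)
  have hw : ∀ {i j : Iᵒᵖ} (a : i ⟶ j),
      (D ⋙ Over.forget S).map a ≫ (D.obj j).hom = (D.obj i).hom :=
    fun a => Over.w (D.map a)
  let p : (D ⋙ Over.forget S).obj (op i₁) ⟶ S := (D.obj (op i₁)).hom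
  haveI : IsAffineHom p := ‹IsAffineHom (D.obj (op i₁)).hom›
  haveI : LocallyOfFiniteType p := ‹LocallyOfFiniteType (D.obj (op i₁)).hom›
  have hπp : ((Over.forget S).mapCone c).π.app (op i₁) ≫ p = c.pt.hom :=
    Over.w (c.π.app (op i₁))
  haveI : IsIntegralHom (((Over.forget S).mapCone c).π.app (op i₁) ≫ p) := by
    rw [hπp]
    assumption
  have key : ∀ j : J, ∃ i : I, i₁ ≤ i ∧ ∀ i' (t : op i' ⟶ op i₁), i ≤ i' →
      (((D ⋙ Over.forget S).map t ≫ p).app (U j)).hom.IsIntegral := fun j =>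
    exists_isIntegral_stage (D ⋙ Over.forget S) ((Over.forget S).mapCone c)
      (isLimitForget D c hc) i₁ p (U j) (hUa j)
  choose ij hij1 hij using key
  cases nonempty_fintype J
  obtain ⟨M, hM⟩ := Finset.exists_le (insert i₁ (Finset.univ.image ij))
  refine ⟨M, hM i₁ (Finset.mem_insert_self _ _), fun i hi => ?_⟩
  have hi₁ : i₁ ≤ i := (hM i₁ (Finset.mem_insert_self _ _)).trans hi
  let t : op i ⟶ op i₁ := (homOfLE hi₁).op
  have ht : (D ⋙ Over.forget S).map t ≫ p = (D.obj (op i)).hom := hw t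
  haveI : IsAffineHom ((D ⋙ Over.forget S).map t ≫ p) := inferInstance
  have hlft : LocallyOfFiniteType ((D ⋙ Over.forget S).map t ≫ p) := inferInstance
  have hint : IsIntegralHom ((D ⋙ Over.forget S).map t ≫ p) :=
    isIntegralHom_of_cover _ U hUa hU fun j => hij j i t ((hM _ (Finset.mem_insert_of_mem
      (Finset.mem_image_of_mem _ (Finset.mem_univ j)))).trans hi)
  have hfin : IsFinite ((D ⋙ Over.forget S).map t ≫ p) :=
    (IsFinite.iff_isIntegralHom_and_locallyOfFiniteType _).mpr ⟨hint, hlft⟩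
  rw [← ht]
  exact hfin

end RelSys

/-- A scheme finite over a qcqs base is a directed limit of schemes finite and of finite
presentation over the base with closed immersions as transition maps. -/
theorem exists_limit_finite_closedImmersion_transitions {X S : Scheme.{u}} (f : X ⟶ S)
    [IsFinite f] [CompactSpace S] [QuasiSeparatedSpace S] :
    ∃ (I : Type u) (_ : Preorder I) (_ : IsDirected I (fun a b => a ≤ b)) (_ : Nonempty I)
      (D : Iᵒᵖ ⥤ Over S) (c : Limits.Cone D) (_ : Limits.IsLimit c),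
      (∀ i, IsFinite (D.obj i).hom ∧ LocallyOfFinitePresentation (D.obj i).hom) ∧
      (∀ (i j : Iᵒᵖ) (a : i ⟶ j), IsClosedImmersion (D.map a).left) ∧
      Nonempty (c.pt ≅ Over.mk f) := by
  haveI : CompactSpace X := QuasiCompact.compactSpace_of_compactSpace f
  haveI : QuasiSeparatedSpace X := quasiSeparatedSpace_of_quasiSeparated f
  obtain ⟨I, pI, dI, nI, D, c, hc, hprops, hcl, ⟨e⟩⟩ :=
    exists_limit_closedImmersion_transitions f
  have hpt : c.pt.hom = e.hom.left ≫ f := (Over.w e.hom).symm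
  haveI : IsFinite c.pt.hom := by
    rw [hpt]
    infer_instance
  haveI : IsAffineHom c.pt.hom := inferInstance
  haveI : IsIntegralHom c.pt.hom := inferInstance
  obtain ⟨i₁, hi₁⟩ := exists_isAffineHom_stage D c hc
    (fun i j a => by haveI := hcl i j a; infer_instance) (fun i => (hprops i).2.1)
    (fun i => (hprops i).2.2.1)
  haveI : IsAffineHom (D.obj (op i₁)).hom := hi₁ i₁ le_rfl
  haveI : LocallyOfFiniteType (D.obj (op i₁)).hom := by
    haveI := (hprops (op i₁)).1
    infer_instance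
  obtain ⟨i₀, hi₀₁, hi₀⟩ := exists_isFinite_stage D c hc hcl i₁
  refine ⟨Ge i₀, inferInstance, inferInstance, inferInstance,
    (geIncl i₀).monotone.functor.op ⋙ D, c.whisker (geIncl i₀).monotone.functor.op,
    isLimitRestrictGe i₀ hc, ?_, ?_, ⟨e⟩⟩
  · intro i
    exact ⟨hi₀ i.unop.1 i.unop.2, (hprops _).1⟩
  · intro i j a
    exact hcl _ _ _

/-- A finite morphism to a qcqs scheme factors as a closed immersion followed by a finite
morphism of finite presentation. -/
theorem exists_closedImmersion_finite_fp {X S : Scheme.{u}} (f : X ⟶ S) [IsFinite f]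
    [CompactSpace S] [QuasiSeparatedSpace S] :
    ∃ (X' : Scheme.{u}) (f' : X' ⟶ S) (j : X ⟶ X'), IsFinite f' ∧
      LocallyOfFinitePresentation f' ∧ IsClosedImmersion j ∧ j ≫ f' = f := by
  haveI : CompactSpace X := QuasiCompact.compactSpace_of_compactSpace f
  obtain ⟨I, pI, dI, nI, D, c, hc, hprops, hcl, ⟨e⟩⟩ :=
    exists_limit_finite_closedImmersion_transitions f
  haveI : LocallyOfFiniteType c.pt.hom := by
    have : c.pt.hom = e.hom.left ≫ f := (Over.w e.hom).symm
    rw [this]
    infer_instance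
  haveI : CompactSpace c.pt.left := by
    haveI : CompactSpace (Over.mk f).left := ‹CompactSpace X›
    exact QuasiCompact.compactSpace_of_compactSpace e.hom.left
  obtain ⟨i₀, hi₀⟩ := exists_isClosedImmersion_stage D c hc
    (fun i j a => by haveI := hcl i j a; infer_instance)
    (fun i => by
      haveI := (hprops i).1
      exact QuasiCompact.compactSpace_of_compactSpace (D.obj i).hom)
  haveI := hi₀ i₀ le_rfl
  refine ⟨(D.obj (op i₀)).left, (D.obj (op i₀)).hom, e.inv.left ≫ (c.π.app (op i₀)).left,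
    (hprops _).1, (hprops _).2, inferInstance, ?_⟩
  rw [Category.assoc, Over.w (c.π.app (op i₀))]
  exact Over.w e.inv

end Groth.Agent.H5.NApprox
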