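import Mathlib
import Groth.Agent.Lib.Helper5.NApprox.LimFin

/-!
# Finite finitely presented closed subschemes containing the image of an integral scheme
(helper5)
-/

set_option autoImplicit false

namespace Groth.Agent.H5.NApprox

open AlgebraicGeometry CategoryTheory Opposite Limits

universe u

/-- the scheme-theoretic image of a scheme integral over `S` in a scheme affine over `S` is
integral over `S` -/
theorem isIntegralHom_image {X' P S : Scheme.{u}} (f : X' ⟶ P) (p : P ⟶ S) [IsAffineHom p]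
    [QuasiCompact f] [IsIntegralHom (f ≫ p)] : IsIntegralHom (f.ker.subschemeι ≫ p) := by
  haveI : IsAffineHom (f.ker.subschemeι ≫ p) := inferInstance
  refine ⟨fun U hU => ?_⟩
  have hV : IsAffineOpen (p ⁻¹ᵁ U) := hU.preimage p
  let φ : Γ(S, U) →+* Γ(P, p ⁻¹ᵁ U) := (p.app U).hom
  have h : ((f.app (p ⁻¹ᵁ U)).hom.comp φ).IsIntegral :=
    IsIntegralHom.isIntegral_app (f ≫ p) U hU
  have goal : ((f.ker.subschemeι.app (p ⁻¹ᵁ U)).hom.comp φ).IsIntegral := by
    intro y
    obtain ⟨b, rfl⟩ := f.ker.subschemeι.app_surjective (p ⁻¹ᵁ U) hV y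
    obtain ⟨Q, hQ, hQ0⟩ := exists_monic_eval₂_eq_zero φ (f.app (p ⁻¹ᵁ U)).hom h b
    refine isIntegralElem_of_eval₂_eq_zero φ (f.ker.subschemeι.app (p ⁻¹ᵁ U)).hom b Q hQ ?_
    have h1 : Q.eval₂ φ b ∈ RingHom.ker (f.app (p ⁻¹ᵁ U)).hom := hQ0
    rw [← Scheme.Hom.ker_apply f ⟨p ⁻¹ᵁ U, hV⟩,
      ← Scheme.IdealSheafData.ker_subschemeι_app f.ker ⟨p ⁻¹ᵁ U, hV⟩] at h1
    exact h1
  exact goal

/-- a closed subscheme through which `π` factors gives an ideal sheaf inside the kernel of
`π`, with the same properties -/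
theorem exists_ideal_of_closedImmersion {X' Z P S : Scheme.{u}} (π : X' ⟶ P) (p : P ⟶ S)
    (c : Z ⟶ P) [IsClosedImmersion c] [LocallyOfFinitePresentation c] [IsFinite (c ≫ p)]
    (l : X' ⟶ Z) (hl : l ≫ c = π) :
    c.ker ≤ π.ker ∧ LocallyOfFinitePresentation c.ker.subschemeι ∧
      IsFinite (c.ker.subschemeι ≫ p) := by
  have e : c.toImage ≫ c.ker.subschemeι = c := c.toImage_imageι
  have e' : c.ker.subschemeι = inv c.toImage ≫ c := by
    rw [IsIso.eq_inv_comp, e]
  refine ⟨?_, ?_, ?_⟩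
  · rw [← hl]
    exact Scheme.Hom.le_ker_comp l c
  · rw [e']
    infer_instance
  · rw [e', Category.assoc]
    infer_instance

/-- Existence of a finitely presented closed subscheme, finite over `S`, containing the image
of a scheme integral over `S`. -/
theorem exists_finite_fp_ideal {X' P S : Scheme.{u}} (π : X' ⟶ P) (p : P ⟶ S) [IsAffineHom p]
    [LocallyOfFinitePresentation p] [CompactSpace S] [QuasiSeparatedSpace S] [QuasiCompact π]
    [IsIntegralHom (π ≫ p)] :
    ∃ K : P.IdealSheafData, K ≤ π.ker ∧ LocallyOfFinitePresentation K.subschemeι ∧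
      IsFinite (K.subschemeι ≫ p) := by
  haveI : CompactSpace P := QuasiCompact.compactSpace_of_compactSpace p
  haveI : QuasiSeparatedSpace P := quasiSeparatedSpace_of_quasiSeparated p
  obtain ⟨I, pI, dI, nI, D₀, c₀, hc₀, haff, hft, ⟨e⟩⟩ := absApprox P
  haveI : ∀ {i j : Iᵒᵖ} (f : i ⟶ j), IsAffineHom (D₀.map f) := fun f => haff _ _ f
  haveI : ∀ i, CompactSpace (D₀.obj i) := fun i => (hft i).1
  haveI : ∀ i, LocallyOfFiniteType (toZ (D₀.obj i)) := fun i => (hft i).2
  haveI : ∀ i, QuasiSeparatedSpace (D₀.obj i) := fun i => quasiSeparatedSpace_of_lft (D₀.obj i)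
  haveI : ∀ i, IsLocallyNoetherian (D₀.obj i) := fun i =>
    LocallyOfFiniteType.isLocallyNoetherian (toZ (D₀.obj i))
  let q : c₀.pt ⟶ S := e.hom ≫ p
  haveI : IsAffineHom q := inferInstance
  haveI : LocallyOfFinitePresentation q := inferInstance
  let π' : X' ⟶ c₀.pt := π ≫ e.inv
  haveI : QuasiCompact π' := inferInstance
  have hπ'q : π' ≫ q = π ≫ p := by
    simp only [π', q, Category.assoc, Iso.inv_hom_id_assoc]
  haveI : IsIntegralHom (π' ≫ q) := by
    rw [hπ'q]
    infer_instance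
  let K₀ : c₀.pt.IdealSheafData := π'.ker
  haveI : IsIntegralHom (K₀.subschemeι ≫ q) := isIntegralHom_image π' q
  let A := apxIdeal D₀ c₀ K₀
  have hA : ∀ {μ μ' : Iᵒᵖ} (_ : μ' ⟶ μ), A μ ≤ A μ' := fun a => apxIdeal_mono D₀ c₀ K₀ a
  have hAK : ∀ μ, A μ ≤ K₀ := apxIdeal_le D₀ c₀ K₀
  have i₁ : I := nI.some
  haveI : IsAffineHom ((clD q A hA).obj (op i₁)).hom := by
    show IsAffineHom ((A (op i₁)).subschemeι ≫ q)
    infer_instance
  haveI : LocallyOfFiniteType ((clD q A hA).obj (op i₁)).hom := by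
    show LocallyOfFiniteType ((A (op i₁)).subschemeι ≫ q)
    infer_instance
  haveI : IsIntegralHom (clCone q A hA K₀ hAK).pt.hom := by
    show IsIntegralHom (K₀.subschemeι ≫ q)
    infer_instance
  obtain ⟨i₀, -, hi₀⟩ := exists_isFinite_stage (clD q A hA) (clCone q A hA K₀ hAK)
    (clIsLimit q A hA K₀ hAK (exists_mem_apxIdeal D₀ c₀ hc₀ K₀))
    (fun i j a => by
      show IsClosedImmersion (Scheme.IdealSheafData.inclusion _)
      infer_instance) i₁
  have hfin : IsFinite ((A (op i₀)).subschemeι ≫ q) := hi₀ i₀ le_rfl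
  haveI := apxIdeal_lfp D₀ c₀ K₀ (op i₀)
  let c : (A (op i₀)).subscheme ⟶ P := (A (op i₀)).subschemeι ≫ e.hom
  haveI : IsClosedImmersion c := inferInstance
  haveI : LocallyOfFinitePresentation c := inferInstance
  haveI : IsFinite (c ≫ p) := by
    have : c ≫ p = (A (op i₀)).subschemeι ≫ q := by
      simp only [c, q, Category.assoc]
    rw [this]
    exact hfin
  let l : X' ⟶ (A (op i₀)).subscheme :=
    π'.toImage ≫ Scheme.IdealSheafData.inclusion (hAK (op i₀))
  have hl : l ≫ c = π := by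
    simp only [l, c, Category.assoc, Scheme.IdealSheafData.inclusion_subschemeι_assoc]
    rw [← Category.assoc]
    have : π'.toImage ≫ K₀.subschemeι = π' := π'.toImage_imageι
    rw [this]
    simp only [π', Category.assoc, Iso.inv_hom_id, Category.comp_id]
  exact ⟨c.ker, exists_ideal_of_closedImmersion π p c l hl⟩

end Groth.Agent.H5.NApprox
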