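import Mathlib
import Groth.Agent.Lib.Helper5.NApprox.IntA

/-!
# A scheme integral over a qcqs base as a limit of finite finitely presented schemes (helper5)
-/

set_option autoImplicit false

namespace Groth.Agent.H5.NApprox

open AlgebraicGeometry CategoryTheory Opposite Limits

universe u

section IntSys

variable {I : Type u} [Preorder I] {S : Scheme.{u}} (D : Iᵒᵖ ⥤ Over S) (c : Cone D)

/-- the stages -/
def stg (i : I) : Scheme.{u} := (D.obj (op i)).left

def stgHom (i : I) : stg D i ⟶ S := (D.obj (op i)).hom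

def stgT {i j : I} (h : i ≤ j) : stg D j ⟶ stg D i := (D.map (homOfLE h).op).left

def stgπ (i : I) : c.pt.left ⟶ stg D i := (c.π.app (op i)).left

theorem stgT_hom {i j : I} (h : i ≤ j) : stgT D h ≫ stgHom D i = stgHom D j :=
  Over.w (D.map (homOfLE h).op)

theorem stgπ_T {i j : I} (h : i ≤ j) : stgπ D c j ≫ stgT D h = stgπ D c i := by
  have := c.w (homOfLE h).op
  exact congrArg (fun m => m.left) this

theorem stgπ_hom (i : I) : stgπ D c i ≫ stgHom D i = c.pt.hom :=
  Over.w (c.π.app (op i))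

theorem stgT_refl (i : I) (h : i ≤ i) : stgT D h = 𝟙 (stg D i) := by
  have : (homOfLE h).op = 𝟙 (op i) := Subsingleton.elim _ _
  unfold stgT
  rw [this, D.map_id]
  rfl

theorem stgT_trans {i j k : I} (h₁ : i ≤ j) (h₂ : j ≤ k) :
    stgT D h₂ ≫ stgT D h₁ = stgT D (h₁.trans h₂) := by
  have : (homOfLE (h₁.trans h₂)).op = (homOfLE h₂).op ≫ (homOfLE h₁).op := Subsingleton.elim _ _
  unfold stgT
  rw [this, D.map_comp]
  rfl

/-- admissible ideal sheaves on a stage -/
structure Valid (i : I) (K : (stg D i).IdealSheafData) : Prop where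
  le_ker : K ≤ (stgπ D c i).ker
  lfp : LocallyOfFinitePresentation K.subschemeι
  fin : IsFinite (K.subschemeι ≫ stgHom D i)

/-- the index type -/
structure Idx : Type u where
  i : I
  K : (stg D i).IdealSheafData
  valid : Valid D c i K

instance : Preorder (Idx D c) where
  le a b := a.i ≤ b.i ∧ ∀ h : a.i ≤ b.i, a.K.comap (stgT D h) ≤ b.K
  le_refl a := ⟨le_rfl, fun h => by
    rw [stgT_refl, Scheme.IdealSheafData.comap_id]⟩
  le_trans a b d hab hbd := ⟨hab.1.trans hbd.1, fun h => by
    rw [← stgT_trans D hab.1 hbd.1, Scheme.IdealSheafData.comap_comp]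
    exact (Scheme.IdealSheafData.comap_mono _ (hab.2 hab.1)).trans (hbd.2 hbd.1)⟩

theorem idx_le_iff (a b : Idx D c) :
    a ≤ b ↔ a.i ≤ b.i ∧ ∀ h : a.i ≤ b.i, a.K.comap (stgT D h) ≤ b.K := Iff.rfl

/-- the transition maps -/
noncomputable def idxT {a b : Idx D c} (h : a ≤ b) : b.K.subscheme ⟶ a.K.subscheme :=
  Scheme.IdealSheafData.subschemeMap b.K a.K (stgT D h.1)
    (Scheme.IdealSheafData.le_map_iff_comap_le.mpr (h.2 h.1))

theorem idxT_ι {a b : Idx D c} (h : a ≤ b) :
    idxT D c h ≫ a.K.subschemeι = b.K.subschemeι ≫ stgT D h.1 :=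
  Scheme.IdealSheafData.subschemeMap_subschemeι _ _ _ _

theorem idxT_refl (a : Idx D c) (h : a ≤ a) : idxT D c h = 𝟙 _ := by
  rw [← cancel_mono a.K.subschemeι, idxT_ι, stgT_refl, Category.comp_id, Category.id_comp]

theorem idxT_trans {a b d : Idx D c} (h₁ : a ≤ b) (h₂ : b ≤ d) :
    idxT D c h₂ ≫ idxT D c h₁ = idxT D c (h₁.trans h₂) := by
  rw [← cancel_mono a.K.subschemeι, Category.assoc, idxT_ι, ← Category.assoc, idxT_ι,
    Category.assoc, stgT_trans, idxT_ι]

theorem idxT_hom {a b : Idx D c} (h : a ≤ b) :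
    idxT D c h ≫ a.K.subschemeι ≫ stgHom D a.i = b.K.subschemeι ≫ stgHom D b.i := by
  rw [← Category.assoc, idxT_ι, Category.assoc, stgT_hom]

/-- the system of finite finitely presented closed subschemes of the stages -/
noncomputable def sysD : (Idx D c)ᵒᵖ ⥤ Over S where
  obj a := Over.mk (a.unop.K.subschemeι ≫ stgHom D a.unop.i)
  map {a b} f := Over.homMk (idxT D c (leOfHom f.unop)) (idxT_hom D c (leOfHom f.unop))
  map_id a := by
    ext
    exact idxT_refl D c a.unop le_rfl
  map_comp {a b d} f g := by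
    ext
    exact (idxT_trans D c (leOfHom g.unop) (leOfHom f.unop)).symm

/-- the map from the limit to an admissible closed subscheme -/
noncomputable def idxLift (a : Idx D c) : c.pt.left ⟶ a.K.subscheme :=
  IsClosedImmersion.lift a.K.subschemeι (stgπ D c a.i) (by
    rw [Scheme.IdealSheafData.ker_subschemeι]
    exact a.valid.le_ker)

theorem idxLift_ι (a : Idx D c) : idxLift D c a ≫ a.K.subschemeι = stgπ D c a.i :=
  IsClosedImmersion.lift_fac _ _ _

theorem idxLift_hom (a : Idx D c) :
    idxLift D c a ≫ a.K.subschemeι ≫ stgHom D a.i = c.pt.hom := by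
  rw [← Category.assoc, idxLift_ι, stgπ_hom]

theorem idxLift_T {a b : Idx D c} (h : a ≤ b) :
    idxLift D c b ≫ idxT D c h = idxLift D c a := by
  rw [← cancel_mono a.K.subschemeι, idxLift_ι, Category.assoc, idxT_ι, ← Category.assoc,
    idxLift_ι, stgπ_T]

/-- the cone with vertex the original limit -/
noncomputable def sysCone : Cone (sysD D c) where
  pt := c.pt
  π :=
    { app := fun a => Over.homMk (idxLift D c a.unop) (idxLift_hom D c a.unop)
      naturality := fun a b f => Over.OverMorphism.ext (by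
        have h1 := idxLift_T D c (leOfHom f.unop)
        show 𝟙 c.pt.left ≫ idxLift D c b.unop =
          idxLift D c a.unop ≫ idxT D c (leOfHom f.unop)
        rw [Category.id_comp]
        exact h1.symm) }

theorem comap_le_ker {i j : I} (h : i ≤ j) {K : (stg D i).IdealSheafData}
    (hK : K ≤ (stgπ D c i).ker) : K.comap (stgT D h) ≤ (stgπ D c j).ker := by
  rw [← Scheme.IdealSheafData.le_map_iff_comap_le, Scheme.IdealSheafData.map_ker, stgπ_T]
  exact hK

omit [Preorder I] in
theorem lfp_comap {X Y : Scheme.{u}} (t : X ⟶ Y) (K : Y.IdealSheafData)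
    [LocallyOfFinitePresentation K.subschemeι] :
    LocallyOfFinitePresentation (K.comap t).subschemeι := by
  rw [← Scheme.IdealSheafData.comapIso_hom_fst]
  haveI : LocallyOfFinitePresentation (pullback.fst t K.subschemeι) :=
    MorphismProperty.pullback_fst (P := @LocallyOfFinitePresentation) _ _ inferInstance
  infer_instance

/-- enlarging an admissible ideal sheaf so as to contain a given finitely presented one -/
theorem exists_valid_ge (j : I) {L : (stg D j).IdealSheafData} (hL : Valid D c j L)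
    {K' : (stg D j).IdealSheafData} (hK' : K' ≤ (stgπ D c j).ker)
    (hK'lfp : LocallyOfFinitePresentation K'.subschemeι) :
    ∃ M, Valid D c j M ∧ L ≤ M ∧ K' ≤ M := by
  haveI := hL.lfp
  haveI := hL.fin
  haveI := hK'lfp
  let J : L.subscheme.IdealSheafData := K'.comap L.subschemeι
  haveI : LocallyOfFinitePresentation J.subschemeι := lfp_comap L.subschemeι K'
  let cc : J.subscheme ⟶ stg D j := J.subschemeι ≫ L.subschemeι
  haveI : IsClosedImmersion cc := inferInstance
  haveI : LocallyOfFinitePresentation cc := inferInstance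
  haveI : IsFinite (cc ≫ stgHom D j) := by
    show IsFinite ((J.subschemeι ≫ L.subschemeι) ≫ stgHom D j)
    rw [Category.assoc]
    infer_instance
  let l₀ : c.pt.left ⟶ L.subscheme := IsClosedImmersion.lift L.subschemeι (stgπ D c j) (by
    rw [Scheme.IdealSheafData.ker_subschemeι]
    exact hL.le_ker)
  have hl₀ : l₀ ≫ L.subschemeι = stgπ D c j := IsClosedImmersion.lift_fac _ _ _
  have hJ : J ≤ l₀.ker := by
    rw [← Scheme.IdealSheafData.le_map_iff_comap_le, Scheme.IdealSheafData.map_ker, hl₀]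
    exact hK'
  let l : c.pt.left ⟶ J.subscheme := IsClosedImmersion.lift J.subschemeι l₀ (by
    rw [Scheme.IdealSheafData.ker_subschemeι]
    exact hJ)
  have hl : l ≫ cc = stgπ D c j := by
    show l ≫ J.subschemeι ≫ L.subschemeι = _
    rw [← Category.assoc, IsClosedImmersion.lift_fac, hl₀]
  obtain ⟨h1, h2, h3⟩ := exists_ideal_of_closedImmersion (stgπ D c j) (stgHom D j) cc l hl
  have hM : cc.ker = J.map L.subschemeι := by
    show (J.subschemeι ≫ L.subschemeι).ker = _
    rw [Scheme.Hom.ker_comp, Scheme.IdealSheafData.ker_subschemeι]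
  refine ⟨cc.ker, ⟨h1, h2, h3⟩, ?_, ?_⟩
  · rw [hM]
    calc L = L.subschemeι.ker := (Scheme.IdealSheafData.ker_subschemeι L).symm
      _ = (⊥ : L.subscheme.IdealSheafData).map L.subschemeι :=
          (Scheme.IdealSheafData.map_bot L.subschemeι).symm
      _ ≤ J.map L.subschemeι := Scheme.IdealSheafData.map_mono L.subschemeι bot_le
  · rw [hM]
    exact Scheme.IdealSheafData.le_map_comap K' L.subschemeι

section Hyp

variable [CompactSpace S] [QuasiSeparatedSpace S]
  (haffS : ∀ i, IsAffineHom (stgHom D i))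
  (hlfp : ∀ i, LocallyOfFinitePresentation (stgHom D i)) [IsIntegralHom c.pt.hom]

include haffS hlfp in
theorem exists_valid (i : I) : ∃ K, Valid D c i K := by
  haveI := haffS i
  haveI := hlfp i
  haveI : IsIntegralHom (stgπ D c i ≫ stgHom D i) := by
    rw [stgπ_hom]
    infer_instance
  haveI : IsAffineHom (stgπ D c i ≫ stgHom D i) := inferInstance
  haveI : IsAffineHom (stgπ D c i) := IsAffineHom.of_comp (stgπ D c i) (stgHom D i)
  obtain ⟨K, h1, h2, h3⟩ := exists_finite_fp_ideal (stgπ D c i) (stgHom D i)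
  exact ⟨K, ⟨h1, h2, h3⟩⟩

include haffS hlfp in
theorem idx_nonempty [Nonempty I] : Nonempty (Idx D c) := by
  obtain ⟨i⟩ := ‹Nonempty I›
  obtain ⟨K, hK⟩ := exists_valid D c haffS hlfp i
  exact ⟨⟨i, K, hK⟩⟩

include haffS hlfp in
/-- common upper bounds in the index type -/
theorem exists_idx_ge (a b : Idx D c) (k : I) (hik : a.i ≤ k) (hjk : b.i ≤ k) :
    ∃ d : Idx D c, d.i = k ∧ a ≤ d ∧ b ≤ d := by
  obtain ⟨M₀, hM₀⟩ := exists_valid D c haffS hlfp k
  haveI := a.valid.lfp
  haveI := b.valid.lfp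
  obtain ⟨M₁, hM₁, h01, ha⟩ := exists_valid_ge D c k hM₀ (comap_le_ker D c hik a.valid.le_ker)
    (lfp_comap _ _)
  obtain ⟨M₂, hM₂, h12, hb⟩ := exists_valid_ge D c k hM₁ (comap_le_ker D c hjk b.valid.le_ker)
    (lfp_comap _ _)
  exact ⟨⟨k, M₂, hM₂⟩, rfl, ⟨hik, fun _ => ha.trans h12⟩, ⟨hjk, fun _ => hb⟩⟩

include haffS hlfp in
theorem idx_directed [IsDirected I (· ≤ ·)] : IsDirected (Idx D c) (· ≤ ·) :=
  ⟨fun a b => by
    obtain ⟨k, hik, hjk⟩ := exists_ge_ge a.i b.i
    obtain ⟨d, -, h1, h2⟩ := exists_idx_ge D c haffS hlfp a b k hik hjk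
    exact ⟨d, h1, h2⟩⟩

end Hyp

section Lim

variable [CompactSpace S] [QuasiSeparatedSpace S]
  (haffS : ∀ i, IsAffineHom (stgHom D i))
  (hlfp : ∀ i, LocallyOfFinitePresentation (stgHom D i)) [IsIntegralHom c.pt.hom]

/-- typed components of a cone -/
noncomputable def coneρ (s : Cone (sysD D c)) (a : Idx D c) : s.pt.left ⟶ a.K.subscheme :=
  (s.π.app (op a)).left

omit [CompactSpace S] [QuasiSeparatedSpace S] [IsIntegralHom c.pt.hom] in
theorem coneρ_T (s : Cone (sysD D c)) {a b : Idx D c} (h : a ≤ b) :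
    coneρ D c s b ≫ idxT D c h = coneρ D c s a :=
  congrArg (fun m => m.left) (s.w (homOfLE h).op)

/-- component of a cone towards a stage -/
noncomputable def coneσ (s : Cone (sysD D c)) (a : Idx D c) : s.pt.left ⟶ stg D a.i :=
  coneρ D c s a ≫ a.K.subschemeι

omit [CompactSpace S] [QuasiSeparatedSpace S] [IsIntegralHom c.pt.hom] in
theorem coneσ_hom (s : Cone (sysD D c)) (a : Idx D c) :
    coneσ D c s a ≫ stgHom D a.i = s.pt.hom := by
  unfold coneσ
  rw [Category.assoc]
  exact Over.w (s.π.app (op a))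

omit [CompactSpace S] [QuasiSeparatedSpace S] [IsIntegralHom c.pt.hom] in
theorem coneσ_le (s : Cone (sysD D c)) {a b : Idx D c} (h : a ≤ b) :
    coneσ D c s b ≫ stgT D h.1 = coneσ D c s a := by
  unfold coneσ
  rw [Category.assoc, ← idxT_ι D c h, ← Category.assoc, coneρ_T]

include haffS hlfp in
theorem coneσ_indep (s : Cone (sysD D c)) (i : I) (Ka Kb : (stg D i).IdealSheafData)
    (ha : Valid D c i Ka) (hb : Valid D c i Kb) :
    coneσ D c s ⟨i, Ka, ha⟩ = coneσ D c s ⟨i, Kb, hb⟩ := by
  obtain ⟨d, hd, h1, h2⟩ := exists_idx_ge D c haffS hlfp ⟨i, Ka, ha⟩ ⟨i, Kb, hb⟩ i le_rfl le_rfl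
  obtain ⟨k, Kd, hKd⟩ := d
  obtain rfl : k = i := hd
  rw [← coneσ_le D c s h1, ← coneσ_le D c s h2]

/-- a choice of admissible ideal sheaf on every stage -/
noncomputable def κ (i : I) : {K // Valid D c i K} :=
  ⟨(exists_valid D c haffS hlfp i).choose, (exists_valid D c haffS hlfp i).choose_spec⟩

/-- the induced maps to the stages -/
noncomputable def coneτ (s : Cone (sysD D c)) (i : I) : s.pt.left ⟶ stg D i :=
  coneσ D c s ⟨i, (κ D c haffS hlfp i).1, (κ D c haffS hlfp i).2⟩

theorem coneτ_eq (s : Cone (sysD D c)) (a : Idx D c) :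
    coneτ D c haffS hlfp s a.i = coneσ D c s a :=
  coneσ_indep D c haffS hlfp s a.i _ a.K _ a.valid

theorem coneτ_hom (s : Cone (sysD D c)) (i : I) :
    coneτ D c haffS hlfp s i ≫ stgHom D i = s.pt.hom :=
  coneσ_hom D c s ⟨i, (κ D c haffS hlfp i).1, (κ D c haffS hlfp i).2⟩

theorem coneτ_T (s : Cone (sysD D c)) {i j : I} (h : i ≤ j) :
    coneτ D c haffS hlfp s j ≫ stgT D h = coneτ D c haffS hlfp s i := by
  obtain ⟨d, hd, h1, h2⟩ := exists_idx_ge D c haffS hlfp
    ⟨i, (κ D c haffS hlfp i).1, (κ D c haffS hlfp i).2⟩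
    ⟨j, (κ D c haffS hlfp j).1, (κ D c haffS hlfp j).2⟩ j h le_rfl
  obtain ⟨k, Kd, hKd⟩ := d
  obtain rfl : k = j := hd
  have e1 := coneσ_le D c s h1
  have e2 := coneσ_indep D c haffS hlfp s k (κ D c haffS hlfp k).1 Kd
    (κ D c haffS hlfp k).2 hKd
  unfold coneτ
  rw [e2]
  exact e1

/-- the cone over the original system induced by a cone over the new one -/
noncomputable def liftCone (s : Cone (sysD D c)) : Cone D where
  pt := s.pt
  π :=
    { app := fun x => Over.homMk (coneτ D c haffS hlfp s x.unop)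
        (coneτ_hom D c haffS hlfp s x.unop)
      naturality := fun x y f => Over.OverMorphism.ext (by
        have e : (D.map f).left = stgT D (leOfHom f.unop) := by
          unfold stgT
          congr 2
        show 𝟙 s.pt.left ≫ coneτ D c haffS hlfp s y.unop =
          coneτ D c haffS hlfp s x.unop ≫ (D.map f).left
        rw [Category.id_comp, e]
        exact (coneτ_T D c haffS hlfp s (leOfHom f.unop)).symm) }

variable (hc : IsLimit c)

/-- the original limit is also the limit of the new system -/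
noncomputable def sysIsLimit : IsLimit (sysCone D c) where
  lift s := hc.lift (liftCone D c haffS hlfp s)
  fac s a := Over.OverMorphism.ext (by
    show (hc.lift (liftCone D c haffS hlfp s)).left ≫ idxLift D c a.unop = (s.π.app a).left
    rw [← cancel_mono a.unop.K.subschemeι, Category.assoc, idxLift_ι]
    have h1 := hc.fac (liftCone D c haffS hlfp s) (op a.unop.i)
    have h2 : (hc.lift (liftCone D c haffS hlfp s)).left ≫ stgπ D c a.unop.i =
        coneτ D c haffS hlfp s a.unop.i := congrArg (fun m => m.left) h1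
    rw [h2, coneτ_eq]
    rfl)
  uniq s m hm := by
    apply hc.uniq (liftCone D c haffS hlfp s) m
    intro x
    apply Over.OverMorphism.ext
    let m' : s.pt.left ⟶ c.pt.left := m.left
    show m' ≫ stgπ D c x.unop = coneτ D c haffS hlfp s x.unop
    let a : Idx D c := ⟨x.unop, (κ D c haffS hlfp x.unop).1, (κ D c haffS hlfp x.unop).2⟩
    have h1 := hm (op a)
    have h2 : m' ≫ idxLift D c a = coneρ D c s a := congrArg (fun m => m.left) h1
    have h3 : idxLift D c a ≫ (κ D c haffS hlfp x.unop).1.subschemeι = stgπ D c x.unop :=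
      idxLift_ι D c a
    rw [← h3, ← Category.assoc, h2]
    rfl

end Lim

end IntSys

/-- A scheme integral over a qcqs base is a directed limit of schemes finite and of finite
presentation over the base. -/
theorem exists_limit_finite_fp_of_integral {X S : Scheme.{u}} (f : X ⟶ S) [IsIntegralHom f]
    [CompactSpace S] [QuasiSeparatedSpace S] :
    ∃ (I : Type u) (_ : Preorder I) (_ : IsDirected I (fun a b => a ≤ b)) (_ : Nonempty I)
      (D : Iᵒᵖ ⥤ Over S) (c : Limits.Cone D) (_ : Limits.IsLimit c),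
      (∀ i, IsFinite (D.obj i).hom ∧ LocallyOfFinitePresentation (D.obj i).hom) ∧
      Nonempty (c.pt ≅ Over.mk f) := by
  haveI : CompactSpace X := QuasiCompact.compactSpace_of_compactSpace f
  haveI : QuasiSeparatedSpace X := quasiSeparatedSpace_of_quasiSeparated f
  obtain ⟨I, pI, dI, nI, D, c, hc, hprops, haff, ⟨e⟩⟩ := relApproxOver f
  haveI : IsIntegralHom c.pt.hom := by
    rw [show c.pt.hom = e.hom.left ≫ f from (Over.w e.hom).symm]
    infer_instance
  haveI : IsAffineHom c.pt.hom := inferInstance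
  obtain ⟨i₀, hi₀⟩ := exists_isAffineHom_stage D c hc haff (fun i => (hprops i).2.1)
    (fun i => (hprops i).2.2)
  let D' : (Ge i₀)ᵒᵖ ⥤ Over S := (geIncl i₀).monotone.functor.op ⋙ D
  let c' : Cone D' := c.whisker (geIncl i₀).monotone.functor.op
  have hc' : IsLimit c' := isLimitRestrictGe i₀ hc
  have haffS : ∀ i : Ge i₀, IsAffineHom (stgHom D' i) := fun i => hi₀ i.1 i.2
  have hlfp : ∀ i : Ge i₀, LocallyOfFinitePresentation (stgHom D' i) := fun i => (hprops _).1
  haveI : IsIntegralHom c'.pt.hom := ‹IsIntegralHom c.pt.hom›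
  haveI := idx_nonempty D' c' haffS hlfp
  haveI := idx_directed D' c' haffS hlfp
  refine ⟨Idx D' c', inferInstance, inferInstance, inferInstance, sysD D' c', sysCone D' c',
    sysIsLimit D' c' haffS hlfp hc', ?_, ⟨e⟩⟩
  intro a
  haveI := a.unop.valid.lfp
  haveI := hlfp a.unop.i
  refine ⟨a.unop.valid.fin, ?_⟩
  show LocallyOfFinitePresentation (a.unop.K.subschemeι ≫ stgHom D' a.unop.i)
  infer_instance

end Groth.Agent.H5.NApprox
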