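import Mathlib
import Groth.Agent.Lib.Helper5.NApprox.PropA
import Groth.Agent.Lib.Helper5.NApprox.IdlC
import Groth.Agent.S0594

/-!
# A proper scheme over a qcqs base is a limit of proper finitely presented schemes with closed
immersions as transition maps (Stacks 09ZR) (helper5)
-/

set_option autoImplicit false

namespace Groth.Agent.H5.NApprox

open AlgebraicGeometry CategoryTheory Opposite Limits

universe u

section Sup

variable {J : Type u} [Category.{u} J] [IsCofiltered J] {Y : Scheme.{u}}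
  (A : J → Y.IdealSheafData) (hA : ∀ {μ μ' : J} (_ : μ' ⟶ μ), A μ ≤ A μ')

include hA in
/-- sections of a cofiltered-directed supremum of ideal sheaves -/
theorem exists_mem_of_mem_iSup (U : Y.affineOpens) (x : Γ(Y, U.1))
    (hx : x ∈ (⨆ μ, A μ).ideal U) : ∃ μ, x ∈ (A μ).ideal U := by
  haveI : Nonempty J := IsCofiltered.nonempty
  rw [Scheme.IdealSheafData.ideal_iSup, iSup_apply] at hx
  exact (Submodule.mem_iSup_of_directed _ (by
    intro μ₁ μ₂
    exact ⟨IsCofiltered.min μ₁ μ₂, hA (IsCofiltered.minToLeft μ₁ μ₂) U,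
      hA (IsCofiltered.minToRight μ₁ μ₂) U⟩)).mp hx

end Sup

section Main

/-- the data of Stacks 09ZR, in explicit form -/
theorem exists_proper_stage {X S : Scheme.{u}} (f : X ⟶ S) [IsProper f] [CompactSpace S]
    [QuasiSeparatedSpace S] :
    ∃ (Y : Scheme.{u}) (p : Y ⟶ S) (j' : X ⟶ Y) (J : Type u) (_ : SmallCategory J)
      (_ : IsCofiltered J) (A : J → Y.IdealSheafData)
      (_ : ∀ {μ μ' : J} (_ : μ' ⟶ μ), A μ ≤ A μ'),
      IsClosedImmersion j' ∧ j' ≫ p = f ∧ (∀ μ, A μ ≤ j'.ker) ∧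
      (∀ (U : Y.affineOpens) (x : Γ(Y, U.1)), x ∈ j'.ker.ideal U → ∃ μ, x ∈ (A μ).ideal U) ∧
      (∀ μ, LocallyOfFinitePresentation ((A μ).subschemeι ≫ p)) ∧
      ∃ μ₁ : J, ∀ (μ : J) (_ : μ ⟶ μ₁), IsProper ((A μ).subschemeι ≫ p) := by
  obtain ⟨Y₀, f', ι, hsep, hfp, hqc, hι, hιf⟩ := exists_closedImmersion_sep_fp f
  haveI : CompactSpace Y₀ := QuasiCompact.compactSpace_of_compactSpace f'
  haveI : QuasiSeparatedSpace Y₀ := quasiSeparatedSpace_of_quasiSeparated f'
  obtain ⟨I, pI, dI, nI, D₀, c₀, hc₀, haff, hft, ⟨e⟩⟩ := absApprox Y₀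
  haveI : ∀ {i j : Iᵒᵖ} (f : i ⟶ j), IsAffineHom (D₀.map f) := fun f => haff _ _ f
  haveI : ∀ i, CompactSpace (D₀.obj i) := fun i => (hft i).1
  haveI : ∀ i, LocallyOfFiniteType (toZ (D₀.obj i)) := fun i => (hft i).2
  haveI : ∀ i, QuasiSeparatedSpace (D₀.obj i) := fun i => quasiSeparatedSpace_of_lft (D₀.obj i)
  haveI : ∀ i, IsLocallyNoetherian (D₀.obj i) := fun i =>
    LocallyOfFiniteType.isLocallyNoetherian (toZ (D₀.obj i))
  let p : c₀.pt ⟶ S := e.hom ≫ f'
  haveI : LocallyOfFinitePresentation p := inferInstance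
  haveI : QuasiCompact p := inferInstance
  haveI : IsSeparated p := inferInstance
  haveI : CompactSpace c₀.pt := QuasiCompact.compactSpace_of_compactSpace p
  haveI : QuasiSeparatedSpace c₀.pt := quasiSeparatedSpace_of_quasiSeparated p
  let j' : X ⟶ c₀.pt := ι ≫ e.inv
  haveI : IsClosedImmersion j' := inferInstance
  have hj'p : j' ≫ p = f := by
    simp only [j', p, Category.assoc, Iso.inv_hom_id_assoc]
    exact hιf
  let K : c₀.pt.IdealSheafData := j'.ker
  let A : Iᵒᵖ → c₀.pt.IdealSheafData := apxIdeal D₀ c₀ K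
  have hA : ∀ {μ μ' : Iᵒᵖ} (_ : μ' ⟶ μ), A μ ≤ A μ' := fun a => apxIdeal_mono D₀ c₀ K a
  have hAK : ∀ μ, A μ ≤ K := apxIdeal_le D₀ c₀ K
  have hex : ∀ (U : c₀.pt.affineOpens) (x : Γ(c₀.pt, U.1)), x ∈ K.ideal U →
      ∃ μ, x ∈ (A μ).ideal U := exists_mem_apxIdeal D₀ c₀ hc₀ K
  have hlfp : ∀ μ, LocallyOfFinitePresentation ((A μ).subschemeι ≫ p) := by
    intro μ
    haveI := apxIdeal_lfp D₀ c₀ K μ
    infer_instance
  refine ⟨c₀.pt, p, j', Iᵒᵖ, inferInstance, inferInstance, A, hA, inferInstance, hj'p, hAK, hex,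
    hlfp, ?_⟩
  -- Chow's lemma
  obtain ⟨n, Y', π, u, hu, hub, hπ, hπs⟩ := chow_qcqs p
  haveI := Groth.Agent.H5.AG.isProper_toBase n S
  haveI : CompactSpace (CohB1.ProjSpaceOver n S) :=
    QuasiCompact.compactSpace_of_compactSpace (CohB1.ProjSpaceOver.toBase n S)
  haveI : QuasiSeparatedSpace (CohB1.ProjSpaceOver n S) :=
    quasiSeparatedSpace_of_quasiSeparated (CohB1.ProjSpaceOver.toBase n S)
  haveI : CompactSpace Y' := QuasiCompact.compactSpace_of_compactSpace π
  haveI : QuasiSeparatedSpace Y' := quasiSeparatedSpace_of_quasiSeparated π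
  haveI : LocallyOfFiniteType (u ≫ CohB1.ProjSpaceOver.toBase n S) := by
    rw [hub]; infer_instance
  haveI : LocallyOfFiniteType u := locallyOfFiniteType_of_comp u (CohB1.ProjSpaceOver.toBase n S)
  -- the inverse image ideals
  let A' : Iᵒᵖ → Y'.IdealSheafData := fun μ => (A μ).comap π
  have hA' : ∀ {μ μ' : Iᵒᵖ} (_ : μ' ⟶ μ), A' μ ≤ A' μ' :=
    fun a => Scheme.IdealSheafData.comap_mono π (hA a)
  let K' : Y'.IdealSheafData := K.comap π
  have hA'K' : ∀ μ, A' μ ≤ K' := fun μ => Scheme.IdealSheafData.comap_mono π (hAK μ)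
  have hKsup : K = ⨆ μ, A μ := by
    apply le_antisymm
    · intro U x hx
      obtain ⟨μ, hμ⟩ := hex U x hx
      exact Scheme.IdealSheafData.ideal_mono (le_iSup A μ) U hμ
    · exact iSup_le hAK
  have hK'sup : K' = ⨆ μ, A' μ := by
    show K.comap π = _
    rw [hKsup]
    exact (Scheme.IdealSheafData.map_gc π).l_iSup
  have hex' : ∀ (U : Y'.affineOpens) (x : Γ(Y', U.1)), x ∈ K'.ideal U →
      ∃ μ, x ∈ (A' μ).ideal U := by
    intro U x hx
    rw [hK'sup] at hx
    exact exists_mem_of_mem_iSup A' hA' U x hx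
  -- properness of the closed subscheme of `Y'` over `V(K) ≅ X`
  have hq : ∀ L : c₀.pt.IdealSheafData, ∃ q : (L.comap π).subscheme ⟶ L.subscheme,
      Surjective q ∧ IsProper q ∧ q ≫ L.subschemeι = (L.comap π).subschemeι ≫ π := by
    intro L
    refine ⟨(L.comapIso π).hom ≫ pullback.snd π L.subschemeι, inferInstance, inferInstance, ?_⟩
    rw [Category.assoc, ← pullback.condition, ← Category.assoc,
      Scheme.IdealSheafData.comapIso_hom_fst]
  -- `V(K') ⟶ P^n_S` is a closed immersion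
  have hKprop : IsProper (K.subschemeι ≫ p) := by
    have h1 : j'.toImage ≫ (K.subschemeι ≫ p) = f := by
      rw [← Category.assoc, show j'.toImage ≫ K.subschemeι = j' from j'.toImage_imageι, hj'p]
    have h2 : IsProper (j'.toImage ≫ (K.subschemeι ≫ p)) := by rw [h1]; infer_instance
    exact (MorphismProperty.cancel_left_of_respectsIso @IsProper j'.toImage _).mp h2
  have hK'cl : IsClosedImmersion (K'.subschemeι ≫ u) := by
    obtain ⟨qK, hqs, hqp, hqK⟩ := hq K
    haveI : IsProper ((K'.subschemeι ≫ u) ≫ CohB1.ProjSpaceOver.toBase n S) := by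
      rw [Category.assoc, hub, ← Category.assoc, ← hqK, Category.assoc]
      infer_instance
    haveI : IsProper (K'.subschemeι ≫ u) :=
      IsProper.of_comp (K'.subschemeι ≫ u) (CohB1.ProjSpaceOver.toBase n S)
    exact isClosedImmersion_of_isImmersion_of_isProper _
  -- descend the closed immersion to a stage
  haveI : IsConnected Iᵒᵖ := IsCofiltered.isConnected _
  let Dcl := clD u A' hA'
  let ccl := clCone u A' hA' K' hA'K'
  have hcl : IsLimit ccl := clIsLimit u A' hA' K' hA'K' hex'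
  let t : (Dcl ⋙ Over.forget _) ⟶ (Functor.const Iᵒᵖ).obj (CohB1.ProjSpaceOver n S) :=
    { app := fun μ => (Dcl.obj μ).hom
      naturality := by
        intro μ μ' a
        simp only [Functor.const_obj_obj, Functor.const_obj_map, Category.comp_id]
        exact Over.w (Dcl.map a) }
  have hc'' : IsLimit ((Over.forget _).mapCone ccl) := isLimitOfPreserves (Over.forget _) hcl
  haveI : ∀ (i j : Iᵒᵖ) (a : i ⟶ j), IsClosedImmersion ((Dcl ⋙ Over.forget _).map a) := by
    intro i j a
    show IsClosedImmersion (Scheme.IdealSheafData.inclusion _)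
    infer_instance
  have hcpt : ∀ L : Y'.IdealSheafData, CompactSpace L.subscheme := fun L =>
    QuasiCompact.compactSpace_of_compactSpace L.subschemeι
  have hqsp : ∀ L : Y'.IdealSheafData, QuasiSeparatedSpace L.subscheme := fun L =>
    quasiSeparatedSpace_of_quasiSeparated L.subschemeι
  haveI : ∀ i, CompactSpace ((Dcl ⋙ Over.forget _).obj i) := fun i => hcpt (A' i)
  haveI : ∀ i, QuasiSeparatedSpace ((Dcl ⋙ Over.forget _).obj i) := fun i => hqsp (A' i)
  haveI : ∀ i, LocallyOfFiniteType (t.app i) := by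
    intro i
    show LocallyOfFiniteType ((A' i).subschemeι ≫ u)
    infer_instance
  let i₀ : Iᵒᵖ := op nI.some
  haveI : IsClosedImmersion (((Over.forget _).mapCone ccl).π.app i₀ ≫ t.app i₀) := by
    show IsClosedImmersion (Scheme.IdealSheafData.inclusion (hA'K' i₀) ≫ (A' i₀).subschemeι ≫ u)
    rw [Scheme.IdealSheafData.inclusion_subschemeι_assoc]
    exact hK'cl
  obtain ⟨μ₁, hμ₁⟩ := Groth.Agent.S0594.result (CohB1.ProjSpaceOver n S) (Dcl ⋙ Over.forget _) t
    ((Over.forget _).mapCone ccl) hc'' i₀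
  have hμ₁' : IsClosedImmersion ((A' μ₁).subschemeι ≫ u) := hμ₁
  -- properness at the stage `μ₁` and beyond
  have hprop₁ : IsProper ((A μ₁).subschemeι ≫ p) := by
    obtain ⟨q, hqs, hqp, hqq⟩ := hq (A μ₁)
    haveI : IsProper (q ≫ (A μ₁).subschemeι ≫ p) := by
      rw [← Category.assoc, hqq, Category.assoc, ← hub, ← Category.assoc]
      infer_instance
    exact isProper_of_comp_surjective q _
  refine ⟨μ₁, fun μ a => ?_⟩
  rw [← Scheme.IdealSheafData.inclusion_subschemeι (hA a), Category.assoc]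
  infer_instance

/-- Stacks 09ZR: a proper scheme over a qcqs base is a cofiltered limit of proper finitely
presented schemes with closed immersions as transition maps and projections. -/
theorem exists_limit_proper_fp {X S : Scheme.{u}} (f : X ⟶ S) [IsProper f] [CompactSpace S]
    [QuasiSeparatedSpace S] :
    ∃ (I : Type u) (_ : SmallCategory I) (_ : IsCofiltered I) (D : I ⥤ Over S)
      (c : Limits.Cone D) (_ : Limits.IsLimit c) (_ : c.pt ≅ Over.mk f),
      (∀ (i j : I) (a : i ⟶ j), IsClosedImmersion (D.map a).left) ∧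
      (∀ i, IsClosedImmersion (c.π.app i).left ∧ IsProper (D.obj i).hom ∧
        LocallyOfFinitePresentation (D.obj i).hom) := by
  obtain ⟨Y, p, j', J, cJ, fJ, A, hA, hj', hj'p, hAK, hex, hlfp, μ₁, hμ₁⟩ := exists_proper_stage f
  let Dcl := clD p A hA
  let ccl := clCone p A hA j'.ker hAK
  have hcl : IsLimit ccl := clIsLimit p A hA j'.ker hAK hex
  refine ⟨Over μ₁, inferInstance, inferInstance, Over.forget μ₁ ⋙ Dcl,
    ccl.whisker (Over.forget μ₁),
    (Functor.Initial.isLimitWhiskerEquiv (Over.forget μ₁) ccl).symm hcl,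
    Over.isoMk (asIso j'.toImage).symm ?_, ?_, ?_⟩
  · show inv j'.toImage ≫ f = j'.ker.subschemeι ≫ p
    rw [IsIso.inv_comp_eq, ← Category.assoc,
      show j'.toImage ≫ j'.ker.subschemeι = j' from j'.toImage_imageι, hj'p]
  · intro k k' a
    show IsClosedImmersion (Scheme.IdealSheafData.inclusion _)
    infer_instance
  · intro k
    refine ⟨?_, hμ₁ k.left k.hom, hlfp k.left⟩
    show IsClosedImmersion (Scheme.IdealSheafData.inclusion _)
    infer_instance

end Main

end Groth.Agent.H5.NApprox
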