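import Mathlib
import Groth.Agent.Lib.Helper5.NApprox.FgIdA
import Groth.Agent.Lib.Helper5.NApprox.PropB
import Groth.Agent.Lib.Helper5.NApprox.Abs
import Groth.Agent.Lib.Helper5.NApprox.DescB

/-!
# Extending a finitely presented closed subscheme of a quasi-compact open to a finitely presented
closed subscheme of the whole scheme (helper5)
-/

set_option autoImplicit false

namespace Groth.Agent.H5.NApprox

open AlgebraicGeometry CategoryTheory Opposite Limits

universe u

/-- the kernel of `g` is the restriction of the kernel of `g ≫ j` along the open immersion `j` -/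
theorem ker_eq_comap_of_isOpenImmersion {X V T : Scheme.{u}} (g : X ⟶ V) (j : V ⟶ T)
    [IsOpenImmersion j] [QuasiCompact (g ≫ j)] : g.ker = (g ≫ j).ker.comap j := by
  have H : IsPullback g (𝟙 X) j (g ≫ j) := IsPullback.of_vert_isIso_mono ⟨by simp⟩
  apply Scheme.IdealSheafData.ext
  funext W
  rw [Scheme.ker_ideal_of_isPullback_of_isOpenImmersion (g ≫ j) g (𝟙 X) j H W,
    Scheme.IdealSheafData.ideal_comap_of_isOpenImmersion]

section FGSup

variable {J : Type u} [Category.{u} J] [IsCofiltered J] {Y : Scheme.{u}}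
  (A : J → Y.IdealSheafData) (hA : ∀ {μ μ' : J} (_ : μ' ⟶ μ), A μ ≤ A μ')

include hA in
/-- an ideal sheaf of finite type on a quasi-compact scheme contained in a directed supremum is
contained in one of the members -/
theorem exists_le_of_fg_of_le_iSup [CompactSpace Y] (B : Y.IdealSheafData)
    (hB : ∀ U : Y.affineOpens, (B.ideal U).FG) (hle : B ≤ ⨆ μ, A μ) : ∃ μ, B ≤ A μ := by
  classical
  haveI : Nonempty J := IsCofiltered.nonempty
  obtain ⟨t, ht⟩ := isCompact_univ.elim_finite_subcover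
    (fun U : Y.affineOpens => (U.1 : Set Y)) (fun U => U.1.isOpen) (by
      intro x _
      have h := iSup_affineOpens_eq_top Y
      have hx : x ∈ (⨆ i : Y.affineOpens, (i : Y.Opens)) := by
        rw [h]
        trivial
      obtain ⟨U, hU⟩ := TopologicalSpace.Opens.mem_iSup.mp hx
      exact Set.mem_iUnion.mpr ⟨U, hU⟩)
  have hU : ∀ U : Y.affineOpens, ∃ μ, B.ideal U ≤ (A μ).ideal U := by
    intro U
    obtain ⟨s, hs⟩ := hB U
    have hx : ∀ x ∈ s, ∃ μ, x ∈ (A μ).ideal U := by
      intro x hx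
      have h1 : x ∈ B.ideal U := by
        rw [← hs]
        exact Ideal.subset_span hx
      exact exists_mem_of_mem_iSup A hA U x (hle U h1)
    choose! ν hν using hx
    obtain ⟨μ, hμ⟩ := IsCofiltered.inf_objs_exists (s.image ν)
    refine ⟨μ, ?_⟩
    rw [← hs, Ideal.span_le]
    intro x hx
    obtain ⟨b⟩ := hμ (Finset.mem_image_of_mem ν hx)
    exact hA b U (hν x hx)
  choose ν hν using hU
  obtain ⟨μ, hμ⟩ := IsCofiltered.inf_objs_exists (t.image ν)
  refine ⟨μ, ?_⟩
  have hcov : ⨆ i : {U // U ∈ t}, (i.1 : Y.affineOpens).1 = ⊤ := by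
    rw [eq_top_iff]
    intro x _
    have hx := ht (Set.mem_univ x)
    simp only [Set.mem_iUnion] at hx
    obtain ⟨U, hUt, hxU⟩ := hx
    exact TopologicalSpace.Opens.mem_iSup.mpr ⟨⟨U, hUt⟩, hxU⟩
  refine Scheme.IdealSheafData.le_of_iSup_eq_top (fun i : {U // U ∈ t} => i.1) hcov ?_
  rintro ⟨U, hUt⟩
  obtain ⟨b⟩ := hμ (Finset.mem_image_of_mem ν hUt)
  exact (hν U).trans (hA b U)

end FGSup

section Core

variable {I : Type u} [Category.{u} I] [IsCofiltered I] (D : I ⥤ Scheme.{u})
  [∀ {i j : I} (f : i ⟶ j), IsAffineHom (D.map f)]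
  (c : Cone D) (hc : IsLimit c)

include hc in
theorem exists_open_immersion_apx [∀ i, QuasiSeparatedSpace (D.obj i)]
    [QuasiSeparatedSpace c.pt] {X V : Scheme.{u}}
    (j : V ⟶ c.pt) [IsOpenImmersion j] [CompactSpace V] (g : X ⟶ V) [IsClosedImmersion g]
    [LocallyOfFinitePresentation g] :
    ∃ (μ : I) (j' : X ⟶ (apxIdeal D c (g ≫ j).ker μ).subscheme), IsOpenImmersion j' ∧
      j' ≫ (apxIdeal D c (g ≫ j).ker μ).subschemeι = g ≫ j := by
  haveI : CompactSpace X := QuasiCompact.compactSpace_of_compactSpace g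
  haveI : QuasiCompact (g ≫ j) := inferInstance
  let K : c.pt.IdealSheafData := (g ≫ j).ker
  have hker : g.ker = K.comap j := ker_eq_comap_of_isOpenImmersion g j
  have hKsup : K = ⨆ μ, apxIdeal D c K μ := by
    apply le_antisymm
    · intro U x hx
      obtain ⟨μ, hμ⟩ := exists_mem_apxIdeal D c hc K U x hx
      exact (le_iSup (fun μ => apxIdeal D c K μ) μ) U hμ
    · exact iSup_le (apxIdeal_le D c K)
  have hle : g.ker ≤ ⨆ μ, (apxIdeal D c K μ).comap j := by
    rw [hker]
    conv_lhs => rw [hKsup]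
    rw [(Scheme.IdealSheafData.map_gc j).l_iSup]
  obtain ⟨μ, hμ⟩ := exists_le_of_fg_of_le_iSup (fun μ => (apxIdeal D c K μ).comap j)
    (fun a => Scheme.IdealSheafData.comap_mono _ (apxIdeal_mono D c K a)) g.ker
    (fun U => fg_ker_of_lfp g U) hle
  have heq : g.ker = (apxIdeal D c K μ).comap j := by
    apply le_antisymm hμ
    rw [hker]
    exact Scheme.IdealSheafData.comap_mono _ (apxIdeal_le D c K μ)
  have hk : (apxIdeal D c K μ).subschemeι.ker ≤ (g ≫ j).ker := by
    rw [Scheme.IdealSheafData.ker_subschemeι]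
    exact apxIdeal_le D c K μ
  let j' : X ⟶ (apxIdeal D c K μ).subscheme :=
    IsClosedImmersion.lift (apxIdeal D c K μ).subschemeι (g ≫ j) hk
  have hj' : j' ≫ (apxIdeal D c K μ).subschemeι = g ≫ j := IsClosedImmersion.lift_fac _ _ _
  refine ⟨μ, j', ?_, hj'⟩
  let ℓ : X ⟶ pullback j (apxIdeal D c K μ).subschemeι := pullback.lift g j' hj'.symm
  have hℓ1 : ℓ ≫ pullback.fst j (apxIdeal D c K μ).subschemeι = g := pullback.lift_fst _ _ _
  have hℓ2 : ℓ ≫ pullback.snd j (apxIdeal D c K μ).subschemeι = j' := pullback.lift_snd _ _ _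
  haveI : IsIso ℓ := IsClosedImmersion.isIso_of_ker_eq g
    (pullback.fst j (apxIdeal D c K μ).subschemeι) ℓ hℓ1 heq
  rw [← hℓ2]
  infer_instance

end Core

/-- a finitely presented closed subscheme of a quasi-compact open of a qcqs scheme is open in a
finitely presented closed subscheme of the whole scheme -/
theorem exists_fp_closed_extension {T X V : Scheme.{u}} [CompactSpace T] [QuasiSeparatedSpace T]
    (j : V ⟶ T) [IsOpenImmersion j] [CompactSpace V] (g : X ⟶ V) [IsClosedImmersion g]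
    [LocallyOfFinitePresentation g] :
    ∃ (Z : Scheme.{u}) (ιZ : Z ⟶ T) (j' : X ⟶ Z), IsClosedImmersion ιZ ∧
      LocallyOfFinitePresentation ιZ ∧ IsOpenImmersion j' ∧ j' ≫ ιZ = g ≫ j := by
  obtain ⟨I₀, pI, dI, nI, D, c, hc, haff, hst, ⟨e⟩⟩ := absApprox T
  haveI : IsCofiltered I₀ᵒᵖ := inferInstance
  haveI : ∀ {i j : I₀ᵒᵖ} (a : i ⟶ j), IsAffineHom (D.map a) := fun a => haff _ _ a
  haveI : ∀ i, QuasiSeparatedSpace (D.obj i) := fun i => by
    haveI := (hst i).2
    exact quasiSeparatedSpace_of_lft _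
  haveI : ∀ i, IsLocallyNoetherian (D.obj i) := fun i => by
    haveI := (hst i).2
    haveI : IsNoetherianRing (ULift.{u} ℤ) :=
      isNoetherianRing_of_ringEquiv ℤ ULift.ringEquiv.symm
    haveI : IsNoetherianRing (CommRingCat.of (ULift.{u} ℤ)) := this
    exact LocallyOfFiniteType.isLocallyNoetherian
      (Limits.IsTerminal.from specULiftZIsTerminal (D.obj i))
  haveI : QuasiSeparatedSpace c.pt := quasiSeparatedSpace_of_quasiSeparated e.hom
  obtain ⟨μ, j', hj'o, hj'⟩ := exists_open_immersion_apx D c hc (j ≫ e.inv) g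
  haveI := apxIdeal_lfp D c (g ≫ j ≫ e.inv).ker μ
  refine ⟨_, (apxIdeal D c (g ≫ j ≫ e.inv).ker μ).subschemeι ≫ e.hom, j', inferInstance,
    inferInstance, hj'o, ?_⟩
  rw [← Category.assoc, hj', Category.assoc, Category.assoc, Iso.inv_hom_id, Category.comp_id]

end Groth.Agent.H5.NApprox
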