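import Mathlib
import Groth.Agent.Lib.Helper5.NApprox.ZmtA
import Groth.Agent.Lib.Helper5.NApprox.IntB
import Groth.Agent.Lib.Helper5.Lim.ImmersionIntoLimit
import Groth.Agent.Lib.Helper5.EtSrc.OfComp

/-!
# Zariski's main theorem with a finitely presented finite target (helper5)
-/

set_option autoImplicit false

namespace Groth.Agent.H5.NApprox

open AlgebraicGeometry CategoryTheory Opposite Limits

universe u

theorem exists_openImmersion_finite_fp {X S : Scheme.{u}} (f : X ⟶ S) [CompactSpace ↑S]
    [QuasiSeparatedSpace ↑S] [IsSeparated f] [QuasiCompact f] [LocallyQuasiFinite f]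
    [LocallyOfFinitePresentation f] :
    ∃ (T : Scheme.{u}) (j : X ⟶ T) (π : T ⟶ S), IsOpenImmersion j ∧ QuasiCompact j ∧ IsFinite π ∧
      LocallyOfFinitePresentation π ∧ j ≫ π = f := by
  haveI : LocallyOfFiniteType f := inferInstance
  haveI : IsOpenImmersion f.toNormalization := inferInstance
  obtain ⟨I, pI, dI, nI, D, c, hc, hprops, ⟨e⟩⟩ :=
    exists_limit_finite_fp_of_integral f.fromNormalization
  haveI : IsConnected Iᵒᵖ := IsCofiltered.isConnected _
  let E : Iᵒᵖ ⥤ Scheme.{u} := D ⋙ Over.forget S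
  let cE : Cone E := (Over.forget S).mapCone c
  have hcE : IsLimit cE := isLimitOfPreserves (Over.forget S) hc
  haveI hEaff : ∀ (i j : Iᵒᵖ) (a : i ⟶ j), IsAffineHom (E.map a) := by
    intro i j a
    show IsAffineHom (D.map a).left
    haveI := (hprops j).1
    haveI := (hprops i).1
    haveI : IsAffineHom ((D.map a).left ≫ (D.obj j).hom) := by
      rw [Over.w (D.map a)]
      infer_instance
    exact IsAffineHom.of_comp (D.map a).left (D.obj j).hom
  haveI hEaff' : ∀ {i j : Iᵒᵖ} (a : i ⟶ j), IsAffineHom (E.map a) := fun a => hEaff _ _ a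
  haveI : CompactSpace X := QuasiCompact.compactSpace_of_compactSpace f
  let γ : X ⟶ cE.pt := f.toNormalization ≫ e.inv.left
  haveI : IsOpenImmersion γ := inferInstanceAs (IsOpenImmersion (f.toNormalization ≫ e.inv.left))
  have hγ : ∀ k : Iᵒᵖ, (γ ≫ cE.π.app k) ≫ (D.obj k).hom = f := by
    intro k
    show ((f.toNormalization ≫ e.inv.left) ≫ (c.π.app k).left) ≫ (D.obj k).hom = f
    rw [Category.assoc, Category.assoc, Over.w (c.π.app k)]
    show f.toNormalization ≫ e.inv.left ≫ c.pt.hom = f
    rw [show e.inv.left ≫ c.pt.hom = f.fromNormalization from Over.w e.inv,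
      f.toNormalization_fromNormalization]
  -- the open subset of a stage
  have hUc : IsCompact (γ.opensRange : Set cE.pt) := by
    show IsCompact (Set.range γ)
    exact isCompact_range γ.continuous
  obtain ⟨i₁, V₁, hV₁c, hV₁⟩ := exists_preimage_eq E cE hcE γ.opensRange hUc
  have hft : LocallyOfFiniteType (γ ≫ cE.π.app i₁) := by
    haveI : LocallyOfFiniteType ((γ ≫ cE.π.app i₁) ≫ (D.obj i₁).hom) := by
      rw [hγ i₁]
      infer_instance
    exact locallyOfFiniteType_of_comp _ (D.obj i₁).hom
  haveI : IsImmersion γ := inferInstance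
  obtain ⟨k, hk⟩ := Groth.Agent.H5.Lim.exists_isImmersion_comp_π E cE hcE γ i₁ hft
  let l : Iᵒᵖ := k.left
  let T : Scheme.{u} := (D.obj l).left
  let πT : T ⟶ S := (D.obj l).hom
  haveI hπTfin : IsFinite πT := (hprops l).1
  haveI hπTfp : LocallyOfFinitePresentation πT := (hprops l).2
  let p : cE.pt ⟶ T := cE.π.app l
  let q : X ⟶ T := γ ≫ p
  haveI hq : IsImmersion q := hk k (𝟙 k)
  have hqπ : q ≫ πT = f := hγ l
  let V : T.Opens := E.map k.hom ⁻¹ᵁ V₁
  have hVc : IsCompact (V : Set T) := (E.map k.hom).isCompact_preimage hV₁c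
  have hVU : p ⁻¹ᵁ V = γ.opensRange := by
    have h := cE.w k.hom
    calc p ⁻¹ᵁ V = (cE.π.app l ≫ E.map k.hom) ⁻¹ᵁ V₁ := rfl
      _ = cE.π.app i₁ ⁻¹ᵁ V₁ := by rw [h]
      _ = γ.opensRange := hV₁
  haveI : CompactSpace T := QuasiCompact.compactSpace_of_compactSpace πT
  haveI : QuasiSeparatedSpace T := quasiSeparatedSpace_of_quasiSeparated πT
  haveI : CompactSpace (V : Scheme.{u}) := isCompact_iff_compactSpace.mp hVc
  -- the restriction `X ⟶ V`
  have hrange : Set.range q ⊆ Set.range V.ι := by
    rintro _ ⟨x, rfl⟩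
    rw [Scheme.Opens.range_ι]
    have h1 : γ x ∈ p ⁻¹ᵁ V := by
      rw [hVU]
      exact ⟨x, rfl⟩
    exact h1
  let g : X ⟶ V := IsOpenImmersion.lift V.ι q hrange
  have hg : g ≫ V.ι = q := IsOpenImmersion.lift_fac _ _ _
  haveI : IsImmersion (g ≫ V.ι) := by
    rw [hg]
    exact hq
  haveI : IsImmersion g := IsImmersion.of_comp g V.ι
  -- `p` is a closed map
  haveI : UniversallyClosed (p ≫ πT) := by
    have h1 : p ≫ πT = e.hom.left ≫ f.fromNormalization := by
      show (c.π.app l).left ≫ (D.obj l).hom = e.hom.left ≫ f.fromNormalization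
      rw [Over.w (c.π.app l)]
      exact (Over.w e.hom).symm
    rw [h1]
    have h2 : UniversallyClosed (e.hom.left ≫ f.fromNormalization) := inferInstance
    exact h2
  haveI : UniversallyClosed p := UniversallyClosed.of_comp_of_isSeparated p πT
  have hgrange : Set.range g = V.ι ⁻¹' (Set.range p) := by
    ext v
    constructor
    · rintro ⟨x, rfl⟩
      refine ⟨γ x, ?_⟩
      have := congrArg (fun m => m.base x) hg
      simp only [Scheme.Hom.comp_base, TopCat.comp_app] at this
      exact this.symm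
    · rintro ⟨n, hn⟩
      have h1 : n ∈ p ⁻¹ᵁ V := by
        show p n ∈ V
        rw [hn]
        exact v.2
      rw [hVU] at h1
      obtain ⟨x, rfl⟩ := h1
      refine ⟨x, ?_⟩
      apply V.ι.isOpenEmbedding.injective
      have := congrArg (fun m => m.base x) hg
      simp only [Scheme.Hom.comp_base, TopCat.comp_app] at this
      rw [this]
      exact hn
  haveI : IsClosedImmersion g := by
    apply IsClosedImmersion.of_isPreimmersion
    rw [hgrange]
    exact (p.isClosedMap.isClosed_range).preimage V.ι.continuous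
  haveI : LocallyOfFinitePresentation g := by
    apply Groth.Agent.H5.EtSrc.locallyOfFinitePresentation_of_comp g (V.ι ≫ πT)
    · rw [← Category.assoc, hg, hqπ]
      infer_instance
    · infer_instance
  obtain ⟨Z, ιZ, j', hZcl, hZfp, hj'o, hj'⟩ := exists_fp_closed_extension V.ι g
  haveI : QuasiSeparatedSpace Z := quasiSeparatedSpace_of_quasiSeparated ιZ
  refine ⟨Z, j', ιZ ≫ πT, hj'o, inferInstance, inferInstance, inferInstance, ?_⟩
  rw [← Category.assoc, hj', hg, hqπ]

end Groth.Agent.H5.NApprox
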