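import Mathlib
import Groth.Agent.Lib.Helper5.NApprox.LimFin

/-!
# Stalk lemmas for dominant morphisms of integral schemes (helper5)
-/

set_option autoImplicit false

namespace Groth.Agent.H5.NApprox

open AlgebraicGeometry CategoryTheory Opposite Limits TopologicalSpace

universe u

section Stalk

theorem coe_comp' {A B C : CommRingCat.{u}} (f : A ⟶ B) (g : B ⟶ C) :
    ⇑(ConcreteCategory.hom (f ≫ g)) = ⇑(ConcreteCategory.hom g) ∘ ⇑(ConcreteCategory.hom f) :=
  rfl

/-- on an integral scheme all cospecialisation maps of stalks are injective -/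
theorem stalkSpecializes_injective (X : Scheme.{u}) [IsIntegral X] {x y : X} (h : y ⤳ x) :
    Function.Injective (X.presheaf.stalkSpecializes h) := by
  have hξy : genericPoint X ⤳ y := (genericPoint_spec X).specializes trivial
  have h1 : X.presheaf.stalkSpecializes h ≫ X.presheaf.stalkSpecializes hξy =
      X.presheaf.stalkSpecializes (hξy.trans h) :=
    TopCat.Presheaf.stalkSpecializes_comp _ _ _
  have h2 : Function.Injective (X.presheaf.stalkSpecializes (hξy.trans h)) :=
    IsFractionRing.injective (X.presheaf.stalk x) X.functionField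
  rw [← h1, coe_comp'] at h2
  exact Function.Injective.of_comp h2

/-- the stalk at a generic point of an irreducible component is a field, so maps out of it are
injective -/
theorem stalkMap_injective_of_generic {T T' : Scheme.{u}} (h : T ⟶ T') [IsIntegral T']
    (η : T) [Nontrivial (T.presheaf.stalk η)] (hη : h η = genericPoint T') :
    Function.Injective (h.stalkMap η) := by
  have hf : IsField (T'.presheaf.stalk (h η)) :=
    isField_stalk_of_closure_mem_irreducibleComponents T' _ (by
      rw [hη, (genericPoint_spec T').def]
      simp [irreducibleComponents_eq_singleton])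
  letI := hf.toField
  exact (h.stalkMap η).hom.injective

/-- a dominant morphism of integral schemes is injective on stalks -/
theorem stalkMap_injective_of_dominant {T T' : Scheme.{u}} (h : T ⟶ T') [IsIntegral T]
    [IsIntegral T'] (hgen : h (genericPoint T) = genericPoint T') (t : T) :
    Function.Injective (h.stalkMap t) := by
  have hξt : genericPoint T ⤳ t := (genericPoint_spec T).specializes trivial
  have h1 := Scheme.Hom.stalkSpecializes_stalkMap h (genericPoint T) t hξt
  have h2 : Function.Injective
      (T'.presheaf.stalkSpecializes (h.base.hom.map_specializes hξt) ≫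
        h.stalkMap (genericPoint T)) := by
    rw [coe_comp']
    exact (stalkMap_injective_of_generic h (genericPoint T) hgen).comp
      (stalkSpecializes_injective T' _)
  rw [h1, coe_comp'] at h2
  exact Function.Injective.of_comp h2

theorem stalkMap_comp_apply' {P Q R : Scheme.{u}} (a : P ⟶ Q) (b : Q ⟶ R) (p : P)
    (x : R.presheaf.stalk ((a ≫ b) p)) :
    (a ≫ b).stalkMap p x = a.stalkMap p (b.stalkMap (a p) x) :=
  congr($(Scheme.Hom.stalkMap_comp a b p) x)

theorem surjective_stalkMap_of_comp_eq {P Q R : Scheme.{u}} (a : P ⟶ Q) (b : Q ⟶ R) (k : P ⟶ R)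
    (hk : a ≫ b = k) (p : P) (hs : Function.Surjective (k.stalkMap p)) :
    Function.Surjective (a.stalkMap p) := by
  subst hk
  intro y
  obtain ⟨x, hx⟩ := hs y
  exact ⟨b.stalkMap (a p) x, by rw [← hx, stalkMap_comp_apply']⟩

theorem isIso_stalkMap_of_comp_eq {P Q R : Scheme.{u}} (a : P ⟶ Q) (b : Q ⟶ R) (k : P ⟶ R)
    (hk : a ≫ b = k) (p : P) (hiso : IsIso (k.stalkMap p))
    (hinj : Function.Injective (a.stalkMap p)) : IsIso (b.stalkMap (a p)) := by
  subst hk
  have hbij : Function.Bijective ((a ≫ b).stalkMap p) :=
    ConcreteCategory.bijective_of_isIso _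
  have hsurj : Function.Surjective (b.stalkMap (a p)) := by
    intro y
    obtain ⟨x, hx⟩ := hbij.2 (a.stalkMap p y)
    rw [stalkMap_comp_apply'] at hx
    exact ⟨x, hinj hx⟩
  have hinj' : Function.Injective (b.stalkMap (a p)) := by
    intro x y hxy
    apply hbij.1
    rw [stalkMap_comp_apply', stalkMap_comp_apply']
    exact congrArg _ hxy
  exact (ConcreteCategory.isIso_iff_bijective _).mpr ⟨hinj', hsurj⟩

end Stalk

end Groth.Agent.H5.NApprox
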