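import Mathlib
import Groth.Agent.Lib.Helper5.NApprox.AffPtA
import Groth.Agent.Lib.Helper5.AffT.AtA
import Groth.Agent.Lib.Helper2.ImageReduced
import Groth.Agent.Lib.Helper1.StalkIsoOI
import Groth.Agent.S7658

/-!
# Affine neighbourhoods of finitely many points with prescribed local rings: integral case
(helper5)
-/

set_option autoImplicit false

namespace Groth.Agent.H5.NApprox

open AlgebraicGeometry CategoryTheory Opposite Limits TopologicalSpace

universe u

/-- a continuous map with dense range between irreducible sober spaces preserves generic points -/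
theorem map_genericPoint_of_denseRange {A B : Type*} [TopologicalSpace A] [TopologicalSpace B]
    [IrreducibleSpace A] [QuasiSober A] [IrreducibleSpace B] [QuasiSober B] [T0Space B]
    (j : A → B) (hj : Continuous j) (hd : DenseRange j) :
    j (genericPoint A) = genericPoint B := by
  have h1 : IsGenericPoint (j (genericPoint A)) (closure (j '' Set.univ)) :=
    (genericPoint_spec A).image hj
  rw [Set.image_univ, hd.closure_range] at h1
  exact h1.eq (genericPoint_spec B)

/-- in an irreducible T0 space any two generic points of irreducible components agree -/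
theorem eq_of_closure_mem_irreducibleComponents {A : Type*} [TopologicalSpace A]
    [IrreducibleSpace A] [T0Space A] {ξ ξ' : A}
    (h : closure ({ξ} : Set A) ∈ irreducibleComponents A)
    (h' : closure ({ξ'} : Set A) ∈ irreducibleComponents A) : ξ = ξ' := by
  rw [irreducibleComponents_eq_singleton, Set.mem_singleton_iff] at h h'
  have h1 : IsGenericPoint ξ Set.univ := h
  have h2 : IsGenericPoint ξ' Set.univ := h'
  exact h1.eq h2

/-- the core step: `T` integral affine, factoring through an affine scheme of finite type over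
`Z` -/
theorem exists_affineOpen_of_factor {T P Z : Scheme.{u}} (g : T ⟶ Z) (π : T ⟶ P) (p : P ⟶ Z)
    (hπp : π ≫ p = g) [IsAffine T] [IsAffine P] [IsIntegral T] [IsIntegral Z]
    [LocallyOfFiniteType p] (s : Finset T) (hs : ∀ t ∈ s, IsIso (g.stalkMap t)) :
    ∃ V : Z.Opens, IsAffineOpen V ∧ ∀ t ∈ s, g t ∈ V := by
  classical
  by_cases hne : s = ∅
  · subst hne
    exact ⟨⊥, isAffineOpen_bot _, by simp⟩
  obtain ⟨t₀, ht₀⟩ := Finset.nonempty_iff_ne_empty.mpr hne
  haveI : QuasiCompact π := inferInstance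
  let T' : Scheme.{u} := π.image
  let j : T ⟶ T' := π.toImage
  let ι' : T' ⟶ P := π.imageι
  have hjι : j ≫ ι' = π := π.toImage_imageι
  haveI : IsClosedImmersion ι' := inferInstanceAs (IsClosedImmersion π.imageι)
  haveI : IsAffine T' := isAffine_of_isAffineHom ι'
  haveI : IsReduced T' := Groth.Agent.H2.isReduced_image π
  haveI : IrreducibleSpace T' := Groth.Agent.H2.irreducibleSpace_image π
  haveI : IsIntegral T' := isIntegral_of_irreducibleSpace_of_isReduced T'
  let g' : T' ⟶ Z := ι' ≫ p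
  have hjg : j ≫ g' = g := by
    rw [← Category.assoc, hjι, hπp]
  haveI : IsDominant j := inferInstanceAs (IsDominant π.toImage)
  have hjgen : j (genericPoint T) = genericPoint T' :=
    map_genericPoint_of_denseRange j j.continuous j.denseRange
  have hiso : ∀ t ∈ s, IsIso (g'.stalkMap (j t)) := fun t ht =>
    isIso_stalkMap_of_comp_eq j g' g hjg t (hs t ht) (stalkMap_injective_of_dominant j hjgen t)
  haveI : LocallyOfFiniteType g' := inferInstance
  have hZfin : (irreducibleComponents (Z : Type u)).Finite := by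
    rw [irreducibleComponents_eq_singleton]
    exact Set.finite_singleton _
  have hU : ∀ t ∈ s, ∃ U : T'.Opens, j t ∈ U ∧ IsOpenImmersion (U.ι ≫ g') := fun t ht =>
    Groth.Agent.H1.StalkIsoOI.s7659 g' hZfin (j t) (hiso t ht)
  choose! U hUt hUoi using hU
  let V : T'.Opens := ⨆ t ∈ s, U t
  have hVmem : ∀ t ∈ s, j t ∈ V := fun t ht =>
    Opens.mem_iSup.mpr ⟨t, Opens.mem_iSup.mpr ⟨ht, hUt t ht⟩⟩
  haveI : Nonempty (V : Scheme.{u}) := ⟨⟨j t₀, hVmem t₀ ht₀⟩⟩
  haveI : IsIntegral (V : Scheme.{u}) := isIntegral_of_isOpenImmersion V.ι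
  let h : (V : Scheme.{u}) ⟶ Z := V.ι ≫ g'
  haveI : IsSeparated h := inferInstance
  have hloc : ∀ x : (V : Scheme.{u}), ∃ W : (V : Scheme.{u}).Opens, x ∈ W ∧
      IsOpenImmersion (W.ι ≫ h) := by
    intro x
    obtain ⟨t, ht'⟩ := Opens.mem_iSup.mp x.2
    obtain ⟨ht, hxt⟩ := Opens.mem_iSup.mp ht'
    refine ⟨V.ι ⁻¹ᵁ U t, hxt, ?_⟩
    have hr : Set.range (((V.ι ⁻¹ᵁ U t).ι ≫ V.ι :) : _ ⟶ T') ⊆ Set.range (U t).ι := by
      rintro _ ⟨w, rfl⟩
      rw [Scheme.Opens.range_ι]
      exact w.2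
    let k := IsOpenImmersion.lift (U t).ι ((V.ι ⁻¹ᵁ U t).ι ≫ V.ι) hr
    have hk : k ≫ (U t).ι = (V.ι ⁻¹ᵁ U t).ι ≫ V.ι := IsOpenImmersion.lift_fac _ _ _
    haveI : IsOpenImmersion (k ≫ (U t).ι) := by
      rw [hk]
      infer_instance
    haveI : IsOpenImmersion k := IsOpenImmersion.of_comp k (U t).ι
    haveI := hUoi t ht
    have e : (V.ι ⁻¹ᵁ U t).ι ≫ h = k ≫ ((U t).ι ≫ g') := by
      simp only [h, ← Category.assoc, hk]
    rw [e]
    infer_instance
  have hinj : ∀ ξ ξ' : (V : Scheme.{u}),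
      closure ({ξ} : Set (V : Scheme.{u})) ∈ irreducibleComponents ((V : Scheme.{u}) : Type u) →
      closure ({ξ'} : Set (V : Scheme.{u})) ∈ irreducibleComponents ((V : Scheme.{u}) : Type u) →
      h.base ξ = h.base ξ' → ξ = ξ' := fun ξ ξ' h1 h2 _ =>
    eq_of_closure_mem_irreducibleComponents h1 h2
  haveI : IsOpenImmersion h := Groth.Agent.S7658.result h hloc hinj
  -- a basic open of `T'` inside `V` containing the points
  let F : Set T' := (fun t => j t) '' (s : Set T)
  have hF : F.Finite := s.finite_toSet.image _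
  have hFV : F ⊆ V := by
    rintro _ ⟨t, ht, rfl⟩
    exact hVmem t ht
  obtain ⟨c, hcV, hFc⟩ := Groth.Agent.H5.AffT.exists_basicOpen_finite (S := T')
    (isAffineOpen_top T') V hF (fun _ _ => trivial) hFV
  have hB : IsAffineOpen (T'.basicOpen c) := (isAffineOpen_top T').basicOpen c
  let B' : (V : Scheme.{u}).Opens := V.ι ⁻¹ᵁ T'.basicOpen c
  have hB' : IsAffineOpen B' := by
    rw [← V.ι.isAffineOpen_iff_of_isOpenImmersion, Scheme.Hom.image_preimage_eq_opensRange_inf,
      Scheme.Opens.opensRange_ι, inf_eq_right.mpr hcV]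
    exact hB
  refine ⟨h ''ᵁ B', (h.isAffineOpen_iff_of_isOpenImmersion).mpr hB', fun t ht => ?_⟩
  have hjt : j t ∈ T'.basicOpen c := hFc ⟨t, ht, rfl⟩
  refine ⟨⟨j t, hVmem t ht⟩, hjt, ?_⟩
  rw [← hjg]
  rfl

theorem isIso_stalkMap_of_comp_eq' {P Q R : Scheme.{u}} (a : P ⟶ Q) (b : Q ⟶ R) (k : P ⟶ R)
    (hk : a ≫ b = k) (p : P) (hiso : IsIso (k.stalkMap p)) (hb : IsIso (b.stalkMap (a p))) :
    IsIso (a.stalkMap p) := by
  subst hk
  have hbij : Function.Bijective ((a ≫ b).stalkMap p) := ConcreteCategory.bijective_of_isIso _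
  have hbb : Function.Bijective (b.stalkMap (a p)) := ConcreteCategory.bijective_of_isIso _
  refine (ConcreteCategory.isIso_iff_bijective _).mpr ⟨?_, ?_⟩
  · intro x y hxy
    obtain ⟨x', rfl⟩ := hbb.2 x
    obtain ⟨y', rfl⟩ := hbb.2 y
    rw [← stalkMap_comp_apply', ← stalkMap_comp_apply'] at hxy
    rw [hbij.1 hxy]
  · intro y
    obtain ⟨x, hx⟩ := hbij.2 y
    exact ⟨b.stalkMap (a p) x, by rw [← hx, stalkMap_comp_apply']⟩

/-- the integral case over a quasi-compact quasi-separated base -/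
theorem exists_affineOpen_of_integral_compact {T Z : Scheme.{u}} (g : T ⟶ Z) [IsAffine T]
    [IsIntegral T] [IsIntegral Z] [CompactSpace Z] [QuasiSeparatedSpace Z]
    (s : Finset T) (hs : ∀ t ∈ s, IsIso (g.stalkMap t)) :
    ∃ V : Z.Opens, IsAffineOpen V ∧ ∀ t ∈ s, g t ∈ V := by
  obtain ⟨I, pI, dI, nI, D, c, hc, hprops, haff, ⟨e⟩⟩ := relApproxOver g
  haveI : ∀ {i j : Iᵒᵖ} (a : i ⟶ j), IsAffineHom ((D ⋙ Over.forget Z).map a) :=
    fun a => haff _ _ a
  haveI : ∀ i, CompactSpace ((D ⋙ Over.forget Z).obj i) := fun i => by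
    have h1 : QuasiCompact (D.obj i).hom := (hprops i).2.1
    exact @QuasiCompact.compactSpace_of_compactSpace _ _ (D.obj i).hom h1 _
  haveI : ∀ i, QuasiSeparatedSpace ((D ⋙ Over.forget Z).obj i) := fun i => by
    have h1 : QuasiSeparated (D.obj i).hom := (hprops i).2.2
    exact @quasiSeparatedSpace_of_quasiSeparated _ _ (D.obj i).hom _ h1
  haveI : IsAffine ((Over.forget Z).mapCone c).pt := by
    haveI : IsAffine (Over.mk g).left := ‹IsAffine T›
    show IsAffine c.pt.left
    exact IsAffine.of_isIso e.hom.left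
  obtain ⟨i, hi⟩ := Scheme.exists_isAffine_of_isLimit (D ⋙ Over.forget Z)
    ((Over.forget Z).mapCone c) (isLimitForget D c hc)
  haveI : IsAffine (D.obj i).left := hi
  haveI : LocallyOfFiniteType (D.obj i).hom := by
    haveI := (hprops i).1
    infer_instance
  refine exists_affineOpen_of_factor g (e.inv.left ≫ (c.π.app i).left) (D.obj i).hom ?_ s hs
  rw [Category.assoc, Over.w (c.π.app i)]
  exact Over.w e.inv

/-- the integral case -/
theorem exists_affineOpen_of_integral {T Z : Scheme.{u}} (g : T ⟶ Z) [IsAffine T]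
    [IsIntegral T] [IsIntegral Z] [QuasiSeparatedSpace Z]
    (s : Finset T) (hs : ∀ t ∈ s, IsIso (g.stalkMap t)) :
    ∃ V : Z.Opens, IsAffineOpen V ∧ ∀ t ∈ s, g t ∈ V := by
  obtain ⟨Z₀, hZ₀, hr⟩ := exists_compact_open_range g
  haveI : CompactSpace (Z₀ : Scheme.{u}) := isCompact_iff_compactSpace.mp hZ₀
  haveI : QuasiSeparatedSpace (Z₀ : Scheme.{u}) := quasiSeparatedSpace_opens Z₀
  let g₀ : T ⟶ (Z₀ : Scheme.{u}) := IsOpenImmersion.lift Z₀.ι g (by
    rw [Scheme.Opens.range_ι]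
    exact hr)
  have hg₀ : g₀ ≫ Z₀.ι = g := IsOpenImmersion.lift_fac _ _ _
  haveI : Nonempty (Z₀ : Scheme.{u}) := ⟨g₀ (genericPoint T)⟩
  haveI : IsIntegral (Z₀ : Scheme.{u}) := isIntegral_of_isOpenImmersion Z₀.ι
  have hs₀ : ∀ t ∈ s, IsIso (g₀.stalkMap t) := fun t ht =>
    isIso_stalkMap_of_comp_eq' g₀ Z₀.ι g hg₀ t (hs t ht) inferInstance
  obtain ⟨V₀, hV₀, hV₀s⟩ := exists_affineOpen_of_integral_compact g₀ s hs₀
  refine ⟨Z₀.ι ''ᵁ V₀, hV₀.image_of_isOpenImmersion Z₀.ι, fun t ht => ?_⟩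
  refine ⟨g₀ t, hV₀s t ht, ?_⟩
  rw [← hg₀]
  rfl

end Groth.Agent.H5.NApprox
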