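import Mathlib
import Groth.Agent.Lib.Helper5.NApprox.AffPtB
import Groth.Agent.Lib.Helper5.AffT.AtB
import Groth.Agent.Lib.Helper8.RedImm

/-!
# Affine neighbourhoods of finitely many points with prescribed local rings (Stacks 09NN)
(helper5)
-/

set_option autoImplicit false

namespace Groth.Agent.H5.NApprox

open AlgebraicGeometry CategoryTheory Opposite Limits TopologicalSpace
open Groth.Agent.H5.AffT (red redι range_redι)

universe u

section Top

variable {A : Type*} [TopologicalSpace A]

/-- the generic point of an irreducible component has no proper generisation -/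
theorem eq_of_specializes_of_mem_irreducibleComponents [T0Space A] {ξ ξ' : A}
    (hξ : closure ({ξ} : Set A) ∈ irreducibleComponents A) (h : ξ' ⤳ ξ) : ξ' = ξ := by
  have h1 : closure ({ξ} : Set A) ⊆ closure {ξ'} := specializes_iff_closure_subset.mp h
  have h2 : closure ({ξ'} : Set A) ⊆ closure {ξ} :=
    hξ.2 isIrreducible_singleton.closure h1
  have h3 : ξ ⤳ ξ' := specializes_iff_closure_subset.mpr h2
  exact (h.antisymm h3).eq

/-- a point without proper generisations is the generic point of an irreducible component -/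
theorem closure_mem_irreducibleComponents_of_maximal [QuasiSober A] [T0Space A] {η : A}
    (h : ∀ η' : A, η' ⤳ η → η' = η) : closure ({η} : Set A) ∈ irreducibleComponents A := by
  obtain ⟨η', hη'⟩ := QuasiSober.sober (isIrreducible_irreducibleComponent (x := η))
    isClosed_irreducibleComponent
  have h1 : η' ⤳ η := by
    rw [specializes_iff_mem_closure, hη'.def]
    exact mem_irreducibleComponent
  rw [← h η' h1, hη'.def]
  exact irreducibleComponent_mem_irreducibleComponents η

end Top

section Lift

/-- generic points of components through `f t` lift along a morphism which is an isomorphism on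
local rings at `t` -/
theorem exists_generic_lift {T X : Scheme.{u}} (f : T ⟶ X) (t : T) [IsIso (f.stalkMap t)]
    (ξ : X) (hξ : closure ({ξ} : Set X) ∈ irreducibleComponents (X : Type u))
    (hξt : ξ ⤳ f t) :
    ∃ η : T, closure ({η} : Set T) ∈ irreducibleComponents (T : Type u) ∧ f η = ξ ∧ η ⤳ t := by
  obtain ⟨p, hp⟩ : ξ ∈ Set.range (X.fromSpecStalk (f t)) := by
    rw [Scheme.range_fromSpecStalk]
    exact hξt
  haveI : IsIso (Spec.map (f.stalkMap t)) := inferInstance
  obtain ⟨q, hq⟩ := (Spec.map (f.stalkMap t)).surjective p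
  have key : ∀ q', f (T.fromSpecStalk t q') =
      X.fromSpecStalk (f t) (Spec.map (f.stalkMap t) q') := by
    intro q'
    have e := Scheme.SpecMap_stalkMap_fromSpecStalk f (x := t)
    have e' := congr($(e) q')
    exact e'.symm
  have hrange : ∀ q', T.fromSpecStalk t q' ⤳ t := by
    intro q'
    have : T.fromSpecStalk t q' ∈ Set.range (T.fromSpecStalk t) := ⟨q', rfl⟩
    rw [Scheme.range_fromSpecStalk] at this
    exact this
  refine ⟨T.fromSpecStalk t q, ?_, ?_, hrange q⟩
  · apply closure_mem_irreducibleComponents_of_maximal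
    intro η' hη'
    obtain ⟨q', rfl⟩ : η' ∈ Set.range (T.fromSpecStalk t) := by
      rw [Scheme.range_fromSpecStalk]
      exact hη'.trans (hrange q)
    have h1 : f (T.fromSpecStalk t q') ⤳ f (T.fromSpecStalk t q) := hη'.map f.continuous
    rw [key q, hq, hp] at h1
    have h2 := eq_of_specializes_of_mem_irreducibleComponents hξ h1
    rw [key q', ← hp] at h2
    have h3 : Spec.map (f.stalkMap t) q' = p :=
      (X.fromSpecStalk (f t)).isEmbedding.injective h2
    have h4 : q' = q :=
      (Spec.map (f.stalkMap t)).isOpenEmbedding.injective (h3.trans hq.symm)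
    rw [h4]
  · rw [key q, hq, hp]

end Lift

section Red

variable {X : Scheme.{u}}

theorem irreducibleSpace_red (Y : Closeds X) (hY : IsIrreducible (Y : Set X)) :
    IrreducibleSpace (red Y) := by
  have e : red Y ≃ₜ Set.range (redι Y) := (redι Y).isEmbedding.toHomeomorph
  have hr : IsIrreducible (Set.range (redι Y)) := by
    rw [range_redι]
    exact hY
  haveI : IrreducibleSpace (Set.range (redι Y)) := Subtype.irreducibleSpace hr
  exact (Homeomorph.irreducibleSpace_iff e).mpr inferInstance

theorem isIntegral_red (Y : Closeds X) (hY : IsIrreducible (Y : Set X)) : IsIntegral (red Y) := by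
  haveI := irreducibleSpace_red Y hY
  haveI : IsReduced (red Y) := Groth.Agent.H8.RedImm.isReduced_subscheme_vanishingIdeal Y
  exact isIntegral_of_irreducibleSpace_of_isReduced _

/-- the generic point of the reduced induced subscheme on an irreducible closed set maps to its
generic point -/
theorem redι_genericPoint (Y : Closeds X) [IrreducibleSpace (red Y)] {ξ : X}
    (hξ : IsGenericPoint ξ (Y : Set X)) : redι Y (genericPoint (red Y)) = ξ := by
  have h1 : IsGenericPoint (redι Y (genericPoint (red Y))) (closure (redι Y '' Set.univ)) :=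
    (genericPoint_spec (red Y)).image (redι Y).continuous
  rw [Set.image_univ, range_redι, Y.isClosed.closure_eq] at h1
  exact h1.eq hξ

end Red

section Main

/-- the contribution of one irreducible component -/
theorem exists_affineOpen_component {T X : Scheme.{u}} (f : T ⟶ X) [IsAffine T]
    [QuasiSeparatedSpace X] (Z : Set X) (hZ : Z ∈ irreducibleComponents (X : Type u))
    (hinj : ∀ η η' : T, closure ({η} : Set T) ∈ irreducibleComponents (T : Type u) →
      closure ({η'} : Set T) ∈ irreducibleComponents (T : Type u) → f.base η = f.base η' → η = η')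
    (s : Finset T) (hs : ∀ t ∈ s, IsIso (f.stalkMap t)) :
    ∃ V : (red (⟨Z, isClosed_of_mem_irreducibleComponents Z hZ⟩ : Closeds X)).Opens,
      IsAffineOpen V ∧ ∀ t ∈ s, f t ∈ Z →
        f t ∈ (redι (⟨Z, isClosed_of_mem_irreducibleComponents Z hZ⟩ : Closeds X)) ''
          (V : Set _) := by
  classical
  set Y : Closeds X := ⟨Z, isClosed_of_mem_irreducibleComponents Z hZ⟩ with hY
  by_cases hex : ∃ t ∈ s, f t ∈ Z
  swap
  · refine ⟨⊥, isAffineOpen_bot _, ?_⟩
    intro t ht htZ
    exact (hex ⟨t, ht, htZ⟩).elim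
  obtain ⟨t₀, ht₀, ht₀Z⟩ := hex
  obtain ⟨ξ, hξ⟩ := QuasiSober.sober hZ.1 (isClosed_of_mem_irreducibleComponents Z hZ)
  have hξc : closure ({ξ} : Set X) ∈ irreducibleComponents (X : Type u) := by
    rw [hξ.def]
    exact hZ
  have hlift : ∀ t ∈ s, f t ∈ Z → ∃ η : T,
      closure ({η} : Set T) ∈ irreducibleComponents (T : Type u) ∧ f η = ξ ∧ η ⤳ t := by
    intro t ht htZ
    haveI := hs t ht
    refine exists_generic_lift f t ξ hξc ?_
    rw [specializes_iff_mem_closure, hξ.def]
    exact htZ
  obtain ⟨η, hηc, hηξ, hηt₀⟩ := hlift t₀ ht₀ ht₀Z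
  have hη : ∀ t ∈ s, f t ∈ Z → η ⤳ t := by
    intro t ht htZ
    obtain ⟨η', hη'c, hη'ξ, hη't⟩ := hlift t ht htZ
    rw [hinj η η' hηc hη'c (hηξ.trans hη'ξ.symm)]
    exact hη't
  set W : Closeds T := ⟨closure {η}, isClosed_closure⟩ with hW
  haveI : IsIntegral (red W) := isIntegral_red W isIrreducible_singleton.closure
  haveI : IsIntegral (red Y) := isIntegral_red Y hZ.1
  haveI : IsAffine (red W) := isAffine_of_isAffineHom (redι W)
  haveI : QuasiSeparatedSpace (red Y) := quasiSeparatedSpace_of_quasiSeparated (redι Y)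
  have hrange : Set.range (redι W ≫ f) ⊆ Set.range (redι Y) := by
    rintro _ ⟨w, rfl⟩
    rw [range_redι]
    show f (redι W w) ∈ Z
    have hw : redι W w ∈ closure ({η} : Set T) := Groth.Agent.H5.AffT.redι_mem W w
    have h1 : f (redι W w) ∈ closure (f '' ({η} : Set T)) :=
      image_closure_subset_closure_image f.continuous ⟨_, hw, rfl⟩
    rw [Set.image_singleton, hηξ, hξ.def] at h1
    exact h1
  obtain ⟨g, hg⟩ := Groth.Agent.H8.RedImm.exists_lift_of_isImmersion_of_isReduced (redι Y)
    (redι W ≫ f) hrange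
  have hggen : g (genericPoint (red W)) = genericPoint (red Y) := by
    apply (redι Y).isEmbedding.injective
    have h1 : redι Y (g (genericPoint (red W))) = f (redι W (genericPoint (red W))) :=
      congr($hg (genericPoint (red W)))
    have h2 : redι W (genericPoint (red W)) = η :=
      redι_genericPoint W (show IsGenericPoint η (closure {η}) from rfl)
    rw [h1, h2, hηξ, redι_genericPoint Y hξ]
  let s₁ : Finset (red W) :=
    (s.finite_toSet.preimage ((redι W).isEmbedding.injective.injOn)).toFinset
  have hs₁mem : ∀ t₁ : red W, t₁ ∈ s₁ ↔ redι W t₁ ∈ s := by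
    intro t₁
    simp [s₁]
  have hs₁ : ∀ t₁ ∈ s₁, IsIso (g.stalkMap t₁) := by
    intro t₁ ht₁
    have ht : redι W t₁ ∈ s := (hs₁mem t₁).mp ht₁
    haveI := hs _ ht
    have hsurj : Function.Surjective (g.stalkMap t₁) := by
      apply surjective_stalkMap_of_comp_eq g (redι Y) (redι W ≫ f) hg t₁
      intro y
      obtain ⟨x, hx⟩ := (redι W).stalkMap_surjective t₁ y
      obtain ⟨x', hx'⟩ := (ConcreteCategory.bijective_of_isIso (f.stalkMap (redι W t₁))).2 x
      exact ⟨x', by rw [stalkMap_comp_apply', hx', hx]⟩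
    have hinj' := stalkMap_injective_of_dominant g hggen t₁
    exact (ConcreteCategory.isIso_iff_bijective _).mpr ⟨hinj', hsurj⟩
  obtain ⟨V, hV, hVs⟩ := exists_affineOpen_of_integral g s₁ hs₁
  refine ⟨V, hV, ?_⟩
  intro t ht htZ
  have hηt := hη t ht htZ
  have htW : t ∈ W := specializes_iff_mem_closure.mp hηt
  obtain ⟨t₁, rfl⟩ := Groth.Agent.H5.AffT.exists_redι_eq W htW
  have ht₁ : t₁ ∈ s₁ := (hs₁mem t₁).mpr ht
  exact ⟨g t₁, hVs t₁ ht₁, congr($hg t₁)⟩

/-- Stacks 09NN -/
theorem exists_affineOpen_of_stalkIso {T X : Scheme.{u}} (f : T ⟶ X)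
    [IsAffine T] [QuasiSeparatedSpace X] (hX : (irreducibleComponents (X : Type u)).Finite)
    (hinj : ∀ η η' : T, closure ({η} : Set T) ∈ irreducibleComponents (T : Type u) →
      closure ({η'} : Set T) ∈ irreducibleComponents (T : Type u) → f.base η = f.base η' → η = η')
    (s : Finset T) (hs : ∀ t ∈ s, IsIso (f.stalkMap t)) :
    ∃ U : X.Opens, IsAffineOpen U ∧ ∀ t ∈ s, f.base t ∈ U := by
  classical
  obtain ⟨U, hU, hUs⟩ := Groth.Agent.H5.AffT.exists_affineOpen_of_components X hX
    (s.image f.base) (by
      intro Z hZ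
      obtain ⟨V, hV, hVs⟩ := exists_affineOpen_component f Z hZ hinj s hs
      refine ⟨V, hV, fun x hx hxZ => ?_⟩
      obtain ⟨t, ht, rfl⟩ := Finset.mem_image.mp hx
      exact hVs t ht hxZ)
  exact ⟨U, hU, fun t ht => hUs _ (Finset.mem_image_of_mem _ ht)⟩

end Main

end Groth.Agent.H5.NApprox
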