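import Mathlib

/-!
# Target of a surjective universally closed morphism from a separated scheme is separated (helper5)
-/

set_option autoImplicit false

namespace Groth.Agent.H5.NApprox

open AlgebraicGeometry CategoryTheory Opposite Limits

universe u

theorem isSeparated_of_comp_of_surjective_universallyClosed {X S B : Scheme.{u}} (f : X ⟶ S)
    (g : S ⟶ B) [Surjective f] [UniversallyClosed f] [IsSeparated (f ≫ g)] : IsSeparated g := by
  rw [isSeparated_iff]
  apply IsClosedImmersion.of_isPreimmersion
  let F : pullback (f ≫ g) (f ≫ g) ⟶ pullback g g :=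
    pullback.map (f ≫ g) (f ≫ g) g g f f (𝟙 B) ((Category.comp_id _).trans rfl)
      ((Category.comp_id _).trans rfl)
  have hF : UniversallyClosed F :=
    MorphismProperty.pullbackMap (P := @UniversallyClosed) ‹_› ‹_› rfl rfl
  have hcomm : pullback.diagonal (f ≫ g) ≫ F = f ≫ pullback.diagonal g := by
    apply pullback.hom_ext
    · simp only [F, Category.assoc, pullback.diagonal_fst, Category.comp_id]
      rw [pullback.lift_fst, ← Category.assoc, pullback.diagonal_fst, Category.id_comp]
    · simp only [F, Category.assoc, pullback.diagonal_snd, Category.comp_id]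
      rw [pullback.lift_snd, ← Category.assoc, pullback.diagonal_snd, Category.id_comp]
  have hr : Set.range (pullback.diagonal g) = F '' (Set.range (pullback.diagonal (f ≫ g))) := by
    ext z
    constructor
    · rintro ⟨s, rfl⟩
      obtain ⟨x, rfl⟩ := f.surjective s
      refine ⟨pullback.diagonal (f ≫ g) x, ⟨x, rfl⟩, ?_⟩
      have := congrArg (fun m => m.base x) hcomm
      simpa using this
    · rintro ⟨_, ⟨x, rfl⟩, rfl⟩
      refine ⟨f x, ?_⟩
      have := congrArg (fun m => m.base x) hcomm
      simpa using this.symm
  rw [hr]
  have hcl : IsClosed (Set.range (pullback.diagonal (f ≫ g))) :=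
    (pullback.diagonal (f ≫ g)).isClosedEmbedding.isClosed_range
  exact F.isClosedMap _ hcl

theorem scheme_isSeparated_of_surjective_universallyClosed {X S : Scheme.{u}} (f : X ⟶ S)
    [Surjective f] [UniversallyClosed f] [X.IsSeparated] : S.IsSeparated := by
  haveI : IsSeparated (f ≫ terminal.from S) := by
    rw [terminal.comp_from]
    infer_instance
  exact ⟨isSeparated_of_comp_of_surjective_universallyClosed f (terminal.from S)⟩

theorem isIntegralHom_of_surjective_universallyClosed_of_isAffine {X S : Scheme.{u}} (f : X ⟶ S)
    [Surjective f] [UniversallyClosed f] [IsAffine X] : S.IsSeparated ∧ IsIntegralHom f := by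
  haveI : S.IsSeparated := scheme_isSeparated_of_surjective_universallyClosed f
  haveI : IsAffineHom (f ≫ terminal.from S) := by
    rw [terminal.comp_from]
    infer_instance
  haveI : IsAffineHom f := IsAffineHom.of_comp f (terminal.from S)
  exact ⟨inferInstance, IsIntegralHom.iff_universallyClosed_and_isAffineHom.mpr ⟨inferInstance, inferInstance⟩⟩

end Groth.Agent.H5.NApprox
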