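import Mathlib
import Groth.Agent.Lib.Helper5.NApprox.ChevA
import Groth.Agent.Lib.Helper5.NApprox.IntB
import Groth.Agent.Lib.Helper5.NApprox.Abs
import Groth.Agent.Lib.Helper5.NApprox.DescB
import Groth.Agent.Lib.Helper5.Lim.Model11
import Groth.Agent.Lib.Helper5.Lim.DescendProps
import Groth.Agent.Lib.Helper5.Lim.DescendSurjective
import Groth.Agent.S0021

/-!
# Chevalley's affineness theorem without Noetherian hypotheses (helper5)

If `f : X ⟶ S` is surjective and universally closed with `X` affine, then `S` is affine.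
-/

set_option autoImplicit false

namespace Groth.Agent.H5.NApprox

open AlgebraicGeometry CategoryTheory Opposite Limits

universe u

theorem exists_finite_fp_affine_of_integral {X S : Scheme.{u}} (f : X ⟶ S) [IsIntegralHom f]
    [Surjective f] [IsAffine X] [CompactSpace S] [QuasiSeparatedSpace S] :
    ∃ (X' : Scheme.{u}) (f' : X' ⟶ S), IsFinite f' ∧ LocallyOfFinitePresentation f' ∧
      Surjective f' ∧ IsAffine X' := by
  obtain ⟨I, pI, dI, nI, D, c, hc, hprops, ⟨e⟩⟩ := exists_limit_finite_fp_of_integral f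
  haveI : IsConnected Iᵒᵖ := IsCofiltered.isConnected _
  let E : Iᵒᵖ ⥤ Scheme.{u} := D ⋙ Over.forget S
  let cE : Cone E := (Over.forget S).mapCone c
  have hcE : IsLimit cE := isLimitOfPreserves (Over.forget S) hc
  haveI hEaff : ∀ {i j : Iᵒᵖ} (a : i ⟶ j), IsAffineHom (E.map a) := by
    intro i j a
    show IsAffineHom (D.map a).left
    haveI := (hprops j).1
    haveI := (hprops i).1
    haveI : IsAffineHom ((D.map a).left ≫ (D.obj j).hom) := by
      rw [Over.w (D.map a)]
      infer_instance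
    exact IsAffineHom.of_comp (D.map a).left (D.obj j).hom
  haveI : ∀ i, CompactSpace (E.obj i) := fun i => by
    let πi : E.obj i ⟶ S := (D.obj i).hom
    haveI : IsFinite πi := (hprops i).1
    exact QuasiCompact.compactSpace_of_compactSpace πi
  haveI : ∀ i, QuasiSeparatedSpace (E.obj i) := fun i => by
    let πi : E.obj i ⟶ S := (D.obj i).hom
    haveI : IsFinite πi := (hprops i).1
    exact quasiSeparatedSpace_of_quasiSeparated πi
  let γ : cE.pt ⟶ X := e.hom.left
  haveI : IsIso γ := by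
    show IsIso ((Over.forget S).map e.hom)
    infer_instance
  haveI : IsAffine cE.pt := IsAffine.of_isIso γ
  obtain ⟨a, ha⟩ := Scheme.exists_isAffine_of_isLimit E cE hcE
  refine ⟨(D.obj a).left, (D.obj a).hom, (hprops a).1, (hprops a).2, ?_, ha⟩
  haveI : Surjective ((c.π.app a).left ≫ (D.obj a).hom) := by
    have h1 : (c.π.app a).left ≫ (D.obj a).hom = c.pt.hom := Over.w (c.π.app a)
    have h2 : c.pt.hom = e.hom.left ≫ f := (Over.w e.hom).symm
    rw [h1, h2]
    infer_instance
  exact Surjective.of_comp (c.π.app a).left (D.obj a).hom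

theorem isAffine_of_finite_fp_surjective {X S : Scheme.{u}} (f : X ⟶ S) [IsFinite f]
    [LocallyOfFinitePresentation f] [Surjective f] [IsAffine X] [CompactSpace S]
    [QuasiSeparatedSpace S] : IsAffine S := by
  obtain ⟨I₀, pI, dI, nI, D, c, hc, haff, hst, ⟨e⟩⟩ := absApprox S
  haveI : IsCofiltered I₀ᵒᵖ := inferInstance
  haveI hDaff : ∀ {i j : I₀ᵒᵖ} (a : i ⟶ j), IsAffineHom (D.map a) := fun a => haff _ _ a
  haveI hDaff' : ∀ (i j : I₀ᵒᵖ) (a : i ⟶ j), IsAffineHom (D.map a) := fun _ _ a => haff _ _ a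
  haveI : ∀ i, CompactSpace (D.obj i) := fun i => (hst i).1
  haveI : ∀ i, QuasiSeparatedSpace (D.obj i) := fun i => by
    haveI := (hst i).2
    exact quasiSeparatedSpace_of_lft _
  haveI : ∀ i, IsLocallyNoetherian (D.obj i) := fun i => by
    haveI := (hst i).2
    haveI : IsNoetherianRing (ULift.{u} ℤ) :=
      isNoetherianRing_of_ringEquiv ℤ ULift.ringEquiv.symm
    haveI : IsNoetherianRing (CommRingCat.of (ULift.{u} ℤ)) := this
    exact LocallyOfFiniteType.isLocallyNoetherian
      (Limits.IsTerminal.from specULiftZIsTerminal (D.obj i))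
  haveI : ∀ i, IsNoetherian (D.obj i) := fun i => { }
  let f' : X ⟶ c.pt := f ≫ e.inv
  haveI : IsFinite f' := inferInstance
  haveI : LocallyOfFinitePresentation f' := inferInstance
  haveI : Surjective f' := inferInstance
  obtain ⟨i, ⟨M⟩⟩ := Groth.Agent.H5.Lim.exists_model D c hc f'
  have hiso : M.pb.isoPullback.hom ≫ pullback.snd M.p (c.π.app i) = f' :=
    M.pb.isoPullback_hom_snd
  have hfin₀ : IsFinite (pullback.snd M.p (c.π.app i)) := by
    rw [← MorphismProperty.cancel_left_of_respectsIso @IsFinite M.pb.isoPullback.hom, hiso]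
    infer_instance
  have hsur₀ : Surjective (pullback.snd M.p (c.π.app i)) := by
    rw [← MorphismProperty.cancel_left_of_respectsIso @Surjective M.pb.isoPullback.hom, hiso]
    infer_instance
  obtain ⟨j₁, φ₁, h₁⟩ := Groth.Agent.H5.Lim.exists_bc_of_affineSystemDescent D c hc
    Groth.Agent.H5.Lim.affineSystemDescent_isFinite i M.p
    ⟨inferInstance, inferInstance, inferInstance⟩ hfin₀
  obtain ⟨j₂, φ₂, h₂⟩ := Groth.Agent.H5.Lim.exists_bc_of_affineSystemDescent D c hc
    Groth.Agent.H5.Lim.affineSystemDescent_surjective i M.p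
    ⟨inferInstance, inferInstance, inferInstance⟩ hsur₀
  -- an affine stage
  haveI : CompactSpace M.Y := QuasiCompact.compactSpace_of_compactSpace M.p
  haveI : QuasiSeparatedSpace M.Y := quasiSeparatedSpace_of_quasiSeparated M.p
  haveI : ∀ {j k : Over i} (φ : j ⟶ k), IsAffineHom ((Groth.Agent.H5.Lim.bcDiagram D M.p).map φ) :=
    fun φ => Groth.Agent.H5.Lim.isAffineHom_bcMap D M.p φ (hDaff _)
  haveI : ∀ j : Over i, CompactSpace ((Groth.Agent.H5.Lim.bcDiagram D M.p).obj j) :=
    fun j => Groth.Agent.H5.Lim.compactSpace_bcDiagram_obj D M.p j (hDaff _)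
  haveI : ∀ j : Over i, QuasiSeparatedSpace ((Groth.Agent.H5.Lim.bcDiagram D M.p).obj j) :=
    fun j => Groth.Agent.H5.Lim.quasiSeparatedSpace_bcDiagram_obj D M.p j (hDaff _)
  haveI : IsAffine (Groth.Agent.H5.Lim.bcCone D c M.p).pt :=
    IsAffine.of_isIso (Y := X) M.pb.isoPullback.inv
  obtain ⟨k₃, hk₃⟩ := Scheme.exists_isAffine_of_isLimit (Groth.Agent.H5.Lim.bcDiagram D M.p)
    (Groth.Agent.H5.Lim.bcCone D c M.p) (Groth.Agent.H5.Lim.isLimitBcCone D c M.p hc)
  -- a common stage
  let j₁₂ : I₀ᵒᵖ := IsCofiltered.min j₁ j₂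
  let j : I₀ᵒᵖ := IsCofiltered.min j₁₂ k₃.left
  let ψ₁ : j ⟶ j₁ := IsCofiltered.minToLeft j₁₂ k₃.left ≫ IsCofiltered.minToLeft j₁ j₂
  let ψ₂ : j ⟶ j₂ := IsCofiltered.minToLeft j₁₂ k₃.left ≫ IsCofiltered.minToRight j₁ j₂
  let ψ₃ : j ⟶ k₃.left := IsCofiltered.minToRight j₁₂ k₃.left
  let φ : j ⟶ i := ψ₁ ≫ φ₁
  have e₂ : φ = ψ₂ ≫ φ₂ := hom_op_ext _ _
  have e₃ : ψ₃ ≫ k₃.hom = φ := hom_op_ext _ _
  haveI hfin : IsFinite (pullback.snd M.p (D.map φ)) := by
    have := Groth.Agent.H5.Lim.bc_of_comp (P := @IsFinite) M.p (D.map φ₁) (D.map ψ₁) h₁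
    rwa [← D.map_comp] at this
  haveI hsur : Surjective (pullback.snd M.p (D.map φ)) := by
    have := Groth.Agent.H5.Lim.bc_of_comp (P := @Surjective) M.p (D.map φ₂) (D.map ψ₂) h₂
    rw [← D.map_comp, ← e₂] at this
    exact this
  haveI haffj : IsAffine (pullback M.p (D.map φ)) := by
    let jj : Over i := Over.mk φ
    let θ : jj ⟶ k₃ := Over.homMk ψ₃ e₃
    haveI : IsAffineHom (Groth.Agent.H5.Lim.bcMap D M.p θ) :=
      Groth.Agent.H5.Lim.isAffineHom_bcMap D M.p θ (hDaff _)
    haveI : IsAffine (pullback M.p (D.map k₃.hom)) := hk₃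
    exact isAffine_of_isAffineHom (Groth.Agent.H5.Lim.bcMap D M.p θ)
  haveI : IsAffine (D.obj j) := Groth.Agent.S0021.result (pullback.snd M.p (D.map φ))
  haveI : IsAffineHom (c.π.app j) := isAffineHom_π_app D c hc j
  haveI : IsAffine c.pt := isAffine_of_isAffineHom (c.π.app j)
  exact IsAffine.of_isIso e.inv

/-- **Chevalley's theorem**, general form: the target of a surjective universally closed
morphism from an affine scheme is affine. -/
theorem isAffine_of_surjective_universallyClosed {X S : Scheme.{u}} (f : X ⟶ S)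
    [IsAffine X] [Surjective f] [UniversallyClosed f] : IsAffine S := by
  obtain ⟨hsep, hint⟩ := isIntegralHom_of_surjective_universallyClosed_of_isAffine f
  haveI : CompactSpace S := by
    constructor
    rw [← Set.range_eq_univ.mpr f.surjective]
    exact isCompact_range f.continuous
  haveI : QuasiSeparatedSpace S := inferInstance
  obtain ⟨X', f', h1, h2, h3, h4⟩ := exists_finite_fp_affine_of_integral f
  exact isAffine_of_finite_fp_surjective f'

end Groth.Agent.H5.NApprox
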