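import Mathlib
import Groth.Agent.Lib.Helper5.NApprox.FgIdA
import Groth.Agent.Lib.Helper5.Lim.DescendProps
import Groth.Agent.S0591

/-!
# Ideal sheaves of finite type on a limit come from a stage (helper5)
-/

set_option autoImplicit false

namespace Groth.Agent.H5.NApprox

open AlgebraicGeometry CategoryTheory Opposite Limits Groth.Agent.H5.Lim

universe u

theorem exists_idealSheaf_fg_descend {I : Type u} [SmallCategory I] [IsCofiltered I]
    (D : I ⥤ Scheme.{u}) (c : Limits.Cone D) (hc : Limits.IsLimit c)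
    [∀ (i j : I) (f : i ⟶ j), IsAffineHom (D.map f)] [∀ i, CompactSpace (D.obj i)]
    [∀ i, QuasiSeparatedSpace (D.obj i)] (J : c.pt.IdealSheafData)
    (hJ : ∀ U : c.pt.affineOpens, (J.ideal U).FG) :
    ∃ (i : I) (Ji : (D.obj i).IdealSheafData), (∀ U : (D.obj i).affineOpens, (Ji.ideal U).FG) ∧
      Ji.comap (c.π.app i) = J := by
  haveI := lfp_subschemeι_of_fg J hJ
  obtain ⟨i, Zi, w, g, hw1, hw2, hw3, hpb⟩ :=
    Groth.Agent.S0591.result D c hc J.subscheme J.subschemeι
  have hcl : IsClosedImmersion (pullback.snd w (c.π.app i)) := by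
    have : pullback.snd w (c.π.app i) = hpb.isoPullback.inv ≫ J.subschemeι := by
      rw [Iso.eq_inv_comp]
      exact hpb.isoPullback_hom_snd
    rw [this]
    infer_instance
  haveI : LocallyOfFiniteType w := inferInstance
  obtain ⟨i', φ, hi'⟩ := exists_bc_of_affineSystemDescent D c hc
    affineSystemDescent_isClosedImmersion i w ⟨inferInstance, hw2, hw3⟩ hcl
  let ι' : pullback w (D.map φ) ⟶ D.obj i' := pullback.snd w (D.map φ)
  haveI : IsClosedImmersion ι' := hi'
  haveI : LocallyOfFinitePresentation ι' :=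
    MorphismProperty.pullback_snd (P := @LocallyOfFinitePresentation) _ _ hw1
  refine ⟨i', ι'.ker, fun U => fg_ker_of_lfp ι' U, ?_⟩
  rw [← Scheme.IdealSheafData.ker_fst_of_isClosedImmersion ι' (c.π.app i')]
  have sq1 : IsPullback (pullback.fst w (D.map φ)) ι' w (D.map φ) := IsPullback.of_hasPullback _ _
  have sq2 : IsPullback (pullback.fst (c.π.app i') ι') (pullback.snd (c.π.app i') ι')
      (c.π.app i') ι' := IsPullback.of_hasPullback _ _
  have sq3 := sq2.flip.paste_horiz sq1
  rw [c.w φ] at sq3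
  have h1 : (sq3.isoIsPullback _ _ hpb).hom ≫ J.subschemeι = pullback.fst (c.π.app i') ι' :=
    sq3.isoIsPullback_hom_snd _ _ hpb
  rw [← h1, ker_iso_comp, Scheme.IdealSheafData.ker_subschemeι]

end Groth.Agent.H5.NApprox
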