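import Mathlib
import Groth.Agent.Lib.Helper5.Lim.BaseChangeSystem
import Groth.Agent.Lib.Helper5.Lim.ConstructibleOpen
import Groth.Agent.Lib.Helper1.Chev2
import Groth.Agent.Lib.Helper1.FibDimBC
import Groth.Agent.Lib.Helper1.FibDimFP
import Groth.Agent.Lib.Helper1.RelDim
import Groth.Agent.Lib.Helper1.CMQF

/-!
# Descending bounds on the fibre dimension to a stage of a limit (helper5)
-/

set_option autoImplicit false

namespace Groth.Agent.H5.NApprox

open AlgebraicGeometry CategoryTheory Opposite Limits Groth.Agent.H5.Lim Topology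

universe u

section Stage

variable {I : Type u} [SmallCategory I] [IsCofiltered I]
  (D : I ⥤ Scheme.{u}) (c : Limits.Cone D) (hc : Limits.IsLimit c)
  [∀ (i j : I) (f : i ⟶ j), IsAffineHom (D.map f)] (i₀ : I)
  {X₀ Y₀ : Scheme.{u}} (f₀ : X₀ ⟶ Y₀) (g₀ : Y₀ ⟶ D.obj i₀)
  {X Y : Scheme.{u}} (f : X ⟶ Y) (g : Y ⟶ c.pt) (qY : Y ⟶ Y₀) (qX : X ⟶ X₀)
  (hY : IsPullback qY g g₀ (c.π.app i₀)) (hX : IsPullback qX f f₀ qY)

include hY hX in
omit [IsCofiltered I] [∀ (i j : I) (f : i ⟶ j), IsAffineHom (D.map f)] in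
/-- points of the base change of `X₀` to the limit come from `X` -/
theorem exists_qX_eq (z : ↥(pullback (f₀ ≫ g₀) (c.π.app i₀))) :
    ∃ x : X, qX x = pullback.fst (f₀ ≫ g₀) (c.π.app i₀) z := by
  have hXY : IsPullback qX (f ≫ g) (f₀ ≫ g₀) (c.π.app i₀) := hX.paste_vert hY
  refine ⟨hXY.isoPullback.inv z, ?_⟩
  have h1 : hXY.isoPullback.inv ≫ qX = pullback.fst (f₀ ≫ g₀) (c.π.app i₀) :=
    hXY.isoPullback_inv_fst
  rw [← h1]
  rfl

include hc hY hX in
/-- an open subset of `X₀` containing the image of `X` contains the image of a stage -/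
theorem exists_stage_preimage_eq_top [CompactSpace X₀] (U₀ : X₀.Opens) (h : qX ⁻¹ᵁ U₀ = ⊤) :
    ∃ (i : I) (φ : i ⟶ i₀), pullback.fst (f₀ ≫ g₀) (D.map φ) ⁻¹ᵁ U₀ = ⊤ := by
  let a : X₀ ⟶ D.obj i₀ := f₀ ≫ g₀
  haveI : ∀ {k k' : Over i₀} (m : k ⟶ k'), IsAffineHom ((bcDiagram D a).map m) := fun m =>
    isAffineHom_bcMap D a m inferInstance
  haveI : ∀ k : Over i₀, CompactSpace ((bcDiagram D a).obj k) := fun k =>
    compactSpace_bcDiagram_obj D a k inferInstance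
  let k₀ : Over i₀ := Over.mk (𝟙 i₀)
  let U : ((bcDiagram D a).obj k₀).Opens := pullback.fst a (D.map k₀.hom) ⁻¹ᵁ U₀
  have hU : (bcCone D c a).π.app k₀ ⁻¹ᵁ U = ⊤ := by
    rw [eq_top_iff]
    intro z _
    show pullback.fst a (D.map k₀.hom) (bcProj D c a k₀ z) ∈ U₀
    have h1 : bcProj D c a k₀ ≫ pullback.fst a (D.map k₀.hom) = pullback.fst a (c.π.app i₀) :=
      bcProj_fst D c a k₀
    have h2 : pullback.fst a (D.map k₀.hom) (bcProj D c a k₀ z) = pullback.fst a (c.π.app i₀) z := by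
      rw [← h1]
      rfl
    rw [h2]
    obtain ⟨x, hx⟩ := exists_qX_eq D c i₀ f₀ g₀ f g qY qX hY hX z
    rw [← hx]
    have : x ∈ qX ⁻¹ᵁ U₀ := by
      rw [h]
      trivial
    exact this
  obtain ⟨k, m, hk⟩ := exists_map_eq_top (bcDiagram D a) (bcCone D c a) (isLimitBcCone D c a hc) U hU
  refine ⟨k.left, k.hom, ?_⟩
  rw [eq_top_iff]
  intro z _
  have hz : z ∈ (bcDiagram D a).map m ⁻¹ᵁ U := by
    rw [hk]
    trivial
  have h1 : bcMap D a m ≫ pullback.fst a (D.map k₀.hom) = pullback.fst a (D.map k.hom) :=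
    bcMap_fst D a m
  have h2 : pullback.fst a (D.map k₀.hom) (bcMap D a m z) = pullback.fst a (D.map k.hom) z := by
    rw [← h1]
    rfl
  show pullback.fst a (D.map k.hom) z ∈ U₀
  rw [← h2]
  exact hz

include hc hY hX in
/-- a constructible subset of `X₀` missing the image of `X` misses the image of a stage -/
theorem exists_stage_preimage_empty [CompactSpace X₀] [QuasiSeparatedSpace X₀] (A₀ : Set X₀)
    (hA : IsConstructible A₀) (h : qX ⁻¹' A₀ = ∅) :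
    ∃ (i : I) (φ : i ⟶ i₀), pullback.fst (f₀ ≫ g₀) (D.map φ) ⁻¹' A₀ = ∅ := by
  let a : X₀ ⟶ D.obj i₀ := f₀ ≫ g₀
  haveI : ∀ (k k' : Over i₀) (m : k ⟶ k'), IsAffineHom ((bcDiagram D a).map m) := fun _ _ m =>
    isAffineHom_bcMap D a m inferInstance
  let k₀ : Over i₀ := Over.mk (𝟙 i₀)
  haveI : CompactSpace ((bcDiagram D a).obj k₀) := compactSpace_bcDiagram_obj D a k₀ inferInstance
  haveI : QuasiSeparatedSpace ((bcDiagram D a).obj k₀) :=
    quasiSeparatedSpace_bcDiagram_obj D a k₀ inferInstance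
  let p₀ : (bcDiagram D a).obj k₀ ⟶ X₀ := pullback.fst a (D.map k₀.hom)
  have hA' : IsConstructible (p₀ ⁻¹' A₀) := p₀.isConstructible_preimage hA
  have hemp : (bcCone D c a).π.app k₀ ⁻¹' (p₀ ⁻¹' A₀) = (bcCone D c a).π.app k₀ ⁻¹' ∅ := by
    rw [Set.preimage_empty, Set.eq_empty_iff_forall_notMem]
    intro z hz
    have h1 : bcProj D c a k₀ ≫ pullback.fst a (D.map k₀.hom) = pullback.fst a (c.π.app i₀) :=
      bcProj_fst D c a k₀
    have h2 : p₀ (bcProj D c a k₀ z) = pullback.fst a (c.π.app i₀) z := by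
      rw [← h1]
      rfl
    have hz' : p₀ (bcProj D c a k₀ z) ∈ A₀ := hz
    rw [h2] at hz'
    obtain ⟨x, hx⟩ := exists_qX_eq D c i₀ f₀ g₀ f g qY qX hY hX z
    rw [← hx] at hz'
    have : x ∈ qX ⁻¹' A₀ := hz'
    rw [h] at this
    exact this
  obtain ⟨k, hk⟩ := exists_preimage_eq_of_isConstructible (bcDiagram D a) (bcCone D c a)
    (isLimitBcCone D c a hc) k₀ (p₀ ⁻¹' A₀) ∅ hA' IsConstructible.empty hemp
  refine ⟨k.left.left, k.left.hom, ?_⟩
  rw [Set.eq_empty_iff_forall_notMem]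
  intro z hz
  have h1 : bcMap D a k.hom ≫ pullback.fst a (D.map k₀.hom) = pullback.fst a (D.map k.left.hom) :=
    bcMap_fst D a k.hom
  have h2 : p₀ (bcMap D a k.hom z) = pullback.fst a (D.map k.left.hom) z := by
    rw [← h1]
    rfl
  have : z ∈ (bcDiagram D a).map k.hom ⁻¹' (p₀ ⁻¹' A₀) := by
    show p₀ (bcMap D a k.hom z) ∈ A₀
    rw [h2]
    exact hz
  rw [hk] at this
  exact this

omit [IsCofiltered I] [∀ (i j : I) (f : i ⟶ j), IsAffineHom (D.map f)] in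
/-- the standard base changes to a stage, with the comparison to the base change of `X₀` -/
theorem stage_data {i : I} (φ : i ⟶ i₀) :
    ∃ (Xi Yi : Scheme.{u}) (fi : Xi ⟶ Yi) (gi : Yi ⟶ D.obj i) (pY : Yi ⟶ Y₀) (pX : Xi ⟶ X₀),
      IsPullback pY gi g₀ (D.map φ) ∧ IsPullback pX fi f₀ pY ∧
      ∀ x : Xi, ∃ z : ↥(pullback (f₀ ≫ g₀) (D.map φ)),
        pullback.fst (f₀ ≫ g₀) (D.map φ) z = pX x := by
  let Yi : Scheme.{u} := pullback g₀ (D.map φ)
  let pY : Yi ⟶ Y₀ := pullback.fst g₀ (D.map φ)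
  let gi : Yi ⟶ D.obj i := pullback.snd g₀ (D.map φ)
  let Xi : Scheme.{u} := pullback f₀ pY
  let pX : Xi ⟶ X₀ := pullback.fst f₀ pY
  let fi : Xi ⟶ Yi := pullback.snd f₀ pY
  have hYi : IsPullback pY gi g₀ (D.map φ) := IsPullback.of_hasPullback _ _
  have hXi : IsPullback pX fi f₀ pY := IsPullback.of_hasPullback _ _
  refine ⟨Xi, Yi, fi, gi, pY, pX, hYi, hXi, ?_⟩
  let w : Xi ⟶ pullback (f₀ ≫ g₀) (D.map φ) := pullback.lift pX (fi ≫ gi) (by
    rw [← Category.assoc, hXi.w, Category.assoc, hYi.w, Category.assoc])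
  have hw : w ≫ pullback.fst (f₀ ≫ g₀) (D.map φ) = pX := pullback.lift_fst _ _ _
  intro x
  refine ⟨w x, ?_⟩
  rw [← hw]
  rfl

end Stage

end Groth.Agent.H5.NApprox
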