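import Mathlib
import Groth.Agent.Lib.Helper5.NApprox.FibA

/-!
# Descending the fibre dimension to a stage (helper5)
-/

set_option autoImplicit false

namespace Groth.Agent.H5.NApprox

open AlgebraicGeometry CategoryTheory Opposite Limits Groth.Agent.H5.Lim Topology

universe u

section Stage

variable {I : Type u} [SmallCategory I] [IsCofiltered I]
  (D : I ⥤ Scheme.{u}) (c : Limits.Cone D) (hc : Limits.IsLimit c)
  [∀ (i j : I) (f : i ⟶ j), IsAffineHom (D.map f)] (i₀ : I)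
  {X₀ Y₀ : Scheme.{u}} (f₀ : X₀ ⟶ Y₀) (g₀ : Y₀ ⟶ D.obj i₀)
  {X Y : Scheme.{u}} (f : X ⟶ Y) (g : Y ⟶ c.pt) (qY : Y ⟶ Y₀) (qX : X ⟶ X₀)
  (hY : IsPullback qY g g₀ (c.π.app i₀)) (hX : IsPullback qX f f₀ qY)

include hc hY hX in
theorem exists_fibreDimAt_le_stage [CompactSpace X₀] [LocallyOfFiniteType f₀] (d : ℕ)
    (hd : ∀ x : X, FlatMor.fibreDimAt f x ≤ d) :
    ∃ (i : I) (φ : i ⟶ i₀) (Xi Yi : Scheme.{u}) (fi : Xi ⟶ Yi) (gi : Yi ⟶ D.obj i) (pY : Yi ⟶ Y₀)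
      (pX : Xi ⟶ X₀), IsPullback pY gi g₀ (D.map φ) ∧ IsPullback pX fi f₀ pY ∧
        ∀ x : Xi, FlatMor.fibreDimAt fi x ≤ d := by
  let U₀ : X₀.Opens := ⟨{x | FlatMor.fibreDimAt f₀ x ≤ d},
    Groth.Agent.H1.Chev.isOpen_fibreDimAt_le f₀ d⟩
  have h : qX ⁻¹ᵁ U₀ = ⊤ := by
    rw [eq_top_iff]
    intro x _
    show FlatMor.fibreDimAt f₀ (qX x) ≤ d
    rw [← Groth.Agent.H1.FibDimBC.fibreDimAt_eq_of_isPullback f₀ qY qX f hX x]
    exact hd x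
  obtain ⟨i, φ, hi⟩ := exists_stage_preimage_eq_top D c hc i₀ f₀ g₀ f g qY qX hY hX U₀ h
  obtain ⟨Xi, Yi, fi, gi, pY, pX, hYi, hXi, hz⟩ := stage_data D i₀ f₀ g₀ φ
  refine ⟨i, φ, Xi, Yi, fi, gi, pY, pX, hYi, hXi, ?_⟩
  intro x
  obtain ⟨z, hz⟩ := hz x
  rw [Groth.Agent.H1.FibDimBC.fibreDimAt_eq_of_isPullback f₀ pY pX fi hXi x, ← hz]
  have : z ∈ pullback.fst (f₀ ≫ g₀) (D.map φ) ⁻¹ᵁ U₀ := by
    rw [hi]
    trivial
  exact this

omit [IsCofiltered I] [∀ (i j : I) (f : i ⟶ j), IsAffineHom (D.map f)] in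
theorem isConstructible_fibreDimAt_ne [LocallyOfFinitePresentation f₀] (d : ℕ) :
    IsConstructible {x : X₀ | FlatMor.fibreDimAt f₀ x ≠ d} := by
  have hL : ∀ n : ℕ, IsConstructible {x : X₀ | FlatMor.fibreDimAt f₀ x ≤ n} := fun n =>
    (Groth.Agent.H1.FibDimFP.isRetrocompact_fibreDimAt_le f₀ n).isConstructible
      (Groth.Agent.H1.Chev.isOpen_fibreDimAt_le f₀ n)
  rcases Nat.eq_zero_or_pos d with hd0 | hdpos
  · subst hd0
    have : {x : X₀ | FlatMor.fibreDimAt f₀ x ≠ ((0 : ℕ) : WithBot ℕ∞)} =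
        {x : X₀ | FlatMor.fibreDimAt f₀ x ≤ ((0 : ℕ) : WithBot ℕ∞)}ᶜ := by
      ext x
      obtain ⟨n, hn⟩ := Groth.Agent.H1.CMQF.exists_nat_fibreDimAt f₀ x
      simp only [Set.mem_setOf_eq, Set.mem_compl_iff, hn, ne_eq, Nat.cast_inj, Nat.cast_le]
      omega
    rw [this]
    exact (hL 0).compl
  · have : {x : X₀ | FlatMor.fibreDimAt f₀ x ≠ (d : WithBot ℕ∞)} =
        {x : X₀ | FlatMor.fibreDimAt f₀ x ≤ (d : WithBot ℕ∞)}ᶜ ∪
          {x : X₀ | FlatMor.fibreDimAt f₀ x ≤ ((d - 1 : ℕ) : WithBot ℕ∞)} := by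
      ext x
      obtain ⟨n, hn⟩ := Groth.Agent.H1.CMQF.exists_nat_fibreDimAt f₀ x
      simp only [Set.mem_setOf_eq, Set.mem_compl_iff, Set.mem_union, hn, ne_eq, Nat.cast_inj,
        Nat.cast_le]
      omega
    rw [this]
    exact (hL d).compl.union (hL (d - 1))

include hc hY hX in
theorem exists_hasRelDim_stage [CompactSpace X₀] [QuasiSeparatedSpace X₀]
    [LocallyOfFinitePresentation f₀] (d : ℕ) (hd : Cyc.HasRelDim f d) :
    ∃ (i : I) (φ : i ⟶ i₀) (Xi Yi : Scheme.{u}) (fi : Xi ⟶ Yi) (gi : Yi ⟶ D.obj i) (pY : Yi ⟶ Y₀)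
      (pX : Xi ⟶ X₀), IsPullback pY gi g₀ (D.map φ) ∧ IsPullback pX fi f₀ pY ∧
        Cyc.HasRelDim fi d := by
  haveI : LocallyOfFiniteType f :=
    MorphismProperty.of_isPullback (P := @LocallyOfFiniteType) hX inferInstance
  have hd' := (Groth.Agent.H1.RelDim.hasRelDim_iff f d).mp hd
  have h : qX ⁻¹' {x : X₀ | FlatMor.fibreDimAt f₀ x ≠ d} = ∅ := by
    rw [Set.eq_empty_iff_forall_notMem]
    intro x hx
    apply hx
    show FlatMor.fibreDimAt f₀ (qX x) = d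
    rw [← Groth.Agent.H1.FibDimBC.fibreDimAt_eq_of_isPullback f₀ qY qX f hX x]
    exact hd' x
  obtain ⟨i, φ, hi⟩ := exists_stage_preimage_empty D c hc i₀ f₀ g₀ f g qY qX hY hX _
    (isConstructible_fibreDimAt_ne f₀ d) h
  obtain ⟨Xi, Yi, fi, gi, pY, pX, hYi, hXi, hz⟩ := stage_data D i₀ f₀ g₀ φ
  refine ⟨i, φ, Xi, Yi, fi, gi, pY, pX, hYi, hXi, ?_⟩
  haveI : LocallyOfFiniteType fi :=
    MorphismProperty.of_isPullback (P := @LocallyOfFiniteType) hXi inferInstance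
  rw [Groth.Agent.H1.RelDim.hasRelDim_iff fi d]
  intro x
  obtain ⟨z, hz⟩ := hz x
  rw [Groth.Agent.H1.FibDimBC.fibreDimAt_eq_of_isPullback f₀ pY pX fi hXi x, ← hz]
  by_contra hne
  have : z ∈ pullback.fst (f₀ ≫ g₀) (D.map φ) ⁻¹' {x : X₀ | FlatMor.fibreDimAt f₀ x ≠ d} := hne
  rw [hi] at this
  exact this

end Stage

end Groth.Agent.H5.NApprox
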