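import Mathlib
import Groth.Agent.Lib.Helper5.NApprox.FibB
import Groth.Agent.Lib.Helper1.QSecB
import Groth.Agent.Lib.Helper1.FibCompC
import Groth.Agent.Lib.Helper1.Chev4

/-!
# Bounding the fibre dimension of a closed subscheme by that of finitely presented closed
subschemes containing it (helper5)
-/

set_option autoImplicit false

namespace Groth.Agent.H5.NApprox

open AlgebraicGeometry CategoryTheory Opposite Limits Topology

universe u

section Stab

variable {J : Type u} [Category.{u} J] [IsCofiltered J] {X : Scheme.{u}}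
  (B : J → X.IdealSheafData) (hB : ∀ {μ μ' : J} (_ : μ' ⟶ μ), B μ ≤ B μ')

include hB in
/-- on an affine open of a locally Noetherian scheme an increasing family of ideal sheaves is
eventually constant -/
theorem exists_stab_affine [IsLocallyNoetherian X] (U : X.affineOpens) :
    ∃ μ₀ : J, ∀ (μ : J) (_ : μ ⟶ μ₀), (B μ).ideal U = (B μ₀).ideal U := by
  haveI : IsNoetherianRing Γ(X, U.1) := IsLocallyNoetherian.component_noetherian U
  haveI : Nonempty J := IsCofiltered.nonempty
  obtain ⟨_, ⟨μ₀, rfl⟩, hmax⟩ := set_has_maximal_iff_noetherian.mpr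
    (inferInstance : IsNoetherian Γ(X, U.1) Γ(X, U.1))
    (Set.range fun μ => (B μ).ideal U) (Set.range_nonempty _)
  refine ⟨μ₀, fun μ a => ?_⟩
  have h1 : (B μ₀).ideal U ≤ (B μ).ideal U := hB a U
  have h2 := hmax ((B μ).ideal U) ⟨μ, rfl⟩
  exact (eq_of_le_of_not_lt h1 h2).symm

include hB in
/-- on a Noetherian scheme an increasing family of ideal sheaves is eventually constant -/
theorem exists_stab [IsLocallyNoetherian X] [CompactSpace X] :
    ∃ μ₀ : J, ∀ (μ : J) (_ : μ ⟶ μ₀), B μ = B μ₀ := by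
  classical
  obtain ⟨t, ht⟩ := isCompact_univ.elim_finite_subcover
    (fun U : X.affineOpens => (U.1 : Set X)) (fun U => U.1.isOpen) (by
      intro x _
      have h := iSup_affineOpens_eq_top X
      have hx : x ∈ (⨆ i : X.affineOpens, (i : X.Opens)) := by
        rw [h]
        trivial
      obtain ⟨U, hU⟩ := TopologicalSpace.Opens.mem_iSup.mp hx
      exact Set.mem_iUnion.mpr ⟨U, hU⟩)
  choose ν hν using fun U : X.affineOpens => exists_stab_affine B hB U
  obtain ⟨μ₀, hμ₀⟩ := IsCofiltered.inf_objs_exists (t.image ν)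
  refine ⟨μ₀, fun μ a => ?_⟩
  have hcov : ⨆ i : {U // U ∈ t}, (i.1 : X.affineOpens).1 = ⊤ := by
    rw [eq_top_iff]
    intro x _
    have hx := ht (Set.mem_univ x)
    simp only [Set.mem_iUnion] at hx
    obtain ⟨U, hUt, hxU⟩ := hx
    exact TopologicalSpace.Opens.mem_iSup.mpr ⟨⟨U, hUt⟩, hxU⟩
  refine Scheme.IdealSheafData.ext_of_iSup_eq_top (fun i : {U // U ∈ t} => i.1) hcov ?_
  rintro ⟨U, hUt⟩
  obtain ⟨b⟩ := hμ₀ (Finset.mem_image_of_mem ν hUt)
  show (B μ).ideal U = (B μ₀).ideal U
  rw [hν U μ (a ≫ b), hν U μ₀ b]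

end Stab

section FibSq

variable {P S : Scheme.{u}} (f : P ⟶ S) (s : S) (B : P.IdealSheafData)

/-- the ideal sheaf induced on the fibre -/
noncomputable def fibIdeal : (f.fiber s).IdealSheafData := B.comap (f.fiberι s)

/-- the projection from the closed subscheme of the fibre -/
noncomputable def fibR : (fibIdeal f s B).subscheme ⟶ B.subscheme :=
  (B.comapIso (f.fiberι s)).hom ≫ pullback.snd _ _

theorem fibSq : IsPullback (fibR f s B)
    ((fibIdeal f s B).subschemeι ≫ f.fiberToSpecResidueField s) (B.subschemeι ≫ f)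
    (S.fromSpecResidueField s) := by
  have h1 : IsPullback (B.comapIso (f.fiberι s)).hom (fibIdeal f s B).subschemeι
      (pullback.fst (f.fiberι s) B.subschemeι) (𝟙 _) :=
    IsPullback.of_horiz_isIso ⟨by
      rw [Category.comp_id]
      exact Scheme.IdealSheafData.comapIso_hom_fst _ _⟩
  have h2 : IsPullback (pullback.snd (f.fiberι s) B.subschemeι)
      (pullback.fst (f.fiberι s) B.subschemeι) B.subschemeι (f.fiberι s) :=
    (IsPullback.of_hasPullback (f.fiberι s) B.subschemeι).flip
  have h3 := h1.paste_horiz h2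
  rw [Category.id_comp] at h3
  have h4 : IsPullback (f.fiberι s) (f.fiberToSpecResidueField s) f (S.fromSpecResidueField s) :=
    IsPullback.of_hasPullback f (S.fromSpecResidueField s)
  exact h3.paste_vert h4

end FibSq

section Core

variable {J : Type u} [SmallCategory J] [IsCofiltered J] {P S : Scheme.{u}} (f : P ⟶ S)
  [LocallyOfFiniteType f] [QuasiCompact f] [CompactSpace P]
  (A : J → P.IdealSheafData) (hA : ∀ {μ μ' : J} (_ : μ' ⟶ μ), A μ ≤ A μ')
  (K : P.IdealSheafData) (hAK : ∀ μ, A μ ≤ K)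
  (hK : ∀ (U : P.affineOpens) (x : Γ(P, U.1)), x ∈ K.ideal U → ∃ μ, x ∈ (A μ).ideal U)
  (d : ℕ)

/-- the image in `P` of the locus of `V(B)` where the fibre dimension exceeds `d` -/
def badSet (B : P.IdealSheafData) : Set P :=
  B.subschemeι '' {z | ¬ FlatMor.fibreDimAt (B.subschemeι ≫ f) z ≤ d}

omit [QuasiCompact f] [CompactSpace P] in
theorem isClosed_badSet (B : P.IdealSheafData) : IsClosed (badSet f d B) := by
  apply B.subschemeι.isClosedEmbedding.isClosedMap
  have : {z : B.subscheme | ¬ FlatMor.fibreDimAt (B.subschemeι ≫ f) z ≤ d} =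
      {z : B.subscheme | FlatMor.fibreDimAt (B.subschemeι ≫ f) z ≤ d}ᶜ := rfl
  rw [this]
  exact (Groth.Agent.H1.Chev.isOpen_fibreDimAt_le (B.subschemeι ≫ f) d).isClosed_compl

omit [LocallyOfFiniteType f] [QuasiCompact f] [CompactSpace P] in
theorem badSet_mono {B B' : P.IdealSheafData} (h : B ≤ B') : badSet f d B' ⊆ badSet f d B := by
  rintro _ ⟨z', hz', rfl⟩
  have hι : Scheme.IdealSheafData.inclusion h ≫ B.subschemeι = B'.subschemeι :=
    Scheme.IdealSheafData.inclusion_subschemeι h
  refine ⟨Scheme.IdealSheafData.inclusion h z', ?_, ?_⟩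
  · intro hle
    apply hz'
    have h1 : B'.subschemeι ≫ f = Scheme.IdealSheafData.inclusion h ≫ (B.subschemeι ≫ f) := by
      rw [← Category.assoc, hι]
    rw [h1]
    exact (Groth.Agent.H1.QSec.fibreDimAt_comp_le (Scheme.IdealSheafData.inclusion h)
      (Scheme.IdealSheafData.inclusion h).isClosedEmbedding.isEmbedding _ z').trans hle
  · rw [← hι]
    rfl

include hA hAK hK in
/-- If all fibres of `V(K) ⟶ S` have dimension at most `d`, so do those of some `V(A μ) ⟶ S`. -/
theorem exists_fibreDimAt_le_of_iSup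
    (hd : ∀ z : K.subscheme, FlatMor.fibreDimAt (K.subschemeι ≫ f) z ≤ d) :
    ∃ μ, ∀ z : (A μ).subscheme, FlatMor.fibreDimAt ((A μ).subschemeι ≫ f) z ≤ d := by
  by_contra H
  push_neg at H
  haveI : Nonempty J := IsCofiltered.nonempty
  have hne : ∀ μ, (badSet f d (A μ)).Nonempty := fun μ => by
    obtain ⟨z, hz⟩ := H μ
    exact ⟨_, z, not_le.mpr hz, rfl⟩
  have hdir : Directed (· ⊇ ·) (fun μ => badSet f d (A μ)) := by
    intro μ₁ μ₂
    exact ⟨IsCofiltered.min μ₁ μ₂, badSet_mono f d (hA (IsCofiltered.minToLeft μ₁ μ₂)),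
      badSet_mono f d (hA (IsCofiltered.minToRight μ₁ μ₂))⟩
  obtain ⟨p, hp⟩ := IsCompact.nonempty_iInter_of_directed_nonempty_isCompact_isClosed
    (fun μ => badSet f d (A μ)) hdir hne (fun μ => (isClosed_badSet f d (A μ)).isCompact)
    (fun μ => isClosed_badSet f d (A μ))
  rw [Set.mem_iInter] at hp
  let s : S := f p
  -- the fibre is Noetherian
  haveI : IsLocallyNoetherian (f.fiber s) :=
    LocallyOfFiniteType.isLocallyNoetherian (f.fiberToSpecResidueField s)
  -- stabilisation on the fibre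
  obtain ⟨μ₀, hμ₀⟩ := exists_stab (fun μ => fibIdeal f s (A μ))
    (fun a => Scheme.IdealSheafData.comap_mono _ (hA a))
  -- `K` is the supremum
  have hKsup : K = ⨆ μ, A μ := by
    apply le_antisymm
    · intro U x hx
      obtain ⟨μ, hμ⟩ := hK U x hx
      exact (le_iSup A μ) U hμ
    · exact iSup_le hAK
  have hKs : fibIdeal f s K = fibIdeal f s (A μ₀) := by
    apply le_antisymm
    · unfold fibIdeal
      rw [hKsup, (Scheme.IdealSheafData.map_gc (f.fiberι s)).l_iSup]
      apply iSup_le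
      intro μ
      have h1 : fibIdeal f s (A μ) ≤ fibIdeal f s (A (IsCofiltered.min μ μ₀)) :=
        Scheme.IdealSheafData.comap_mono _ (hA (IsCofiltered.minToLeft μ μ₀))
      have h2 := hμ₀ _ (IsCofiltered.minToRight μ μ₀)
      rw [h2] at h1
      exact h1
    · exact Scheme.IdealSheafData.comap_mono _ (hAK μ₀)
  -- the bound on the fibre of `K`
  have hG : ∀ q : (fibIdeal f s K).subscheme, FlatMor.fibreDimAt
      ((fibIdeal f s K).subschemeι ≫ f.fiberToSpecResidueField s) q ≤ d := by
    intro q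
    rw [Groth.Agent.H1.FibDimBC.fibreDimAt_eq_of_isPullback (K.subschemeι ≫ f)
      (S.fromSpecResidueField s) (fibR f s K) _ (fibSq f s K) q]
    exact hd _
  rw [hKs] at hG
  -- the bad point
  obtain ⟨z, hz, hzp⟩ := hp μ₀
  have hzs : (((A μ₀).subschemeι ≫ f) : (A μ₀).subscheme ⟶ S) z =
      (S.fromSpecResidueField s) (IsLocalRing.closedPoint (S.residueField s)) := by
    rw [Scheme.fromSpecResidueField_apply]
    show f ((A μ₀).subschemeι z) = s
    rw [hzp]
  obtain ⟨q, hq, -⟩ := Scheme.exists_preimage_of_isPullback (fibSq f s (A μ₀)) z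
    (IsLocalRing.closedPoint (S.residueField s)) hzs
  apply hz
  have h1 := Groth.Agent.H1.FibDimBC.fibreDimAt_eq_of_isPullback ((A μ₀).subschemeι ≫ f)
    (S.fromSpecResidueField s) (fibR f s (A μ₀)) _ (fibSq f s (A μ₀)) q
  rw [show (fibR f s (A μ₀)) q = z from hq] at h1
  rw [← h1]
  exact hG q

end Core

end Groth.Agent.H5.NApprox
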