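import Mathlib
import Groth.Agent.Lib.Helper5.NApprox.FibC
import Groth.Agent.Lib.Helper5.NApprox.Abs
import Groth.Agent.Lib.Helper5.NApprox.IdlA
import Groth.Agent.Lib.Helper5.NApprox.DescB

/-!
# A closed subscheme with fibres of dimension `≤ d` lies in a finitely presented one (helper5)
-/

set_option autoImplicit false

namespace Groth.Agent.H5.NApprox

open AlgebraicGeometry CategoryTheory Opposite Limits Topology

universe u

theorem exists_closedSubscheme_fp_fibre_dim_le {X S Z : Scheme.{u}} [CompactSpace S]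
    [QuasiSeparatedSpace S] (f : X ⟶ S) [LocallyOfFinitePresentation f] [QuasiCompact f]
    [QuasiSeparated f] (d : ℕ) (ι : Z ⟶ X) [IsClosedImmersion ι]
    (hZ : ∀ s : S, topologicalKrullDim ↥((ι ≫ f).fiber s) ≤ d) :
    ∃ (Z' : Scheme.{u}) (ι' : Z' ⟶ X) (k : Z ⟶ Z'), IsClosedImmersion ι' ∧
      LocallyOfFinitePresentation ι' ∧ k ≫ ι' = ι ∧
      ∀ s : S, topologicalKrullDim ↥((ι' ≫ f).fiber s) ≤ d := by
  haveI : CompactSpace X := QuasiCompact.compactSpace_of_compactSpace f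
  haveI : QuasiSeparatedSpace X := quasiSeparatedSpace_of_quasiSeparated f
  obtain ⟨I₀, pI, dI, nI, D, c, hc, haff, hst, ⟨e⟩⟩ := absApprox X
  haveI : IsCofiltered I₀ᵒᵖ := inferInstance
  haveI : ∀ {i j : I₀ᵒᵖ} (a : i ⟶ j), IsAffineHom (D.map a) := fun a => haff _ _ a
  haveI : ∀ i, QuasiSeparatedSpace (D.obj i) := fun i => by
    haveI := (hst i).2
    exact quasiSeparatedSpace_of_lft _
  haveI : ∀ i, IsLocallyNoetherian (D.obj i) := fun i => by
    haveI := (hst i).2
    haveI : IsNoetherianRing (ULift.{u} ℤ) :=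
      isNoetherianRing_of_ringEquiv ℤ ULift.ringEquiv.symm
    haveI : IsNoetherianRing (CommRingCat.of (ULift.{u} ℤ)) := this
    exact LocallyOfFiniteType.isLocallyNoetherian
      (Limits.IsTerminal.from specULiftZIsTerminal (D.obj i))
  let ι₁ : Z ⟶ c.pt := ι ≫ e.inv
  haveI : IsClosedImmersion ι₁ := inferInstance
  let K : c.pt.IdealSheafData := ι₁.ker
  let f₁ : c.pt ⟶ S := e.hom ≫ f
  haveI : LocallyOfFiniteType f₁ := inferInstance
  haveI : QuasiCompact f₁ := inferInstance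
  haveI : CompactSpace c.pt := QuasiCompact.compactSpace_of_compactSpace e.hom
  have hι₁f₁ : ι₁ ≫ f₁ = ι ≫ f := by
    show (ι ≫ e.inv) ≫ e.hom ≫ f = ι ≫ f
    rw [Category.assoc, Iso.inv_hom_id_assoc]
  have hd : ∀ z : K.subscheme, FlatMor.fibreDimAt (K.subschemeι ≫ f₁) z ≤ d := by
    intro z
    haveI : IsIso ι₁.toImage := inferInstance
    let t : K.subscheme ⟶ Z := inv ι₁.toImage
    have h0 : ι₁.toImage ≫ K.subschemeι = ι₁ := ι₁.toImage_imageι
    have h1 : K.subschemeι ≫ f₁ = t ≫ (ι ≫ f) := by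
      rw [← hι₁f₁, ← h0, Category.assoc, IsIso.inv_hom_id_assoc]
    rw [h1]
    exact (Groth.Agent.H1.QSec.fibreDimAt_comp_le t t.isOpenEmbedding.isEmbedding (ι ≫ f) z).trans
      ((Groth.Agent.H1.FibComp.fibreDimAt_le_dim_fiber (ι ≫ f) (t z) _ rfl).trans (hZ _))
  obtain ⟨μ, hμ⟩ := exists_fibreDimAt_le_of_iSup f₁ (fun μ => apxIdeal D c K μ)
    (fun a => apxIdeal_mono D c K a) K (apxIdeal_le D c K)
    (fun U x hx => exists_mem_apxIdeal D c hc K U x hx) d hd
  have hker : (apxIdeal D c K μ).subschemeι.ker ≤ ι₁.ker := by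
    rw [Scheme.IdealSheafData.ker_subschemeι]
    exact apxIdeal_le D c K μ
  haveI : LocallyOfFinitePresentation (apxIdeal D c K μ).subschemeι := apxIdeal_lfp D c K μ
  refine ⟨(apxIdeal D c K μ).subscheme, (apxIdeal D c K μ).subschemeι ≫ e.hom,
    IsClosedImmersion.lift (apxIdeal D c K μ).subschemeι ι₁ hker, inferInstance, inferInstance,
    ?_, ?_⟩
  · rw [← Category.assoc, IsClosedImmersion.lift_fac]
    show (ι ≫ e.inv) ≫ e.hom = ι
    rw [Category.assoc, Iso.inv_hom_id, Category.comp_id]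
  · intro s
    apply Groth.Agent.H1.FibComp.dim_fiber_le_of_forall
    intro z _
    rw [show ((apxIdeal D c K μ).subschemeι ≫ e.hom) ≫ f = (apxIdeal D c K μ).subschemeι ≫ f₁
      from Category.assoc _ _ _]
    exact hμ z

end Groth.Agent.H5.NApprox
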