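import Mathlib
import Groth.Agent.Lib.Helper5.NApprox.FibC
import Groth.Agent.Lib.Helper5.NApprox.PropB

/-!
# Fibre dimension of a limit of morphisms with closed immersion comparison maps (helper5)
-/

set_option autoImplicit false

namespace Groth.Agent.H5.NApprox

open AlgebraicGeometry CategoryTheory Opposite Limits Topology

universe u

section Sys

variable {I : Type u} [SmallCategory I] [IsCofiltered I]
  (DX DS : I ⥤ Scheme.{u}) (φ : DX ⟶ DS) (cX : Limits.Cone DX) (cS : Limits.Cone DS)
  (hcl : ∀ (i j : I) (a : i ⟶ j),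
    IsClosedImmersion (pullback.lift (DX.map a) (φ.app i) (φ.naturality a)))

include hcl in
omit [IsCofiltered I] in
/-- the fibre dimension does not increase along the system -/
theorem fibreDimAt_le_map [∀ i, LocallyOfFiniteType (φ.app i)] {i j : I} (a : i ⟶ j)
    (x : DX.obj i) :
    FlatMor.fibreDimAt (φ.app i) x ≤ FlatMor.fibreDimAt (φ.app j) (DX.map a x) := by
  let v : DX.obj i ⟶ pullback (φ.app j) (DS.map a) :=
    pullback.lift (DX.map a) (φ.app i) (φ.naturality a)
  haveI : IsClosedImmersion v := hcl i j a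
  have h1 : v ≫ pullback.snd (φ.app j) (DS.map a) = φ.app i := pullback.lift_snd _ _ _
  have h2 : v ≫ pullback.fst (φ.app j) (DS.map a) = DX.map a := pullback.lift_fst _ _ _
  have h3 := Groth.Agent.H1.QSec.fibreDimAt_comp_le v v.isClosedEmbedding.isEmbedding
    (pullback.snd (φ.app j) (DS.map a)) x
  rw [h1] at h3
  have h4 := Groth.Agent.H1.FibDimBC.fibreDimAt_eq_of_isPullback (φ.app j) (DS.map a)
    (pullback.fst _ _) (pullback.snd _ _) (IsPullback.of_hasPullback _ _) (v x)
  rw [h4] at h3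
  have h5 : (pullback.fst (φ.app j) (DS.map a)) (v x) = DX.map a x := by
    rw [← h2]
    rfl
  rw [h5] at h3
  exact h3

variable (i₀ : I)

/-- the base change of `X_k` to the limit of the bases -/
noncomputable abbrev bcP (k : Over i₀) : Scheme.{u} := pullback (φ.app k.left) (cS.π.app k.left)

/-- the ambient scheme -/
noncomputable abbrev bcP₀ : Scheme.{u} := pullback (φ.app i₀) (cS.π.app i₀)

/-- transition maps -/
noncomputable def bcE {k k' : Over i₀} (m : k ⟶ k') : bcP DX DS φ cS i₀ k ⟶ bcP DX DS φ cS i₀ k' :=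
  pullback.map _ _ _ _ (DX.map m.left) (𝟙 _) (DS.map m.left) (φ.naturality m.left).symm
    (by rw [cS.w, Category.id_comp])

/-- the maps to the ambient scheme -/
noncomputable def bcU (k : Over i₀) : bcP DX DS φ cS i₀ k ⟶ bcP₀ DX DS φ cS i₀ :=
  pullback.map _ _ _ _ (DX.map k.hom) (𝟙 _) (DS.map k.hom) (φ.naturality k.hom).symm
    (by rw [cS.w, Category.id_comp])

omit [IsCofiltered I] in
@[reassoc]
theorem bcU_fst (k : Over i₀) : bcU DX DS φ cS i₀ k ≫ pullback.fst _ _ =
    pullback.fst _ _ ≫ DX.map k.hom := pullback.lift_fst _ _ _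

omit [IsCofiltered I] in
@[reassoc]
theorem bcU_snd (k : Over i₀) : bcU DX DS φ cS i₀ k ≫ pullback.snd _ _ = pullback.snd _ _ := by
  have := pullback.lift_snd (f := φ.app i₀) (g := cS.π.app i₀)
    (pullback.fst (φ.app k.left) (cS.π.app k.left) ≫ DX.map k.hom)
    (pullback.snd (φ.app k.left) (cS.π.app k.left) ≫ 𝟙 _)
  rw [Category.comp_id] at this
  exact this _

omit [IsCofiltered I] in
@[reassoc]
theorem bcE_fst {k k' : Over i₀} (m : k ⟶ k') : bcE DX DS φ cS i₀ m ≫ pullback.fst _ _ =
    pullback.fst _ _ ≫ DX.map m.left := pullback.lift_fst _ _ _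

omit [IsCofiltered I] in
@[reassoc]
theorem bcE_snd {k k' : Over i₀} (m : k ⟶ k') :
    bcE DX DS φ cS i₀ m ≫ pullback.snd _ _ = pullback.snd _ _ := by
  have := pullback.lift_snd (f := φ.app k'.left) (g := cS.π.app k'.left)
    (pullback.fst (φ.app k.left) (cS.π.app k.left) ≫ DX.map m.left)
    (pullback.snd (φ.app k.left) (cS.π.app k.left) ≫ 𝟙 _)
  rw [Category.comp_id] at this
  exact this _

omit [IsCofiltered I] in
@[reassoc]
theorem bcE_bcU {k k' : Over i₀} (m : k ⟶ k') :
    bcE DX DS φ cS i₀ m ≫ bcU DX DS φ cS i₀ k' = bcU DX DS φ cS i₀ k := by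
  apply pullback.hom_ext
  · rw [Category.assoc, bcU_fst, bcE_fst_assoc, bcU_fst, ← DX.map_comp, Over.w]
  · rw [Category.assoc, bcU_snd, bcE_snd, bcU_snd]

include hcl in
omit [IsCofiltered I] in
theorem isClosedImmersion_bcU (k : Over i₀) : IsClosedImmersion (bcU DX DS φ cS i₀ k) := by
  let T : Scheme.{u} := pullback (φ.app i₀) (DS.map k.hom)
  let w : bcP₀ DX DS φ cS i₀ ⟶ T := pullback.lift (pullback.fst _ _)
    (pullback.snd _ _ ≫ cS.π.app k.left) (by
      rw [Category.assoc, cS.w, pullback.condition])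
  let v : DX.obj k.left ⟶ T := pullback.lift (DX.map k.hom) (φ.app k.left) (φ.naturality k.hom)
  haveI hv : IsClosedImmersion v := hcl _ _ k.hom
  have hwf : w ≫ pullback.fst (φ.app i₀) (DS.map k.hom) = pullback.fst _ _ :=
    pullback.lift_fst _ _ _
  have hws : w ≫ pullback.snd (φ.app i₀) (DS.map k.hom) = pullback.snd _ _ ≫ cS.π.app k.left :=
    pullback.lift_snd _ _ _
  have hvf : v ≫ pullback.fst (φ.app i₀) (DS.map k.hom) = DX.map k.hom := pullback.lift_fst _ _ _
  have hvs : v ≫ pullback.snd (φ.app i₀) (DS.map k.hom) = φ.app k.left := pullback.lift_snd _ _ _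
  have BL : IsPullback w (pullback.snd (φ.app i₀) (cS.π.app i₀))
      (pullback.snd (φ.app i₀) (DS.map k.hom)) (cS.π.app k.left) := by
    refine IsPullback.of_right ?_ hws (IsPullback.of_hasPullback (φ.app i₀) (DS.map k.hom))
    rw [hwf, cS.w]
    exact IsPullback.of_hasPullback _ _
  have hcomm : pullback.fst (φ.app k.left) (cS.π.app k.left) ≫ v =
      bcU DX DS φ cS i₀ k ≫ w := by
    apply pullback.hom_ext
    · rw [Category.assoc, Category.assoc, hvf, hwf, bcU_fst]
    · rw [Category.assoc, Category.assoc, hvs, hws, bcU_snd_assoc, pullback.condition]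
  have TL : IsPullback (pullback.fst (φ.app k.left) (cS.π.app k.left)) (bcU DX DS φ cS i₀ k) v w := by
    refine IsPullback.of_bot ?_ hcomm BL
    rw [bcU_snd, hvs]
    exact IsPullback.of_hasPullback _ _
  exact MorphismProperty.of_isPullback (P := @IsClosedImmersion) TL hv

end Sys

end Groth.Agent.H5.NApprox
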