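import Mathlib
import Groth.Agent.Lib.Helper5.NApprox.FibE

/-!
# Fibre dimension of a limit of morphisms: descent to a stage (helper5)
-/

set_option autoImplicit false

namespace Groth.Agent.H5.NApprox

open AlgebraicGeometry CategoryTheory Opposite Limits Topology

universe u

section Main

variable {I : Type u} [SmallCategory I] [IsCofiltered I]
  (DX DS : I ⥤ Scheme.{u}) (φ : DX ⟶ DS) (cX : Limits.Cone DX) (cS : Limits.Cone DS)
  (hX : Limits.IsLimit cX) (hS : Limits.IsLimit cS)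
  [∀ (i j : I) (a : i ⟶ j), IsAffineHom (DS.map a)] [∀ i, CompactSpace (DS.obj i)]
  [∀ i, QuasiSeparatedSpace (DS.obj i)] [∀ i, LocallyOfFiniteType (φ.app i)]
  [∀ i, QuasiCompact (φ.app i)]
  (hcl : ∀ (i j : I) (a : i ⟶ j),
    IsClosedImmersion (pullback.lift (DX.map a) (φ.app i) (φ.naturality a)))
  (f : cX.pt ⟶ cS.pt) (hf : ∀ i, f ≫ cS.π.app i = cX.π.app i ≫ φ.app i) (d : ℕ)
  (hd : ∀ s : cS.pt, topologicalKrullDim ↥(f.fiber s) ≤ d)

include hX hS hcl hf hd in
theorem exists_fibre_dim_le_stage :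
    ∃ i : I, ∀ s : DS.obj i, topologicalKrullDim ↥((φ.app i).fiber s) ≤ d := by
  obtain ⟨i₀⟩ := IsCofiltered.nonempty (C := I)
  haveI hDSaff : ∀ {i j : I} (a : i ⟶ j), IsAffineHom (DS.map a) := fun a => inferInstance
  let P₀ : Scheme.{u} := bcP₀ DX DS φ cS i₀
  let π₀ : P₀ ⟶ cS.pt := pullback.snd (φ.app i₀) (cS.π.app i₀)
  haveI : LocallyOfFiniteType π₀ :=
    MorphismProperty.pullback_snd (P := @LocallyOfFiniteType) _ _ inferInstance
  haveI : QuasiCompact π₀ :=
    MorphismProperty.pullback_snd (P := @QuasiCompact) _ _ inferInstance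
  haveI : CompactSpace cS.pt := Scheme.compactSpace_of_isLimit DS cS hS
  haveI : CompactSpace P₀ := QuasiCompact.compactSpace_of_compactSpace π₀
  haveI hUcl : ∀ k, IsClosedImmersion (bcU DX DS φ cS i₀ k) :=
    fun k => isClosedImmersion_bcU DX DS φ cS hcl i₀ k
  let A : Over i₀ → P₀.IdealSheafData := fun k => (bcU DX DS φ cS i₀ k).ker
  have hA : ∀ {k k' : Over i₀} (_ : k' ⟶ k), A k ≤ A k' := by
    intro k k' m
    show (bcU DX DS φ cS i₀ k).ker ≤ (bcU DX DS φ cS i₀ k').ker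
    rw [← bcE_bcU DX DS φ cS i₀ m]
    exact Scheme.Hom.le_ker_comp _ _
  let K : P₀.IdealSheafData := ⨆ k, A k
  have hAK : ∀ k, A k ≤ K := fun k => le_iSup A k
  have hK : ∀ (U : P₀.affineOpens) (x : Γ(P₀, U.1)), x ∈ K.ideal U → ∃ k, x ∈ (A k).ideal U :=
    fun U x hx => exists_mem_of_mem_iSup A hA U x hx
  -- the maps `V(K) ⟶ P_k`
  have hρ : ∀ k : Over i₀, ∃ r : K.subscheme ⟶ bcP DX DS φ cS i₀ k,
      r ≫ bcU DX DS φ cS i₀ k = K.subschemeι := by
    intro k
    have h0 : (bcU DX DS φ cS i₀ k).toImage ≫ (A k).subschemeι = bcU DX DS φ cS i₀ k :=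
      (bcU DX DS φ cS i₀ k).toImage_imageι
    have h1 : inv (bcU DX DS φ cS i₀ k).toImage ≫ bcU DX DS φ cS i₀ k = (A k).subschemeι := by
      rw [IsIso.inv_comp_eq]
      exact h0.symm
    refine ⟨Scheme.IdealSheafData.inclusion (hAK k) ≫ inv (bcU DX DS φ cS i₀ k).toImage, ?_⟩
    rw [Category.assoc, h1, Scheme.IdealSheafData.inclusion_subschemeι]
  choose ρ hρU using hρ
  have hρE : ∀ {k k' : Over i₀} (m : k ⟶ k'), ρ k ≫ bcE DX DS φ cS i₀ m = ρ k' := by
    intro k k' m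
    rw [← cancel_mono (bcU DX DS φ cS i₀ k'), Category.assoc, bcE_bcU, hρU, hρU]
  -- the cone over `X_k`
  let sK : Cone (Over.forget i₀ ⋙ DX) :=
    { pt := K.subscheme
      π :=
        { app := fun k => ρ k ≫ pullback.fst (φ.app k.left) (cS.π.app k.left)
          naturality := by
            intro k k' m
            show 𝟙 _ ≫ ρ k' ≫ pullback.fst (φ.app k'.left) (cS.π.app k'.left) =
              (ρ k ≫ pullback.fst (φ.app k.left) (cS.π.app k.left)) ≫ DX.map m.left
            rw [Category.id_comp, Category.assoc, ← bcE_fst, ← Category.assoc, hρE m] } }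
  have hX' : IsLimit (cX.whisker (Over.forget i₀)) :=
    (Functor.Initial.isLimitWhiskerEquiv (Over.forget i₀) cX).symm hX
  have hS' : IsLimit (cS.whisker (Over.forget i₀)) :=
    (Functor.Initial.isLimitWhiskerEquiv (Over.forget i₀) cS).symm hS
  let t : K.subscheme ⟶ cX.pt := hX'.lift sK
  have htfac : ∀ k : Over i₀, t ≫ cX.π.app k.left =
      ρ k ≫ pullback.fst (φ.app k.left) (cS.π.app k.left) := fun k => hX'.fac sK k
  have htf : t ≫ f = K.subschemeι ≫ π₀ := by
    apply hS'.hom_ext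
    intro k
    show (t ≫ f) ≫ cS.π.app k.left = (K.subschemeι ≫ π₀) ≫ cS.π.app k.left
    rw [Category.assoc, hf, ← Category.assoc, htfac, Category.assoc, pullback.condition,
      ← hρU k, Category.assoc, Category.assoc]
    show _ = ρ k ≫ (bcU DX DS φ cS i₀ k ≫ pullback.snd (φ.app i₀) (cS.π.app i₀)) ≫ _
    rw [bcU_snd]
  -- `t` is an embedding
  let j : cX.pt ⟶ P₀ := pullback.lift (cX.π.app i₀) f (hf i₀).symm
  have htj : t ≫ j = K.subschemeι := by
    apply pullback.hom_ext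
    · rw [Category.assoc, pullback.lift_fst]
      have h1 := htfac (Over.mk (𝟙 i₀))
      have h2 : bcU DX DS φ cS i₀ (Over.mk (𝟙 i₀)) ≫ pullback.fst (φ.app i₀) (cS.π.app i₀) =
          pullback.fst (φ.app i₀) (cS.π.app i₀) := by
        have h := bcU_fst DX DS φ cS i₀ (Over.mk (𝟙 i₀))
        have h' : DX.map (Over.mk (𝟙 i₀)).hom = 𝟙 (DX.obj i₀) := DX.map_id i₀
        exact h.trans (by rw [h']; exact Category.comp_id _)
      have h3 := hρU (Over.mk (𝟙 i₀))
      rw [← h3, Category.assoc, h2]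
      exact h1
    · rw [Category.assoc, pullback.lift_snd]
      exact htf
  have htemb : IsEmbedding t := by
    have h1 : IsEmbedding (j ∘ t) := by
      have : (j ∘ t : K.subscheme → P₀) = K.subschemeι := by
        rw [← htj]
        rfl
      rw [this]
      exact K.subschemeι.isClosedEmbedding.isEmbedding
    exact IsEmbedding.of_comp t.continuous j.continuous h1
  have hd' : ∀ z : K.subscheme, FlatMor.fibreDimAt (K.subschemeι ≫ π₀) z ≤ d := by
    intro z
    rw [← htf]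
    exact (Groth.Agent.H1.QSec.fibreDimAt_comp_le t htemb f z).trans
      ((Groth.Agent.H1.FibComp.fibreDimAt_le_dim_fiber f (t z) _ rfl).trans (hd _))
  obtain ⟨k, hk⟩ := exists_fibreDimAt_le_of_iSup π₀ A hA K hAK hK d hd'
  -- transfer to `P_k`
  have hPk : ∀ y : bcP DX DS φ cS i₀ k,
      FlatMor.fibreDimAt (pullback.snd (φ.app k.left) (cS.π.app k.left)) y ≤ d := by
    intro y
    have h0 : (bcU DX DS φ cS i₀ k).toImage ≫ (A k).subschemeι = bcU DX DS φ cS i₀ k :=
      (bcU DX DS φ cS i₀ k).toImage_imageι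
    have h1 : pullback.snd (φ.app k.left) (cS.π.app k.left) =
        (bcU DX DS φ cS i₀ k).toImage ≫ ((A k).subschemeι ≫ π₀) := by
      rw [← Category.assoc, h0]
      exact (bcU_snd DX DS φ cS i₀ k).symm
    rw [h1]
    exact (Groth.Agent.H1.QSec.fibreDimAt_comp_le (bcU DX DS φ cS i₀ k).toImage
      (bcU DX DS φ cS i₀ k).toImage.isOpenEmbedding.isEmbedding _ y).trans (hk _)
  -- descend to a stage
  haveI : CompactSpace (DX.obj k.left) := QuasiCompact.compactSpace_of_compactSpace (φ.app k.left)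
  let U₀ : (DX.obj k.left).Opens := ⟨{x | FlatMor.fibreDimAt (φ.app k.left) x ≤ d},
    Groth.Agent.H1.Chev.isOpen_fibreDimAt_le (φ.app k.left) d⟩
  haveI : IsIso (𝟙 cS.pt) := IsIso.id _
  haveI : IsIso (𝟙 (DS.obj k.left)) := IsIso.id _
  have hY : IsPullback (cS.π.app k.left) (𝟙 cS.pt) (𝟙 (DS.obj k.left)) (cS.π.app k.left) :=
    IsPullback.of_vert_isIso ⟨by simp⟩
  have hXsq : IsPullback (pullback.fst (φ.app k.left) (cS.π.app k.left))
      (pullback.snd (φ.app k.left) (cS.π.app k.left)) (φ.app k.left) (cS.π.app k.left) :=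
    IsPullback.of_hasPullback _ _
  have hU₀ : pullback.fst (φ.app k.left) (cS.π.app k.left) ⁻¹ᵁ U₀ = ⊤ := by
    rw [eq_top_iff]
    intro y _
    show FlatMor.fibreDimAt (φ.app k.left) (pullback.fst (φ.app k.left) (cS.π.app k.left) y) ≤ d
    rw [← Groth.Agent.H1.FibDimBC.fibreDimAt_eq_of_isPullback (φ.app k.left) (cS.π.app k.left)
      (pullback.fst _ _) (pullback.snd _ _) hXsq y]
    exact hPk y
  obtain ⟨l, ψ, hl⟩ := exists_stage_preimage_eq_top DS cS hS k.left (φ.app k.left) (𝟙 _)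
    (pullback.snd (φ.app k.left) (cS.π.app k.left)) (𝟙 cS.pt) (cS.π.app k.left)
    (pullback.fst (φ.app k.left) (cS.π.app k.left)) hY hXsq U₀ hU₀
  refine ⟨l, fun s => Groth.Agent.H1.FibComp.dim_fiber_le_of_forall (φ.app l) s d
    (fun x _ => ?_)⟩
  refine (fibreDimAt_le_map DX DS φ hcl ψ x).trans ?_
  let w : DX.obj l ⟶ pullback (φ.app k.left ≫ 𝟙 _) (DS.map ψ) :=
    pullback.lift (DX.map ψ) (φ.app l) (by
      rw [Category.comp_id]
      exact φ.naturality ψ)
  have hw : w ≫ pullback.fst (φ.app k.left ≫ 𝟙 _) (DS.map ψ) = DX.map ψ := pullback.lift_fst _ _ _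
  have hmem : w x ∈ pullback.fst (φ.app k.left ≫ 𝟙 _) (DS.map ψ) ⁻¹ᵁ U₀ := by
    rw [hl]
    trivial
  have hmem' : FlatMor.fibreDimAt (φ.app k.left)
      (pullback.fst (φ.app k.left ≫ 𝟙 _) (DS.map ψ) (w x)) ≤ d := hmem
  have hx : pullback.fst (φ.app k.left ≫ 𝟙 _) (DS.map ψ) (w x) = DX.map ψ x := by
    rw [← hw]
    rfl
  rw [hx] at hmem'
  exact hmem'

end Main

end Groth.Agent.H5.NApprox
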