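import Mathlib
import Groth.Agent.Lib.Helper5.NApprox.IdlB
import Groth.Agent.Lib.Helper5.NApprox.FieldA
import Groth.Agent.Lib.Helper8.RedImm

/-!
# A property of schemes over a quasi-compact quasi-separated base that is insensitive to
thickenings, passes to cofiltered limits and to "open or closed complement" holds for the
spectrum of some field (helper5)
-/

set_option autoImplicit false

namespace Groth.Agent.H5.NApprox

open AlgebraicGeometry CategoryTheory Opposite Limits

universe u

section Main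

variable {T : Scheme.{u}} [CompactSpace T] [QuasiSeparatedSpace T]
  (P : ∀ ⦃T' : Scheme.{u}⦄, (T' ⟶ T) → Prop)

/-- hypothesis (1) -/
def Hyp1 : Prop :=
  ∀ ⦃T' T'' : Scheme.{u}⦄ (a : T' ⟶ T) (t : T'' ⟶ T') [IsClosedImmersion t] [Surjective t]
    [CompactSpace T'] [QuasiSeparatedSpace T'] [CompactSpace T''] [QuasiSeparatedSpace T''],
    P (t ≫ a) ↔ P a

/-- hypothesis (2) -/
def Hyp2 : Prop :=
  ∀ ⦃I : Type u⦄ [SmallCategory I] [IsCofiltered I] (D : I ⥤ Over T) (c : Limits.Cone D)
    (_ : Limits.IsLimit c),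
    (∀ (i j : I) (m : i ⟶ j), IsAffineHom (D.map m).left) →
    (∀ i, CompactSpace (D.obj i).left ∧ QuasiSeparatedSpace (D.obj i).left) →
    (∀ i, P (D.obj i).hom) → P c.pt.hom

/-- hypothesis (3) -/
def Hyp3 : Prop :=
  ∀ ⦃T' Z V : Scheme.{u}⦄ (a : T' ⟶ T) [CompactSpace T'] [QuasiSeparatedSpace T'] (i : Z ⟶ T')
    [IsClosedImmersion i] (j : V ⟶ T') [IsOpenImmersion j] [CompactSpace V],
    Set.range j = (Set.range i)ᶜ → P a → P (j ≫ a) ∨ P (i ≫ a)

variable {P}

/-- invariance under isomorphisms -/
theorem Hyp1.iso (h1 : Hyp1 P) {T' T'' : Scheme.{u}} (a : T' ⟶ T) (t : T'' ⟶ T') [IsIso t]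
    [CompactSpace T'] [QuasiSeparatedSpace T'] : P (t ≫ a) ↔ P a := by
  haveI : CompactSpace T'' := QuasiCompact.compactSpace_of_compactSpace t
  haveI : QuasiSeparatedSpace T'' := quasiSeparatedSpace_of_quasiSeparated t
  exact h1 a t

instance subscheme_compact (K : T.IdealSheafData) : CompactSpace K.subscheme :=
  QuasiCompact.compactSpace_of_compactSpace K.subschemeι

instance subscheme_qs (K : T.IdealSheafData) : QuasiSeparatedSpace K.subscheme :=
  quasiSeparatedSpace_of_quasiSeparated K.subschemeι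

/-- the Zorn set: ideal sheaves with nonempty support whose closed subscheme has `P` -/
def ZS (P : ∀ ⦃T' : Scheme.{u}⦄, (T' ⟶ T) → Prop) : Set T.IdealSheafData :=
  {K | Nonempty K.subscheme ∧ P K.subschemeι}

theorem nonempty_subscheme_iff (K : T.IdealSheafData) :
    Nonempty K.subscheme ↔ (K.support : Set T).Nonempty := by
  rw [← K.range_subschemeι, Set.range_nonempty_iff_nonempty]

theorem bot_mem_ZS [Nonempty T] (h1 : Hyp1 P) (hT : P (𝟙 T)) : (⊥ : T.IdealSheafData) ∈ ZS P := by
  refine ⟨?_, ?_⟩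
  · rw [nonempty_subscheme_iff, Scheme.IdealSheafData.support_bot]
    exact Set.univ_nonempty
  · have := (h1.iso (𝟙 T) (⊥ : T.IdealSheafData).subschemeι).mpr hT
    rwa [Category.comp_id] at this

section Directed

variable {ι : Type u} [Preorder ι] [IsDirected ι (· ≤ ·)] [Nonempty ι]
  (A : ι → T.IdealSheafData) (hA : Monotone A)

include hA in
theorem nonempty_iSup (hne : ∀ i, Nonempty (A i).subscheme) : Nonempty (⨆ i, A i).subscheme := by
  rw [nonempty_subscheme_iff, Scheme.IdealSheafData.support_iSup]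
  have : (((⨅ i, (A i).support : TopologicalSpace.Closeds T)) : Set T) =
      ⋂ i, ((A i).support : Set T) := by
    simp
  rw [this]
  apply IsCompact.nonempty_iInter_of_directed_nonempty_isCompact_isClosed
  · intro i j
    obtain ⟨k, hik, hjk⟩ := exists_ge_ge i j
    exact ⟨k, Scheme.IdealSheafData.support_antitone (hA hik),
      Scheme.IdealSheafData.support_antitone (hA hjk)⟩
  · intro i
    exact (nonempty_subscheme_iff _).mp (hne i)
  · intro i
    exact (A i).support.isClosed.isCompact
  · intro i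
    exact (A i).support.isClosed

include hA in
theorem P_iSup (h2 : Hyp2 P) (hP : ∀ i, P (A i).subschemeι) : P (⨆ i, A i).subschemeι := by
  let A' : ιᵒᵈ → T.IdealSheafData := fun μ => A (OrderDual.ofDual μ)
  have hA' : ∀ {μ μ' : ιᵒᵈ} (_ : μ' ⟶ μ), A' μ ≤ A' μ' := fun a => hA (leOfHom a)
  have hle : ∀ μ, A' μ ≤ ⨆ i, A i := fun μ => le_iSup A (OrderDual.ofDual μ)
  have hK : ∀ (U : T.affineOpens) (x : Γ(T, U.1)), x ∈ (⨆ i, A i).ideal U → ∃ μ, x ∈ (A' μ).ideal U := by
    intro U x hx
    rw [Scheme.IdealSheafData.ideal_iSup, iSup_apply] at hx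
    obtain ⟨i, hi⟩ := (Submodule.mem_iSup_of_directed _ (by
      intro i j
      obtain ⟨k, hik, hjk⟩ := exists_ge_ge i j
      exact ⟨k, hA hik U, hA hjk U⟩)).mp hx
    exact ⟨OrderDual.toDual i, hi⟩
  have := h2 (clD (𝟙 T) A' hA') (clCone (𝟙 T) A' hA' (⨆ i, A i) hle)
    (clIsLimit (𝟙 T) A' hA' (⨆ i, A i) hle hK) ?_ ?_ ?_
  · have h' : P ((⨆ i, A i).subschemeι ≫ 𝟙 T) := this
    rwa [Category.comp_id] at h'
  · intro μ μ' m
    show IsAffineHom (Scheme.IdealSheafData.inclusion _)
    infer_instance
  · intro μ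
    exact ⟨subscheme_compact (A' μ), subscheme_qs (A' μ)⟩
  · intro μ
    show P ((A' μ).subschemeι ≫ 𝟙 T)
    rw [Category.comp_id]
    exact hP _

end Directed

/-- Zorn: there is a maximal ideal sheaf in the Zorn set. -/
theorem exists_maximal [Nonempty T] (h1 : Hyp1 P) (h2 : Hyp2 P) (hT : P (𝟙 T)) :
    ∃ K, Maximal (· ∈ ZS P) K := by
  obtain ⟨K, -, hK⟩ := zorn_le_nonempty₀ (ZS P) (by
    intro c hc hch y hy
    haveI : Nonempty ↥c := ⟨⟨y, hy⟩⟩
    haveI : IsDirected ↥c (· ≤ ·) :=
      ⟨fun a b => (hch.total a.2 b.2).elim (fun h => ⟨b, h, le_rfl⟩) (fun h => ⟨a, le_rfl, h⟩)⟩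
    let A : ↥c → T.IdealSheafData := fun k => k.1
    have hA : Monotone A := fun a b h => h
    refine ⟨⨆ i, A i, ⟨nonempty_iSup A hA (fun i => (hc i.2).1),
      P_iSup A hA h2 (fun i => (hc i.2).2)⟩, ?_⟩
    intro z hz
    exact le_iSup A ⟨z, hz⟩) ⊥ (bot_mem_ZS h1 hT)
  exact ⟨K, hK⟩

section Maximal

variable {K : T.IdealSheafData} (hK : Maximal (· ∈ ZS P) K)

include hK in
theorem radical_eq (h1 : Hyp1 P) : K.radical = K := by
  refine le_antisymm (hK.2 (y := K.radical) ⟨?_, ?_⟩ K.le_radical) K.le_radical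
  · rw [nonempty_subscheme_iff, Scheme.IdealSheafData.support_radical,
      ← nonempty_subscheme_iff]
    exact hK.1.1
  · haveI : Surjective (Scheme.IdealSheafData.inclusion K.le_radical) := by
      constructor
      intro y
      have hy : K.subschemeι y ∈ Set.range K.radical.subschemeι := by
        rw [Scheme.IdealSheafData.range_subschemeι, Scheme.IdealSheafData.support_radical,
          ← Scheme.IdealSheafData.range_subschemeι]
        exact ⟨y, rfl⟩
      obtain ⟨z, hz⟩ := hy
      refine ⟨z, K.subschemeι.isEmbedding.injective ?_⟩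
      rw [← Scheme.Hom.comp_apply, Scheme.IdealSheafData.inclusion_subschemeι, hz]
    have := (h1 K.subschemeι (Scheme.IdealSheafData.inclusion K.le_radical)).mpr hK.1.2
    rwa [Scheme.IdealSheafData.inclusion_subschemeι] at this

include hK in
theorem isReduced_of_maximal (h1 : Hyp1 P) : IsReduced K.subscheme := by
  have h : Scheme.IdealSheafData.vanishingIdeal K.support = K := by
    rw [Scheme.IdealSheafData.vanishingIdeal_support, radical_eq hK h1]
  rw [← h]
  exact Groth.Agent.H8.RedImm.isReduced_subscheme_vanishingIdeal _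

include hK in
theorem P_open (h1 : Hyp1 P) (h3 : Hyp3 P) {V : Scheme.{u}} (j : V ⟶ K.subscheme)
    [IsOpenImmersion j] [CompactSpace V] [Nonempty V] : P (j ≫ K.subschemeι) := by
  let Zc : TopologicalSpace.Closeds K.subscheme :=
    ⟨(Set.range j)ᶜ, j.isOpenEmbedding.isOpen_range.isClosed_compl⟩
  let i := (Scheme.IdealSheafData.vanishingIdeal Zc).subschemeι
  have hi : Set.range i = (Set.range j)ᶜ := by
    rw [Scheme.IdealSheafData.range_subschemeι, Scheme.IdealSheafData.coe_support_vanishingIdeal]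
    rfl
  rcases h3 K.subschemeι i j (by rw [hi, compl_compl]) hK.1.2 with h | h
  · exact h
  · by_cases hZ : Nonempty (Scheme.IdealSheafData.vanishingIdeal Zc).subscheme
    · exfalso
      let g := i ≫ K.subschemeι
      have hKg : K ≤ g.ker := by
        have := Scheme.Hom.le_ker_comp i K.subschemeι
        rwa [Scheme.IdealSheafData.ker_subschemeι] at this
      have hmem : g.ker ∈ ZS P := by
        refine ⟨⟨g.toImage hZ.some⟩, ?_⟩
        refine (h1.iso g.ker.subschemeι g.toImage).mp ?_
        rw [g.toImage_imageι]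
        exact h
      have heq : g.ker = K := le_antisymm (hK.2 hmem hKg) hKg
      have hr : Set.range g = Set.range K.subschemeι := by
        have h' : (K.support : Set T) = (g.ker.support : Set T) :=
          congrArg (fun L : T.IdealSheafData => (L.support : Set T)) heq.symm
        rw [K.range_subschemeι, h', Scheme.Hom.support_ker,
          g.isClosedEmbedding.isClosed_range.closure_eq]
      have hi' : Set.range i = Set.univ := by
        rw [Set.eq_univ_iff_forall]
        intro y
        have hy : K.subschemeι y ∈ Set.range g := by rw [hr]; exact ⟨y, rfl⟩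
        obtain ⟨z, hz⟩ := hy
        refine ⟨z, K.subschemeι.isEmbedding.injective ?_⟩
        rw [← Scheme.Hom.comp_apply]
        exact hz
      rw [hi'] at hi
      obtain ⟨v⟩ := ‹Nonempty V›
      have : j v ∈ (Set.range j)ᶜ := by rw [← hi]; trivial
      exact this ⟨v, rfl⟩
    · have hj : Set.range j = Set.univ := by
        have hi0 : Set.range i = ∅ := by
          rw [Set.range_eq_empty_iff]
          exact not_nonempty_iff.mp hZ
        rw [hi0] at hi
        exact Set.compl_empty_iff.mp hi.symm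
      haveI : Surjective j := ⟨Set.range_eq_univ.mp hj⟩
      haveI : IsIso j :=
        (isIso_iff_isOpenImmersion_and_surjective j).mpr ⟨inferInstance, inferInstance⟩
      exact (h1.iso K.subschemeι j).mpr hK.1.2

end Maximal

/-- the main theorem -/
theorem exists_field [Nonempty T] (h1 : Hyp1 P) (h2 : Hyp2 P) (h3 : Hyp3 P) (hT : P (𝟙 T)) :
    ∃ (k : Type u) (_ : Field k) (t : Spec (CommRingCat.of k) ⟶ T), P t := by
  obtain ⟨K, hK⟩ := exists_maximal h1 h2 hT
  haveI : Nonempty K.subscheme := hK.1.1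
  haveI : IsReduced K.subscheme := isReduced_of_maximal hK h1
  have t₀ : K.subscheme := hK.1.1.some
  obtain ⟨U, hU, ht₀U, -⟩ := exists_isAffineOpen_mem_and_subset (x := t₀) (U := ⊤) trivial
  let X : Scheme.{u} := U.toScheme
  haveI : IsAffine X := hU
  haveI : IsReduced X := isReduced_of_isOpenImmersion U.ι
  let x₀ : X := ⟨t₀, ht₀U⟩
  obtain ⟨x, hx⟩ := QuasiSober.sober (isIrreducible_irreducibleComponent (x := x₀))
    isClosed_irreducibleComponent
  have hx' : closure {x} ∈ irreducibleComponents X := by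
    rw [hx.def]
    exact irreducibleComponent_mem_irreducibleComponents x₀
  have hk : IsField (X.presheaf.stalk x) :=
    isField_stalk_of_closure_mem_irreducibleComponents X x hx'
  let b : X ⟶ T := U.ι ≫ K.subschemeι
  have hP : P (X.fromSpecStalk x ≫ b) := by
    have := h2 (stD x b) (stCone x b) (stIsLimit x b) ?_ ?_ ?_
    · exact this
    · intro a a' m
      exact stD_isAffineHom x b m
    · intro a
      haveI := stD_isAffine x b a
      exact ⟨inferInstance, inferInstance⟩
    · intro a
      show P ((X.basicOpen a.f).ι ≫ U.ι ≫ K.subschemeι)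
      haveI : IsAffine (X.basicOpen a.f).toScheme := stD_isAffine x b a
      haveI : Nonempty (X.basicOpen a.f).toScheme := ⟨⟨x, a.mem⟩⟩
      rw [← Category.assoc]
      exact P_open hK h1 h3 ((X.basicOpen a.f).ι ≫ U.ι)
  letI := hk.toField
  exact ⟨X.presheaf.stalk x, inferInstance, X.fromSpecStalk x ≫ b, hP⟩

end Main

end Groth.Agent.H5.NApprox
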