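import Mathlib
import Groth.Agent.Lib.Helper5.NApprox.ImmC
import Groth.Agent.S0591

/-!
# A finite type quasi-separated scheme over a limit of Noetherian schemes is a closed subscheme of
the base change of a finite type scheme over a stage (helper5)
-/

set_option autoImplicit false

namespace Groth.Agent.H5.NApprox

open AlgebraicGeometry CategoryTheory Opposite Limits

universe u

theorem exists_finiteType_stage_closedImmersion {I : Type u} [SmallCategory I] [IsCofiltered I]
    (D : I ⥤ Scheme.{u}) (c : Limits.Cone D) (hc : Limits.IsLimit c)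
    [∀ (i j : I) (f : i ⟶ j), IsAffineHom (D.map f)] [∀ i, IsNoetherian (D.obj i)]
    {X : Scheme.{u}} (a : X ⟶ c.pt) [QuasiSeparated a] [QuasiCompact a] [LocallyOfFiniteType a] :
    ∃ (i : I) (W : Scheme.{u}) (w : W ⟶ D.obj i) (b : X ⟶ W) (hb : a ≫ c.π.app i = b ≫ w),
      LocallyOfFiniteType w ∧ QuasiCompact w ∧ IsClosedImmersion (pullback.lift a b hb) := by
  haveI : ∀ i, CompactSpace (D.obj i) := fun i => inferInstance
  haveI : ∀ i, QuasiSeparatedSpace (D.obj i) := fun i => inferInstance
  obtain ⟨i₀⟩ := IsCofiltered.nonempty (C := I)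
  haveI : CompactSpace c.pt := Scheme.compactSpace_of_isLimit D c hc
  haveI : IsAffineHom (c.π.app i₀) := isAffineHom_π_app D c hc i₀
  haveI : QuasiSeparatedSpace c.pt := quasiSeparatedSpace_of_quasiSeparated (c.π.app i₀)
  haveI : CompactSpace X := QuasiCompact.compactSpace_of_compactSpace a
  haveI : QuasiSeparatedSpace X := quasiSeparatedSpace_of_quasiSeparated a
  obtain ⟨X', a', j, h1, h2, h3, h4, hja⟩ := exists_closedImmersion_fp a
  obtain ⟨i, W, w, g, hw1, hw2, hw3, hpb⟩ := Groth.Agent.S0591.result D c hc X' a'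
  have hb : a ≫ c.π.app i = (j ≫ g) ≫ w := by
    rw [← hja, Category.assoc, Category.assoc, hpb.w]
  refine ⟨i, W, w, j ≫ g, hb, inferInstance, hw2, ?_⟩
  have hfl : IsPullback a' g (c.π.app i) w := hpb.flip
  have heq : pullback.lift a (j ≫ g) hb = j ≫ hfl.isoPullback.hom := by
    apply pullback.hom_ext
    · rw [pullback.lift_fst, Category.assoc, hfl.isoPullback_hom_fst, hja]
    · rw [pullback.lift_snd, Category.assoc, hfl.isoPullback_hom_snd]
  rw [heq]
  infer_instance

end Groth.Agent.H5.NApprox
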