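import Mathlib
import Groth.Agent.Lib.Helper5.NApprox.IdlA

/-!
# A closed subscheme of a limit is the limit of its scheme-theoretic images in the stages (helper5)
-/

set_option autoImplicit false

namespace Groth.Agent.H5.NApprox

open AlgebraicGeometry CategoryTheory Opposite Limits

universe u

section Img

variable {J : Type u} [Category.{u} J] [IsCofiltered J] (E : J ⥤ Scheme.{u})
  [∀ {i j : J} (f : i ⟶ j), IsAffineHom (E.map f)]
  (cE : Cone E) (hcE : IsLimit cE) {X : Scheme.{u}} (γ : X ⟶ cE.pt)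

/-- the ideal sheaf of the scheme-theoretic image of `X` in the stage `k` -/
noncomputable def imgIdeal (k : J) : (E.obj k).IdealSheafData := (γ ≫ cE.π.app k).ker

omit [IsCofiltered J] [∀ {i j : J} (f : i ⟶ j), IsAffineHom (E.map f)] in
theorem imgIdeal_map {k' k : J} (a : k' ⟶ k) :
    (imgIdeal E cE γ k').map (E.map a) = imgIdeal E cE γ k := by
  unfold imgIdeal
  rw [Scheme.IdealSheafData.map_ker, Category.assoc, cE.w]

/-- transition maps between the images -/
noncomputable def imgMap {k' k : J} (a : k' ⟶ k) :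
    (imgIdeal E cE γ k').subscheme ⟶ (imgIdeal E cE γ k).subscheme :=
  Scheme.IdealSheafData.subschemeMap _ _ (E.map a) (imgIdeal_map E cE γ a).ge

omit [IsCofiltered J] [∀ {i j : J} (f : i ⟶ j), IsAffineHom (E.map f)] in
@[reassoc]
theorem imgMap_ι {k' k : J} (a : k' ⟶ k) :
    imgMap E cE γ a ≫ (imgIdeal E cE γ k).subschemeι =
      (imgIdeal E cE γ k').subschemeι ≫ E.map a :=
  Scheme.IdealSheafData.subschemeMap_subschemeι _ _ _ _

/-- the system of scheme-theoretic images -/
noncomputable def imgD : J ⥤ Scheme.{u} where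
  obj k := (imgIdeal E cE γ k).subscheme
  map a := imgMap E cE γ a
  map_id k := by
    rw [← cancel_mono (imgIdeal E cE γ k).subschemeι, imgMap_ι, E.map_id, Category.comp_id,
      Category.id_comp]
  map_comp {k₁ k₂ k₃} a b := by
    rw [← cancel_mono (imgIdeal E cE γ k₃).subschemeι, Category.assoc, imgMap_ι, imgMap_ι,
      imgMap_ι_assoc, E.map_comp]

/-- the inclusions of the images -/
noncomputable def imgι : imgD E cE γ ⟶ E where
  app k := (imgIdeal E cE γ k).subschemeι
  naturality _ _ a := imgMap_ι E cE γ a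

/-- the projections to the images -/
noncomputable def imgProj (k : J) : X ⟶ (imgIdeal E cE γ k).subscheme :=
  (γ ≫ cE.π.app k).toImage

omit [IsCofiltered J] [∀ {i j : J} (f : i ⟶ j), IsAffineHom (E.map f)] in
@[reassoc]
theorem imgProj_ι (k : J) :
    imgProj E cE γ k ≫ (imgIdeal E cE γ k).subschemeι = γ ≫ cE.π.app k :=
  Scheme.Hom.toImage_imageι _

/-- the cone with vertex `X` -/
noncomputable def imgCone : Cone (imgD E cE γ) where
  pt := X
  π :=
    { app := fun k => imgProj E cE γ k
      naturality := by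
        intro k' k a
        change 𝟙 X ≫ imgProj E cE γ k = imgProj E cE γ k' ≫ imgMap E cE γ a
        rw [← cancel_mono (imgIdeal E cE γ k).subschemeι, Category.id_comp, Category.assoc,
          imgMap_ι, imgProj_ι_assoc, imgProj_ι, cE.w] }

omit [IsCofiltered J] in
theorem isAffineHom_imgMap {k' k : J} (a : k' ⟶ k) : IsAffineHom (imgMap E cE γ a) := by
  haveI : IsAffineHom (imgMap E cE γ a ≫ (imgIdeal E cE γ k).subschemeι) := by
    rw [imgMap_ι]
    infer_instance
  exact IsAffineHom.of_comp (imgMap E cE γ a) (imgIdeal E cE γ k).subschemeι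

/-- typed components of a cone over the images -/
noncomputable def imgσ (s : Cone (imgD E cE γ)) (k : J) :
    s.pt ⟶ (imgIdeal E cE γ k).subscheme := s.π.app k

omit [IsCofiltered J] [∀ {i j : J} (f : i ⟶ j), IsAffineHom (E.map f)] in
@[reassoc]
theorem imgσ_w (s : Cone (imgD E cE γ)) {k' k : J} (a : k' ⟶ k) :
    imgσ E cE γ s k' ≫ imgMap E cE γ a = imgσ E cE γ s k := s.w a

/-- the cone over the ambient system induced by a cone over the images -/
noncomputable def imgAmb (s : Cone (imgD E cE γ)) : Cone E where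
  pt := s.pt
  π :=
    { app := fun k => imgσ E cE γ s k ≫ (imgIdeal E cE γ k).subschemeι
      naturality := by
        intro k' k a
        change 𝟙 s.pt ≫ imgσ E cE γ s k ≫ (imgIdeal E cE γ k).subschemeι =
          (imgσ E cE γ s k' ≫ (imgIdeal E cE γ k').subschemeι) ≫ E.map a
        rw [Category.id_comp, Category.assoc, ← imgMap_ι, imgσ_w_assoc] }

/-- the lift to the ambient limit -/
noncomputable def imgAmbLift (s : Cone (imgD E cE γ)) : s.pt ⟶ cE.pt :=
  hcE.lift (imgAmb E cE γ s)

omit [IsCofiltered J] [∀ {i j : J} (f : i ⟶ j), IsAffineHom (E.map f)] in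
@[reassoc]
theorem imgAmbLift_fac (s : Cone (imgD E cE γ)) (k : J) :
    imgAmbLift E cE hcE γ s ≫ cE.π.app k =
      imgσ E cE γ s k ≫ (imgIdeal E cE γ k).subschemeι :=
  hcE.fac (imgAmb E cE γ s) k

theorem img_le_ker [IsClosedImmersion γ] [∀ i, QuasiSeparatedSpace (E.obj i)]
    (s : Cone (imgD E cE γ)) : γ.ker ≤ (imgAmbLift E cE hcE γ s).ker := by
  intro U x hx
  obtain ⟨μ, hμ⟩ := exists_mem_apxIdeal E cE hcE γ.ker U x hx
  have hle : apxIdeal E cE γ.ker μ ≤ (imgAmbLift E cE hcE γ s).ker := by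
    unfold apxIdeal
    rw [← Scheme.IdealSheafData.le_map_iff_comap_le, Scheme.IdealSheafData.map_ker,
      Scheme.IdealSheafData.map_ker, imgAmbLift_fac]
    have h1 : (imgIdeal E cE γ μ).subschemeι.ker ≤
        (imgσ E cE γ s μ ≫ (imgIdeal E cE γ μ).subschemeι).ker := Scheme.Hom.le_ker_comp _ _
    rw [Scheme.IdealSheafData.ker_subschemeι] at h1
    exact h1
  exact hle U hμ

/-- the lift -/
noncomputable def imgLift [IsClosedImmersion γ] [∀ i, QuasiSeparatedSpace (E.obj i)]
    (s : Cone (imgD E cE γ)) : s.pt ⟶ X :=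
  IsClosedImmersion.lift γ (imgAmbLift E cE hcE γ s) (img_le_ker E cE hcE γ s)

@[reassoc]
theorem imgLift_γ [IsClosedImmersion γ] [∀ i, QuasiSeparatedSpace (E.obj i)]
    (s : Cone (imgD E cE γ)) :
    imgLift E cE hcE γ s ≫ γ = imgAmbLift E cE hcE γ s :=
  IsClosedImmersion.lift_fac _ _ _

theorem imgLift_fac [IsClosedImmersion γ] [∀ i, QuasiSeparatedSpace (E.obj i)]
    (s : Cone (imgD E cE γ)) (k : J) :
    imgLift E cE hcE γ s ≫ imgProj E cE γ k = imgσ E cE γ s k := by
  rw [← cancel_mono (imgIdeal E cE γ k).subschemeι, Category.assoc, imgProj_ι,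
    imgLift_γ_assoc, imgAmbLift_fac]

theorem imgLift_uniq [IsClosedImmersion γ] [∀ i, QuasiSeparatedSpace (E.obj i)]
    (s : Cone (imgD E cE γ)) (m : s.pt ⟶ X)
    (hm : ∀ k, m ≫ imgProj E cE γ k = imgσ E cE γ s k) : m = imgLift E cE hcE γ s := by
  rw [← cancel_mono γ, imgLift_γ]
  apply hcE.hom_ext
  intro k
  rw [imgAmbLift_fac, Category.assoc, ← imgProj_ι, ← Category.assoc, hm k]

/-- `X` is the limit of its scheme-theoretic images in the stages. -/
noncomputable def imgIsLimit [IsClosedImmersion γ] [∀ i, QuasiSeparatedSpace (E.obj i)] :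
    IsLimit (imgCone E cE γ) where
  lift s := imgLift E cE hcE γ s
  fac s k := imgLift_fac E cE hcE γ s k
  uniq s m hm := imgLift_uniq E cE hcE γ s m hm

end Img

end Groth.Agent.H5.NApprox
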