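import Mathlib
import Groth.Agent.Lib.Helper5.NApprox.PropB
import Groth.Agent.Lib.Helper5.Lim.ClosedImmIntoLimit

/-!
# Proper morphisms to a limit are eventually proper over the stages (helper5)
-/

set_option autoImplicit false

namespace Groth.Agent.H5.NApprox

open AlgebraicGeometry CategoryTheory Opposite Limits Groth.Agent.H5.Lim

universe u

/-- a proper scheme over a qcqs base is a closed subscheme of a proper finitely presented one -/
theorem exists_closedImmersion_proper_fp {X S : Scheme.{u}} (f : X ⟶ S) [IsProper f]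
    [CompactSpace S] [QuasiSeparatedSpace S] :
    ∃ (X' : Scheme.{u}) (f' : X' ⟶ S) (j : X ⟶ X'), IsProper f' ∧
      LocallyOfFinitePresentation f' ∧ IsClosedImmersion j ∧ j ≫ f' = f := by
  obtain ⟨I, cI, fI, D, c, hc, e, htr, hprops⟩ := exists_limit_proper_fp f
  obtain ⟨i⟩ := IsCofiltered.nonempty (C := I)
  obtain ⟨h1, h2, h3⟩ := hprops i
  haveI := h1
  refine ⟨(D.obj i).left, (D.obj i).hom, e.inv.left ≫ (c.π.app i).left, h2, h3, inferInstance, ?_⟩
  rw [Category.assoc, Over.w (c.π.app i)]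
  exact Over.w e.inv

section Stage

variable {I : Type u} [SmallCategory I] [IsCofiltered I]
  (D : I ⥤ Scheme.{u}) (c : Limits.Cone D) (hc : Limits.IsLimit c)

include hc in
/-- properness descends to a stage, in base change form -/
theorem exists_isProper_stage [∀ (i j : I) (f : i ⟶ j), IsAffineHom (D.map f)] (i : I)
    [CompactSpace (D.obj i)] [QuasiSeparatedSpace (D.obj i)] {X₀ : Scheme.{u}}
    (f₀ : X₀ ⟶ D.obj i) [LocallyOfFiniteType f₀] [QuasiCompact f₀] [QuasiSeparated f₀]
    (hprop : IsProper (pullback.snd f₀ (c.π.app i))) :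
    ∃ (j : I) (φ : j ⟶ i), IsProper (pullback.snd f₀ (D.map φ)) := by
  haveI : CompactSpace X₀ := QuasiCompact.compactSpace_of_compactSpace f₀
  haveI : QuasiSeparatedSpace X₀ := quasiSeparatedSpace_of_quasiSeparated f₀
  let π₀ : c.pt ⟶ D.obj i := c.π.app i
  have hY : IsPullback π₀ (𝟙 c.pt) (𝟙 (D.obj i)) π₀ := IsPullback.of_vert_isIso ⟨by simp⟩
  haveI : IsProper (pullback.snd f₀ π₀) := hprop
  obtain ⟨j, φ, Xj, Yj, fj, gj, pY, pX, hpY, hpX, hfj⟩ :=
    exists_isProper_descend D c hc i f₀ (𝟙 (D.obj i)) (pullback.snd f₀ π₀) (𝟙 c.pt)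
      π₀ (pullback.fst f₀ π₀) hY (IsPullback.of_hasPullback f₀ π₀)
  haveI : IsIso gj := hpY.isIso_snd_of_isIso
  have hpj : IsPullback pX (fj ≫ gj) f₀ (D.map φ) := by
    have := hpX.paste_vert hpY
    rwa [Category.comp_id] at this
  refine ⟨j, φ, ?_⟩
  have h : pullback.snd f₀ (D.map φ) = hpj.isoPullback.inv ≫ fj ≫ gj := by
    rw [Iso.eq_inv_comp]
    exact hpj.isoPullback_hom_snd
  rw [h]
  infer_instance

include hc in
/-- Stacks 0A0P-type: a proper morphism to the limit, of finite type over the base, is proper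
over all late stages. -/
theorem eventually_isProper_to_stage (S : Scheme.{u}) (t : D ⟶ (Functor.const I).obj S)
    [∀ (i j : I) (a : i ⟶ j), IsAffineHom (D.map a)]
    [∀ i, CompactSpace (D.obj i)] [∀ i, QuasiSeparatedSpace (D.obj i)] (i₀ : I)
    {Y : Scheme.{u}} (h : Y ⟶ c.pt) [IsProper h]
    [LocallyOfFiniteType (h ≫ c.π.app i₀ ≫ t.app i₀)] :
    ∃ i₁ : I, ∀ (i : I) (_ : i ⟶ i₁), IsProper (h ≫ c.π.app i) := by
  haveI hDaff : ∀ {i j : I} (a : i ⟶ j), IsAffineHom (D.map a) := fun a => inferInstance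
  haveI : CompactSpace c.pt := Scheme.compactSpace_of_isLimit D c hc
  haveI : IsAffineHom (c.π.app i₀) := isAffineHom_π_app D c hc i₀
  haveI : QuasiSeparatedSpace c.pt := quasiSeparatedSpace_of_quasiSeparated (c.π.app i₀)
  have hnat : ∀ {a b : I} (m : a ⟶ b), D.map m ≫ t.app b = t.app a := by
    intro a b m
    have := t.naturality m
    simpa using this
  have hind : ∀ a b : I, c.π.app a ≫ t.app a = c.π.app b ≫ t.app b := by
    intro a b
    have h1 : c.π.app a ≫ t.app a = c.π.app (IsCofiltered.min a b) ≫ t.app _ := by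
      rw [← c.w (IsCofiltered.minToLeft a b), Category.assoc, hnat]
    have h2 : c.π.app b ≫ t.app b = c.π.app (IsCofiltered.min a b) ≫ t.app _ := by
      rw [← c.w (IsCofiltered.minToRight a b), Category.assoc, hnat]
    rw [h1, h2]
  obtain ⟨Y', q, k, hq, hqfp, hk, hkq⟩ := exists_closedImmersion_proper_fp h
  haveI : QuasiCompact q := inferInstance
  haveI : QuasiSeparated q := inferInstance
  obtain ⟨i, Y'i, qi, g, hqi1, hqi2, hqi3, hpb⟩ := Groth.Agent.S0591.result D c hc Y' q
  haveI : LocallyOfFiniteType qi := inferInstance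
  have hprop : IsProper (pullback.snd qi (c.π.app i)) := by
    have : pullback.snd qi (c.π.app i) = hpb.isoPullback.inv ≫ q := by
      rw [Iso.eq_inv_comp]
      exact hpb.isoPullback_hom_snd
    rw [this]
    infer_instance
  obtain ⟨j, φ, hj⟩ := exists_isProper_stage D c hc i qi hprop
  haveI := hj
  let γ₀ : Y ⟶ pullback qi (c.π.app i) := k ≫ hpb.isoPullback.hom
  haveI : IsClosedImmersion γ₀ := inferInstance
  have hγ₀snd : γ₀ ≫ pullback.snd qi (c.π.app i) = h := by
    simp only [γ₀, Category.assoc, IsPullback.isoPullback_hom_snd]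
    exact hkq
  let γ : Y ⟶ (bcCone D c qi).pt := γ₀
  haveI : IsClosedImmersion γ := inferInstanceAs (IsClosedImmersion γ₀)
  have hγsnd : ∀ m : Over i, (γ ≫ (bcCone D c qi).π.app m) ≫ pullback.snd qi (D.map m.hom) =
      h ≫ c.π.app m.left := by
    intro m
    show (γ₀ ≫ bcProj D c qi m) ≫ pullback.snd qi (D.map m.hom) = h ≫ c.π.app m.left
    rw [Category.assoc, bcProj_snd, ← Category.assoc, hγ₀snd]
  let k₀ : Over i := Over.mk φ
  have hc0 : CompactSpace (pullback qi (D.map φ) : Scheme.{u}) :=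
    QuasiCompact.compactSpace_of_compactSpace (pullback.snd qi (D.map φ))
  haveI : CompactSpace ((bcDiagram D qi).obj k₀) := hc0
  haveI : ∀ (a b : Over i) (m : a ⟶ b), IsAffineHom ((bcDiagram D qi).map m) := fun a b m =>
    isAffineHom_bcMap D qi m (hDaff _)
  have hft : LocallyOfFiniteType (γ ≫ (bcCone D c qi).π.app k₀) := by
    have e1 : (γ ≫ (bcCone D c qi).π.app k₀) ≫ (pullback.snd qi (D.map φ) ≫ t.app j) =
        h ≫ c.π.app i₀ ≫ t.app i₀ := by
      rw [← Category.assoc, show (γ ≫ (bcCone D c qi).π.app k₀) ≫ pullback.snd qi (D.map φ) =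
        h ≫ c.π.app j from hγsnd k₀, Category.assoc]
      congr 1
      exact hind j i₀
    haveI : LocallyOfFiniteType
        ((γ ≫ (bcCone D c qi).π.app k₀) ≫ (pullback.snd qi (D.map φ) ≫ t.app j)) := by
      rw [e1]
      infer_instance
    exact locallyOfFiniteType_of_comp _ (pullback.snd qi (D.map φ) ≫ t.app j)
  obtain ⟨k₁, hk₁⟩ := exists_isClosedImmersion_comp_π (bcDiagram D qi) (bcCone D c qi)
    (isLimitBcCone D c qi hc) γ k₀ hft
  refine ⟨k₁.left.left, fun i' a => ?_⟩
  let m : Over i := Over.mk (a ≫ k₁.left.hom)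
  let ψ : m ⟶ k₁.left := Over.homMk a
  let k' : Over k₀ := Over.mk (ψ ≫ k₁.hom)
  let ψ' : k' ⟶ k₁ := Over.homMk ψ
  have hcl : IsClosedImmersion (γ ≫ (bcCone D c qi).π.app m) := hk₁ k' ψ'
  have hpm : IsProper (pullback.snd qi (D.map m.hom)) := by
    have e2 : D.map m.hom = D.map (a ≫ k₁.hom.left) ≫ D.map φ := by
      rw [← D.map_comp]
      congr 1
      show a ≫ k₁.left.hom = (a ≫ k₁.hom.left) ≫ φ
      rw [Category.assoc]
      congr 1
      exact (Over.w k₁.hom).symm
    rw [bc_congr (P := @IsProper) qi e2]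
    exact bc_of_comp qi (D.map φ) _ hj
  have e3 : h ≫ c.π.app i' = (γ ≫ (bcCone D c qi).π.app m) ≫ pullback.snd qi (D.map m.hom) :=
    (hγsnd m).symm
  rw [e3]
  show IsProper ((γ₀ ≫ bcProj D c qi m) ≫ pullback.snd qi (D.map m.hom))
  haveI : IsClosedImmersion (γ₀ ≫ bcProj D c qi m) := hcl
  haveI := hpm
  infer_instance

end Stage

end Groth.Agent.H5.NApprox
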