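import Mathlib
import Groth.Agent.Lib.Helper5.NApprox.ImgA
import Groth.Agent.Lib.Helper5.NApprox.PropC

/-!
# A proper morphism over a qcqs base is a limit of proper morphisms over finite type
`ℤ`-schemes (helper5)
-/

set_option autoImplicit false

namespace Groth.Agent.H5.NApprox

open AlgebraicGeometry CategoryTheory Opposite Limits Groth.Agent.H5.Lim

universe u

theorem proper_limit_of_ft {X S : Scheme.{u}} (f : X ⟶ S) [IsProper f] [CompactSpace S]
    [QuasiSeparatedSpace S] :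
    ∃ (I : Type u) (_ : SmallCategory I) (_ : IsCofiltered I) (DX DS : I ⥤ Scheme.{u}) (φ : DX ⟶ DS)
      (cX : Limits.Cone DX) (cS : Limits.Cone DS) (_ : Limits.IsLimit cX) (_ : Limits.IsLimit cS)
      (eX : cX.pt ≅ X) (eS : cS.pt ≅ S),
      (∀ (i j : I) (a : i ⟶ j), IsAffineHom (DX.map a) ∧ IsAffineHom (DS.map a)) ∧
      (∀ i, IsProper (φ.app i) ∧ CompactSpace (DS.obj i) ∧
        LocallyOfFiniteType (Limits.IsTerminal.from specULiftZIsTerminal (DS.obj i))) ∧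
      (∀ i, cX.π.app i ≫ φ.app i = eX.hom ≫ f ≫ eS.inv ≫ cS.π.app i) := by
  obtain ⟨X', f', jj, hf'p, hf'fp, hjj, hjf⟩ := exists_closedImmersion_proper_fp f
  obtain ⟨I₀, pI, dI, nI, DS₀, cS₀, hcS₀, haff, hst, ⟨e⟩⟩ := absApprox S
  haveI : IsCofiltered I₀ᵒᵖ := inferInstance
  haveI hcpt : ∀ i, CompactSpace (DS₀.obj i) := fun i => (hst i).1
  haveI hqs : ∀ i, QuasiSeparatedSpace (DS₀.obj i) := fun i => by
    haveI := (hst i).2
    exact quasiSeparatedSpace_of_lft _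
  haveI haff' : ∀ (i j : I₀ᵒᵖ) (a : i ⟶ j), IsAffineHom (DS₀.map a) := haff
  let q : X' ⟶ cS₀.pt := f' ≫ e.inv
  haveI : IsProper q := inferInstance
  haveI : LocallyOfFinitePresentation q := inferInstance
  haveI : QuasiCompact q := inferInstance
  haveI : QuasiSeparated q := inferInstance
  obtain ⟨i, X'i, qi, g, hqi1, hqi2, hqi3, hpb⟩ := Groth.Agent.S0591.result DS₀ cS₀ hcS₀ X' q
  haveI : LocallyOfFiniteType qi := inferInstance
  have hprop : IsProper (pullback.snd qi (cS₀.π.app i)) := by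
    have : pullback.snd qi (cS₀.π.app i) = hpb.isoPullback.inv ≫ q := by
      rw [Iso.eq_inv_comp]
      exact hpb.isoPullback_hom_snd
    rw [this]
    infer_instance
  obtain ⟨i₁, φ₁, hj⟩ := exists_isProper_stage DS₀ cS₀ hcS₀ i qi hprop
  let X'₁ : Scheme.{u} := pullback qi (DS₀.map φ₁)
  let q₁ : X'₁ ⟶ DS₀.obj i₁ := pullback.snd qi (DS₀.map φ₁)
  haveI hq₁ : IsProper q₁ := hj
  haveI : QuasiSeparatedSpace X'₁ := quasiSeparatedSpace_of_quasiSeparated q₁
  let g₁ : X' ⟶ X'₁ := pullback.lift g (q ≫ cS₀.π.app i₁) (by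
    rw [Category.assoc, cS₀.w]
    exact hpb.w)
  have hg₁fst : g₁ ≫ pullback.fst qi (DS₀.map φ₁) = g := pullback.lift_fst _ _ _
  have hg₁snd : g₁ ≫ q₁ = q ≫ cS₀.π.app i₁ := pullback.lift_snd _ _ _
  have hpb₁ : IsPullback g₁ q q₁ (cS₀.π.app i₁) := by
    refine IsPullback.of_right ?_ hg₁snd (IsPullback.of_hasPullback qi (DS₀.map φ₁))
    rw [hg₁fst, cS₀.w]
    exact hpb
  -- the base change system
  let E : Over i₁ ⥤ Scheme.{u} := bcDiagram DS₀ q₁
  let cE : Cone E := bcCone DS₀ cS₀ q₁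
  have hcE : IsLimit cE := isLimitBcCone DS₀ cS₀ q₁ hcS₀
  haveI hEaff : ∀ {k k' : Over i₁} (a : k ⟶ k'), IsAffineHom (E.map a) := fun a =>
    isAffineHom_bcMap DS₀ q₁ a (haff _ _ _)
  haveI hEqs : ∀ k, QuasiSeparatedSpace (E.obj k) := fun k =>
    quasiSeparatedSpace_bcDiagram_obj DS₀ q₁ k (haff _ _ _)
  let γ' : X ⟶ pullback q₁ (cS₀.π.app i₁) := jj ≫ hpb₁.isoPullback.hom
  haveI : IsClosedImmersion γ' := inferInstance
  let γ : X ⟶ cE.pt := γ'
  haveI : IsClosedImmersion γ := inferInstanceAs (IsClosedImmersion γ')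
  have hγsnd : γ' ≫ pullback.snd q₁ (cS₀.π.app i₁) = f ≫ e.inv := by
    show (jj ≫ hpb₁.isoPullback.hom) ≫ pullback.snd q₁ (cS₀.π.app i₁) = f ≫ e.inv
    rw [Category.assoc, hpb₁.isoPullback_hom_snd, ← hjf, Category.assoc]
  refine ⟨Over i₁, inferInstance, inferInstance, imgD E cE γ, Over.forget i₁ ⋙ DS₀,
    imgι E cE γ ≫ bcDiagramι DS₀ q₁, imgCone E cE γ, cS₀.whisker (Over.forget i₁),
    imgIsLimit E cE hcE γ,
    (Functor.Initial.isLimitWhiskerEquiv (Over.forget i₁) cS₀).symm hcS₀,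
    Iso.refl X, e, ?_, ?_, ?_⟩
  · intro k k' a
    exact ⟨isAffineHom_imgMap E cE γ a, haff _ _ _⟩
  · intro k
    refine ⟨?_, hcpt _, (hst _).2⟩
    let ιk : (imgIdeal E cE γ k).subscheme ⟶ E.obj k := (imgIdeal E cE γ k).subschemeι
    let pk : E.obj k ⟶ DS₀.obj k.left := pullback.snd q₁ (DS₀.map k.hom)
    haveI : IsProper pk :=
      MorphismProperty.pullback_snd (P := @IsProper) _ _ hq₁
    haveI : IsClosedImmersion ιk := inferInstanceAs (IsClosedImmersion (imgIdeal E cE γ k).subschemeι)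
    show IsProper (ιk ≫ pk)
    infer_instance
  · intro k
    show imgProj E cE γ k ≫ (imgIdeal E cE γ k).subschemeι ≫ pullback.snd q₁ (DS₀.map k.hom) =
      𝟙 X ≫ f ≫ e.inv ≫ cS₀.π.app k.left
    rw [imgProj_ι_assoc, Category.id_comp]
    show γ' ≫ bcProj DS₀ cS₀ q₁ k ≫ pullback.snd q₁ (DS₀.map k.hom) = _
    rw [bcProj_snd, ← Category.assoc, hγsnd, Category.assoc]

end Groth.Agent.H5.NApprox
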