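import Mathlib
import Groth.Agent.Lib.Helper5.NApprox.IntB
import Groth.Agent.Lib.Helper5.Lim.ImmersionIntoLimit

/-!
# Factorisation into an immersion followed by a finite morphism and the relative
normalisation (helper5)
-/

set_option autoImplicit false

namespace Groth.Agent.H5.NApprox

open AlgebraicGeometry CategoryTheory Opposite Limits

universe u

theorem exists_immersion_finite_fac_iff {X Y : Scheme.{u}} (f : X ⟶ Y)
    [CompactSpace Y] [QuasiSeparatedSpace Y] [LocallyOfFiniteType f] [QuasiCompact f]
    [QuasiSeparated f] :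
    (∃ (Y' : Scheme.{u}) (f' : X ⟶ Y') (u : Y' ⟶ Y), IsImmersion f' ∧ IsFinite u ∧ f' ≫ u = f) ↔
      IsImmersion f.toNormalization := by
  constructor
  · rintro ⟨Y', f', u, hf', hu, hfu⟩
    haveI : IsIntegralHom u := inferInstance
    have h1 : f.toNormalization ≫ f.normalizationDesc f' u hfu.symm = f' :=
      f.toNormalization_normalizationDesc f' u hfu.symm
    haveI : IsImmersion (f.toNormalization ≫ f.normalizationDesc f' u hfu.symm) := by
      rw [h1]; exact hf'
    exact IsImmersion.of_comp f.toNormalization (f.normalizationDesc f' u hfu.symm)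
  · intro himm
    obtain ⟨I, pI, dI, nI, D, c, hc, hprops, ⟨e⟩⟩ :=
      exists_limit_finite_fp_of_integral f.fromNormalization
    haveI : IsConnected Iᵒᵖ := IsCofiltered.isConnected _
    have hcE : IsLimit ((Over.forget Y).mapCone c) := isLimitOfPreserves (Over.forget Y) hc
    haveI : ∀ (i j : Iᵒᵖ) (a : i ⟶ j), IsAffineHom ((D ⋙ Over.forget Y).map a) := by
      intro i j a
      show IsAffineHom (D.map a).left
      haveI := (hprops j).1
      haveI := (hprops i).1
      haveI : IsAffineHom ((D.map a).left ≫ (D.obj j).hom) := by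
        rw [Over.w (D.map a)]
        infer_instance
      exact IsAffineHom.of_comp (D.map a).left (D.obj j).hom
    haveI : CompactSpace X := QuasiCompact.compactSpace_of_compactSpace f
    let γ : X ⟶ ((Over.forget Y).mapCone c).pt := f.toNormalization ≫ e.inv.left
    haveI : IsImmersion γ := inferInstanceAs (IsImmersion (f.toNormalization ≫ e.inv.left))
    have hγ : ∀ k : Iᵒᵖ, (γ ≫ ((Over.forget Y).mapCone c).π.app k) ≫ (D.obj k).hom = f := by
      intro k
      show ((f.toNormalization ≫ e.inv.left) ≫ (c.π.app k).left) ≫ (D.obj k).hom = f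
      rw [Category.assoc, Category.assoc, Over.w (c.π.app k)]
      show f.toNormalization ≫ e.inv.left ≫ c.pt.hom = f
      rw [show e.inv.left ≫ c.pt.hom = f.fromNormalization from Over.w e.inv,
        f.toNormalization_fromNormalization]
    let k₀ : Iᵒᵖ := op nI.some
    have hft : LocallyOfFiniteType (γ ≫ ((Over.forget Y).mapCone c).π.app k₀) := by
      haveI : LocallyOfFiniteType
          ((γ ≫ ((Over.forget Y).mapCone c).π.app k₀) ≫ (D.obj k₀).hom) := by
        rw [hγ k₀]; infer_instance
      exact locallyOfFiniteType_of_comp _ (D.obj k₀).hom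
    obtain ⟨k, hk⟩ := Groth.Agent.H5.Lim.exists_isImmersion_comp_π (D ⋙ Over.forget Y)
      ((Over.forget Y).mapCone c) hcE γ k₀ hft
    exact ⟨(D.obj k.left).left, γ ≫ ((Over.forget Y).mapCone c).π.app k.left, (D.obj k.left).hom,
      hk k (𝟙 k), (hprops k.left).1, hγ k.left⟩

end Groth.Agent.H5.NApprox
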